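import Cfsg.Agent.H514.OrdRed
import Cfsg.Agent.S0073

/-!
# Simple groups all of whose composite element orders are products of two distinct primes
-/

set_option autoImplicit false
set_option linter.style.haveILetI false

namespace Cfsg.Agent.H514.OC

open Cfsg.Agent.H493.PG Subgroup

universe u v

theorem exists_primePow_not_mem {G : Type*} [Group G] [Finite G] (C : Subgroup G) :
    ∀ (n : ℕ) (y : G), orderOf y = n → y ∉ C → ∃ k : ℕ, y ^ k ∉ C ∧ IsPrimePow (orderOf (y ^ k)) := by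
  intro n
  induction n using Nat.strong_induction_on with
  | _ n ih =>
  intro y hy hyC
  by_cases hpp : IsPrimePow n
  · exact ⟨1, by simpa using hyC, by simpa [hy] using hpp⟩
  have hn1 : n ≠ 1 := by
    rintro rfl
    exact hyC (by rw [orderOf_eq_one_iff.1 hy]; exact C.one_mem)
  have hn0 : n ≠ 0 := by rw [← hy]; exact (orderOf_pos y).ne'
  let p := n.minFac
  have hp : p.Prime := Nat.minFac_prime hn1
  have hpn : p ∣ n := Nat.minFac_dvd n
  let a := ordProj[p] n
  let b := ordCompl[p] n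
  have hab : a * b = n := Nat.ordProj_mul_ordCompl_eq_self n p
  have hcop : a.Coprime b := (Nat.coprime_ordCompl hp hn0).pow_left _
  have ha1 : 1 < a := by
    have : n.factorization p ≠ 0 := by
      rw [Ne, Nat.factorization_eq_zero_iff]
      push Not
      exact ⟨hp, hpn, hn0⟩
    exact Nat.one_lt_pow this hp.one_lt
  have hb1 : 1 < b := by
    have hb0 : b ≠ 0 := by
      intro h
      rw [h, mul_zero] at hab
      exact hn0 hab.symm
    have : b ≠ 1 := by
      intro h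
      apply hpp
      rw [← hab, h, mul_one]
      refine hp.isPrimePow.pow ?_
      rw [Ne, Nat.factorization_eq_zero_iff]
      push Not
      exact ⟨hp, hpn, hn0⟩
    exact lt_of_le_of_ne (Nat.one_le_iff_ne_zero.2 hb0) (Ne.symm this)
  have hoa : orderOf (y ^ a) = b := by
    rw [orderOf_pow_of_dvd (zero_lt_one.trans ha1).ne' (by rw [hy, ← hab]; exact Dvd.intro _ rfl), hy, ← hab]
    exact Nat.mul_div_cancel_left _ (zero_lt_one.trans ha1)
  have hob : orderOf (y ^ b) = a := by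
    rw [orderOf_pow_of_dvd (zero_lt_one.trans hb1).ne' (by rw [hy, ← hab]; exact Dvd.intro_left _ rfl), hy, ← hab]
    exact Nat.mul_div_cancel _ (zero_lt_one.trans hb1)
  by_cases h1 : y ^ a ∈ C
  · by_cases h2 : y ^ b ∈ C
    · exfalso
      apply hyC
      have h3 : y ^ ((a.gcd b : ℕ) : ℤ) ∈ C := by
        rw [Nat.gcd_eq_gcd_ab, zpow_add, zpow_mul, zpow_mul, zpow_natCast, zpow_natCast]
        exact C.mul_mem (C.zpow_mem h1 _) (C.zpow_mem h2 _)
      rw [hcop.gcd_eq_one] at h3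
      simpa using h3
    · obtain ⟨k, hk1, hk2⟩ := ih a (by nlinarith) (y ^ b) hob h2
      exact ⟨b * k, by rwa [pow_mul], by rwa [pow_mul]⟩
  · obtain ⟨k, hk1, hk2⟩ := ih b (by nlinarith) (y ^ a) hoa h1
    exact ⟨a * k, by rwa [pow_mul], by rwa [pow_mul]⟩

/-- `OtS K = ∅`: no composite prime power orders -/
theorem not_sq_dvd {K : Type*} [Group K] [Finite K] (h : OtS K = ∅) (x : K) {p : ℕ} (hp : p.Prime) :
    ¬ p * p ∣ orderOf x := by
  intro hd
  obtain ⟨k, hk⟩ := exists_pow_orderOf (orderOf_pos x).ne' hd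
  have h1 : p * p ∈ OtS K := by
    refine ⟨mul_mem_CoS hp hp hk, ?_⟩
    rintro ⟨a, b, ha, hb, hab, h2⟩
    have h3 : a ∣ p * p := ⟨b, h2⟩
    have h4 : b ∣ p * p := ⟨a, by rw [h2, mul_comm]⟩
    have h5 : a = p := by
      rcases ha.dvd_mul.1 h3 with h | h <;> exact (Nat.prime_dvd_prime_iff_eq ha hp).1 h
    have h6 : b = p := by
      rcases hb.dvd_mul.1 h4 with h | h <;> exact (Nat.prime_dvd_prime_iff_eq hb hp).1 h
    exact hab (h5.trans h6.symm)
  rw [h] at h1
  exact h1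

theorem orderOf_of_primePow {K : Type*} [Group K] [Finite K] (h : OtS K = ∅) (x : K) (hx : IsPrimePow (orderOf x)) :
    (orderOf x).Prime := by
  obtain ⟨p, k, hp, hk, he⟩ := hx
  have hp' : p.Prime := hp.nat_prime
  have : k = 1 := by
    by_contra hne
    apply not_sq_dvd h x hp'
    rw [← he, ← pow_two]
    exact pow_dvd_pow p (by omega)
  rw [← he, this, pow_one]; exact hp'

/-- 2-subgroups are elementary abelian -/
theorem sq_eq_one {K : Type*} [Group K] [Finite K] (h : OtS K = ∅) {S : Subgroup K} (hS : IsPGroup 2 S) :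
    ∀ s ∈ S, s * s = 1 := by
  intro s hs
  obtain ⟨k, hk⟩ := (IsPGroup.iff_orderOf.1 hS) ⟨s, hs⟩
  rw [Subgroup.orderOf_mk] at hk
  have h1 : k ≤ 1 := by
    by_contra hne
    apply not_sq_dvd h s Nat.prime_two
    rw [hk, ← pow_two]
    exact pow_dvd_pow 2 (by omega)
  rw [← pow_two]
  apply orderOf_dvd_iff_pow_eq_one.1
  rw [hk]
  exact (pow_dvd_pow 2 h1)

theorem comm_of_sq {K : Type*} [Group K] {S : Subgroup K} (h : ∀ s ∈ S, s * s = 1) :
    ∀ s ∈ S, ∀ t ∈ S, s * t = t * s := by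
  intro s hs t ht
  have h1 := h s hs
  have h2 := h t ht
  have h3 := h _ (S.mul_mem hs ht)
  have hs' : s⁻¹ = s := inv_eq_of_mul_eq_one_left h1
  have ht' : t⁻¹ = t := inv_eq_of_mul_eq_one_left h2
  have h4 : (s * t)⁻¹ = s * t := inv_eq_of_mul_eq_one_left h3
  rw [← h4, mul_inv_rev, hs', ht']

/-- An element of odd prime order acting non-trivially on an elementary abelian 2-subgroup acts fixed point freely on
a non-trivial subgroup. -/
theorem act_of_normalizer {K : Type*} [Group K] [Finite K] (S : Subgroup K) (hS : ∀ s ∈ S, s * s = 1) {y : K} {p : ℕ}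
    (hp : p.Prime) (hp2 : p ≠ 2) (hy : orderOf y = p) (hyS : ∀ s ∈ S, y * s * y⁻¹ ∈ S) (hnc : ∃ s ∈ S, y * s ≠ s * y) :
    ∃ E : Subgroup K, E ≤ S ∧ E ≠ ⊥ ∧ (∀ e ∈ E, y * e * y⁻¹ ∈ E) ∧ (∀ e ∈ E, y * e * y⁻¹ = e → e = 1) ∧
      p ∣ Nat.card E - 1 := by
  classical
  haveI := Fact.mk hp
  have hcomm := comm_of_sq hS
  have hinv : ∀ s ∈ S, s⁻¹ = s := fun s hs => inv_eq_of_mul_eq_one_left (hS s hs)
  let E : Subgroup K :=
    { carrier := {e | ∃ s ∈ S, e = y * s * y⁻¹ * s}
      one_mem' := ⟨1, S.one_mem, by simp⟩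
      mul_mem' := by
        rintro a b ⟨s, hs, rfl⟩ ⟨t, ht, rfl⟩
        refine ⟨s * t, S.mul_mem hs ht, ?_⟩
        have h1 := hcomm s hs (y * t * y⁻¹) (hyS t ht)
        calc y * s * y⁻¹ * s * (y * t * y⁻¹ * t) = y * s * y⁻¹ * (s * (y * t * y⁻¹)) * t := by group
          _ = y * s * y⁻¹ * ((y * t * y⁻¹) * s) * t := by rw [h1]
          _ = y * (s * t) * y⁻¹ * (s * t) := by group
      inv_mem' := by
        rintro a ⟨s, hs, rfl⟩
        refine ⟨s, hs, ?_⟩
        exact hinv _ (S.mul_mem (hyS s hs) hs) }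
  have hES : E ≤ S := by
    rintro _ ⟨s, hs, rfl⟩
    exact S.mul_mem (hyS s hs) hs
  have hyE : ∀ e ∈ E, y * e * y⁻¹ ∈ E := by
    rintro _ ⟨s, hs, rfl⟩
    exact ⟨y * s * y⁻¹, hyS s hs, by group⟩
  have hfix : ∀ e ∈ E, y * e * y⁻¹ = e → e = 1 := by
    rintro _ ⟨s, hs, rfl⟩ h
    -- `y ^ 2` centralises `s`
    have h1 := hyS s hs
    have h2 := hyS _ h1
    have h3 : (y * (y * s * y⁻¹) * y⁻¹) * (y * s * y⁻¹) = (y * s * y⁻¹) * s := by
      calc (y * (y * s * y⁻¹) * y⁻¹) * (y * s * y⁻¹) = y * (y * s * y⁻¹ * s) * y⁻¹ := by group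
        _ = (y * s * y⁻¹) * s := h
    have h4 : y * (y * s * y⁻¹) * y⁻¹ = s := by
      have h5 := hS _ h1
      calc y * (y * s * y⁻¹) * y⁻¹ = (y * (y * s * y⁻¹) * y⁻¹) * ((y * s * y⁻¹) * (y * s * y⁻¹)) := by rw [h5, mul_one]
        _ = (y * (y * s * y⁻¹) * y⁻¹) * (y * s * y⁻¹) * (y * s * y⁻¹) := by group
        _ = (y * s * y⁻¹) * s * (y * s * y⁻¹) := by rw [h3]
        _ = s * (y * s * y⁻¹) * (y * s * y⁻¹) := by rw [hcomm _ h1 s hs]
        _ = s := by rw [mul_assoc, h5, mul_one]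
    have h6 : Commute (y ^ 2) s := by
      show y ^ 2 * s = s * y ^ 2
      rw [pow_two]
      calc y * y * s = (y * (y * s * y⁻¹) * y⁻¹) * (y * y) := by group
        _ = s * (y * y) := by rw [h4]
    have hodd : Odd p := hp.odd_of_ne_two hp2
    obtain ⟨k, hk⟩ := hodd
    have h7 : (y ^ 2) ^ (k + 1) = y := by
      rw [← pow_mul, show 2 * (k + 1) = p + 1 by omega, pow_succ, ← hy, pow_orderOf_eq_one, one_mul]
    have h8 : Commute y s := by
      rw [← h7]; exact h6.pow_left _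
    have h9 : y * s * y⁻¹ = s := by rw [h8.eq, mul_inv_cancel_right]
    rw [h9, hS s hs]
  refine ⟨E, hES, ?_, hyE, hfix, ?_⟩
  · intro hE
    obtain ⟨s, hs, hne⟩ := hnc
    have h1 : y * s * y⁻¹ * s ∈ E := ⟨s, hs, rfl⟩
    rw [hE, mem_bot] at h1
    apply hne
    have h2 : y * s * y⁻¹ = s⁻¹ := eq_inv_of_mul_eq_one_left h1
    rw [hinv s hs] at h2
    calc y * s = (y * s * y⁻¹) * y := by group
      _ = s * y := by rw [h2]
  · -- counting
    have hzE : ∀ z ∈ zpowers y, ∀ e ∈ E, z * e * z⁻¹ ∈ E := by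
      have hle : zpowers y ≤ normalizer (E : Set K) := by
        rw [zpowers_le]
        have h1 : E.map (MulAut.conj y).toMonoidHom = E := by
          apply Subgroup.eq_of_le_of_card_ge
          · rintro _ ⟨f, hf, rfl⟩
            exact hyE f hf
          · rw [Subgroup.card_map_of_injective (MulAut.conj y).injective]
        exact mem_normalizer_iff_map_conj_eq.2 h1
      intro z hz e he
      exact (mem_normalizer_iff.1 (hle hz) e).1 he
    let act : MulAction (zpowers y) E :=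
      { smul := fun z e => ⟨z * e * (z : K)⁻¹, hzE z z.2 e e.2⟩
        one_smul := fun e => Subtype.ext (by show (1 : K) * e * (1 : K)⁻¹ = e; simp)
        mul_smul := fun a b e => Subtype.ext (by
          show ((a * b : zpowers y) : K) * e * ((a * b : zpowers y) : K)⁻¹ = a * (b * e * (b : K)⁻¹) * (a : K)⁻¹
          rw [Subgroup.coe_mul]; group) }
    have hpg : IsPGroup p (zpowers y) := by
      refine IsPGroup.of_card (n := 1) ?_
      rw [Nat.card_zpowers, hy, pow_one]
    have h1 := hpg.card_modEq_card_fixedPoints E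
    have h2 : Nat.card (MulAction.fixedPoints (zpowers y) E) = 1 := by
      rw [Nat.card_eq_one_iff_unique]
      constructor
      · constructor
        rintro ⟨a, ha⟩ ⟨b, hb⟩
        have key : ∀ e : E, e ∈ MulAction.fixedPoints (zpowers y) E → e = 1 := by
          intro e he
          have h3 := he ⟨y, mem_zpowers y⟩
          have h4 : y * (e : K) * y⁻¹ = e := congrArg Subtype.val h3
          exact Subtype.ext (hfix e e.2 h4)
        apply Subtype.ext
        show a = b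
        rw [key a ha, key b hb]
      · refine ⟨1, fun z => Subtype.ext ?_⟩
        show (z : K) * 1 * (z : K)⁻¹ = 1
        simp
    rw [h2] at h1
    exact (Nat.modEq_iff_dvd' Nat.card_pos).1 h1.symm

/-- A Burnside element for an abelian Sylow 2-subgroup. -/
theorem exists_burnside {K : Type*} [Group K] [Finite K] [IsSimpleGroup K] (hna : ¬ IsMulCommutative K)
    (h2 : 2 ∣ Nat.card K) (hot : OtS K = ∅) (S : Sylow 2 K) :
    ∃ (y : K) (p : ℕ), p.Prime ∧ p ≠ 2 ∧ orderOf y = p ∧ (∀ s ∈ (S : Subgroup K), y * s * y⁻¹ ∈ (S : Subgroup K)) ∧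
      ∃ s ∈ (S : Subgroup K), y * s ≠ s * y := by
  classical
  haveI : Fact (Nat.Prime 2) := ⟨Nat.prime_two⟩
  have hG : ∃ x y : K, x * y ≠ y * x := by
    by_contra hcon
    push Not at hcon
    exact hna ⟨⟨hcon⟩⟩
  have h1 := Cfsg.Agent.S0073.not_normalizer_le_centralizer hG h2 S
  have hsq := sq_eq_one hot S.2
  have hcomm := comm_of_sq hsq
  rw [SetLike.not_le_iff_exists] at h1
  obtain ⟨g, hgN, hgC⟩ := h1
  obtain ⟨k, hk1, hk2⟩ := exists_primePow_not_mem (centralizer ((S : Subgroup K) : Set K)) _ g rfl hgC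
  set y := g ^ k with hy
  have hyN : y ∈ normalizer ((S : Subgroup K) : Set K) := Subgroup.pow_mem _ hgN k
  have hyS : ∀ s ∈ (S : Subgroup K), y * s * y⁻¹ ∈ (S : Subgroup K) := fun s hs => (mem_normalizer_iff.1 hyN s).1 hs
  have hnc : ∃ s ∈ (S : Subgroup K), y * s ≠ s * y := by
    by_contra hcon
    push Not at hcon
    exact hk1 (mem_centralizer_iff.2 fun s hs => (hcon s hs).symm)
  refine ⟨y, orderOf y, orderOf_of_primePow hot y hk2, ?_, rfl, hyS, hnc⟩
  intro hy2
  obtain ⟨s, hs, hne⟩ := hnc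
  -- `y ∈ S`
  have hyp : IsPGroup 2 (zpowers y) := by
    refine IsPGroup.of_card (n := 1) ?_
    rw [Nat.card_zpowers, hy2, pow_one]
  have hle : zpowers y ≤ (S : Subgroup K) := by
    have h3 : IsPGroup 2 ((S : Subgroup K) ⊔ zpowers y : Subgroup K) :=
      S.2.to_sup_of_normal_left' hyp (by rw [zpowers_le]; exact hyN)
    have h4 := S.3 h3 le_sup_left
    rw [← h4]; exact le_sup_right
  exact hne (hcomm y (hle (mem_zpowers y)) s hs)

/-- Modules in characteristic 2 for groups without elements of order 4. -/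
theorem two_of_no_four {S : Type v} [Group S] (h2 : ∃ x : S, orderOf x = 2) (h4 : ∀ x : S, orderOf x ≠ 4)
    (G : Type u) [Group G] [Finite G] (V : Subgroup G) [V.Normal]
    (hVr : ∀ v ∈ V, v ^ 2 = 1) (hCV : ∀ g : G, (∀ v ∈ V, g * v = v * g) → g ∈ V)
    (e : Nonempty (G ⧸ V ≃* S)) (hcos : CoS G ⊆ CoS S) : False := by
  haveI : Fact (Nat.Prime 2) := ⟨Nat.prime_two⟩
  obtain ⟨e⟩ := e
  obtain ⟨x, hx⟩ := h2
  have hex : orderOf (e.symm x) = 2 := by rw [MulEquiv.orderOf_eq, hx]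
  obtain ⟨t, ht⟩ := QuotientGroup.mk_surjective (e.symm x)
  have hsq : ∀ w : G, (w : G ⧸ V) = e.symm x → w * w = 1 := by
    intro w hw
    have h1 : w * w ∈ V := by
      rw [← QuotientGroup.eq_one_iff, QuotientGroup.mk_mul, hw, ← pow_two, ← hex, pow_orderOf_eq_one]
    by_contra hne
    have h3 : orderOf w = 2 ^ (1 + 1) := by
      refine orderOf_eq_prime_pow (by rwa [pow_one, pow_two]) ?_
      rw [pow_succ, pow_one, pow_mul, pow_two w]
      exact hVr _ h1
    have h5 : 2 * 2 ∈ CoS G := mul_mem_CoS Nat.prime_two Nat.prime_two (g := w) (by rw [h3]; norm_num)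
    obtain ⟨⟨y, hy⟩, _⟩ := hcos h5
    exact h4 y hy
  have htV : t ∈ V := by
    apply hCV
    intro v hv
    have h1 := hsq t ht
    have h3 := hsq (t * v) (by rw [QuotientGroup.mk_mul, (QuotientGroup.eq_one_iff v).2 hv, mul_one, ht])
    have h5 : v * v = 1 := by rw [← pow_two]; exact hVr v hv
    have ht' : t⁻¹ = t := inv_eq_of_mul_eq_one_left h1
    have hv' : v⁻¹ = v := inv_eq_of_mul_eq_one_left h5
    have h6 : (t * v)⁻¹ = t * v := inv_eq_of_mul_eq_one_left h3
    rw [← h6, mul_inv_rev, ht', hv']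
  have h1 : e.symm x = 1 := by rw [← ht]; exact (QuotientGroup.eq_one_iff t).2 htV
  rw [h1, orderOf_one] at hex
  norm_num at hex

end Cfsg.Agent.H514.OC
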