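import Cfsg.Agent.H514.OrdModule

/-!
# Modules in characteristic 2: elements of order 8

`V` a normal elementary abelian 2-subgroup of `G`; in `G ⧸ V` an element `u` of order 4 acts as a Frobenius complement
on `⟨x⟩`, `x` of odd prime order `l` not centralising `V`.  Then `G` has an element of order 8.
-/

set_option autoImplicit false
set_option linter.style.haveILetI false

namespace Cfsg.Agent.H514.OrdMod

open Subgroup
open scoped Pointwise

/-- Lifting of an `l`-subgroup `E` of `G ⧸ V` and of an element normalising it (`V` of order prime to `l`). -/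
theorem exists_lift_prime {G : Type*} [Group G] [Finite G] {l : ℕ} (hl : l.Prime) (V : Subgroup G) [V.Normal]
    (hV2 : ¬ l ∣ Nat.card V)
    (E : Subgroup (G ⧸ V)) (hE : IsPGroup l E) (y : G ⧸ V) (hy : ∀ e ∈ E, y * e * y⁻¹ ∈ E) :
    ∃ F : Subgroup G, F.map (QuotientGroup.mk' V) = E ∧ F ⊓ V = ⊥ ∧ IsPGroup l F ∧
      ∃ h : G, (h : G ⧸ V) = y ∧ ∀ f ∈ F, h * f * h⁻¹ ∈ F := by
  classical
  haveI : Fact l.Prime := ⟨hl⟩
  set X : Subgroup G := E.comap (QuotientGroup.mk' V) with hX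
  have hVX : V ≤ X := by
    intro v hv
    show (v : G ⧸ V) ∈ E
    rw [(QuotientGroup.eq_one_iff v).2 hv]; exact E.one_mem
  have hXmap : X.map (QuotientGroup.mk' V) = E :=
    Subgroup.map_comap_eq_self_of_surjective (QuotientGroup.mk'_surjective V) E
  obtain ⟨P⟩ : Nonempty (Sylow l X) := inferInstance
  set F : Subgroup G := (P : Subgroup X).map X.subtype with hF
  have hF2 : IsPGroup l F := P.2.map _
  have hFX : F ≤ X := Subgroup.map_subtype_le _
  have hFV : F ⊓ V = ⊥ := by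
    rw [eq_bot_iff]
    intro x hx
    rw [Subgroup.mem_bot]
    by_contra hx1
    obtain ⟨k, hk⟩ := (IsPGroup.iff_orderOf.1 hF2) ⟨x, hx.1⟩
    rw [Subgroup.orderOf_mk] at hk
    have hk0 : k ≠ 0 := by
      rintro rfl
      rw [pow_zero, orderOf_eq_one_iff] at hk
      exact hx1 hk
    apply hV2
    have h1 : orderOf x ∣ Nat.card V := by
      rw [← Subgroup.orderOf_mk x hx.2]; exact orderOf_dvd_natCard _
    exact (dvd_pow_self l hk0).trans (hk ▸ h1)
  have hEc : Nat.card X = Nat.card E * Nat.card V := by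
    have h1 := Subgroup.card_eq_card_quotient_mul_card_subgroup (V.subgroupOf X)
    have h2 : Nat.card (V.subgroupOf X) = Nat.card V := by
      rw [Nat.card_congr (Subgroup.subgroupOfEquivOfLe hVX).toEquiv]
    have h3 : Nat.card (X ⧸ V.subgroupOf X) = Nat.card E := by
      rw [← hXmap]
      have h4 : (V.subgroupOf X) = ((QuotientGroup.mk' V).comp X.subtype).ker := by
        rw [← MonoidHom.comap_ker, QuotientGroup.ker_mk']; rfl
      have h5 : ((QuotientGroup.mk' V).comp X.subtype).range = X.map (QuotientGroup.mk' V) := by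
        rw [MonoidHom.range_comp, Subgroup.range_subtype]
      rw [← h5]
      rw [Nat.card_congr (QuotientGroup.quotientMulEquivOfEq h4).toEquiv]
      exact Nat.card_congr (QuotientGroup.quotientKerEquivRange _).toEquiv
    rw [h1, h2, h3]
  obtain ⟨k, hk⟩ := IsPGroup.iff_card.1 hE
  have hFc : Nat.card F = Nat.card E := by
    have h1 : Nat.card F = Nat.card P := Subgroup.card_map_of_injective X.subtype_injective
    rw [h1, P.card_eq_multiplicity, hEc, hk]
    have h2 : (l ^ k * Nat.card V).factorization l = k := by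
      rw [Nat.factorization_mul (pow_pos hl.pos k).ne' Nat.card_pos.ne', Finsupp.add_apply,
        Nat.factorization_eq_zero_of_not_dvd hV2, Nat.Prime.factorization_pow hl]
      simp
    rw [h2]
  have hFmap : F.map (QuotientGroup.mk' V) = E := by
    apply Subgroup.eq_of_le_of_card_ge
    · rw [← hXmap]; exact Subgroup.map_mono hFX
    · have h1 : Nat.card (F.map (QuotientGroup.mk' V)) = Nat.card F := by
        have hinj : Function.Injective ((QuotientGroup.mk' V).comp F.subtype) := by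
          rw [injective_iff_map_eq_one]
          intro x hx
          have h2 : (x : G) ∈ F ⊓ V := ⟨x.2, (QuotientGroup.eq_one_iff _).1 hx⟩
          rw [hFV, Subgroup.mem_bot] at h2
          exact Subtype.ext h2
        have h5 : ((QuotientGroup.mk' V).comp F.subtype).range = F.map (QuotientGroup.mk' V) := by
          rw [MonoidHom.range_comp, Subgroup.range_subtype]
        rw [← h5]
        exact (Nat.card_congr (MonoidHom.ofInjective hinj).toEquiv).symm
      rw [h1, hFc]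
  refine ⟨F, hFmap, hFV, hF2, ?_⟩
  obtain ⟨y', rfl⟩ := QuotientGroup.mk_surjective y
  -- conjugation by `y'` on `X`
  have hXle : X.map (MulAut.conj y').toMonoidHom ≤ X := by
    rintro _ ⟨x, hx, rfl⟩
    show ((y' * x * y'⁻¹ : G) : G ⧸ V) ∈ E
    rw [QuotientGroup.mk_mul, QuotientGroup.mk_mul, QuotientGroup.mk_inv]
    exact hy _ hx
  have hXeq : X.map (MulAut.conj y').toMonoidHom = X := by
    apply Subgroup.eq_of_le_of_card_ge hXle
    rw [Subgroup.card_map_of_injective (MulAut.conj y').injective]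
  let φ : MulAut X := (((MulAut.conj y').subgroupMap X).trans (MulEquiv.subgroupCongr hXeq) : X ≃* X)
  have hφ : ∀ x : X, ((φ x : X) : G) = y' * x * y'⁻¹ := fun x => rfl
  obtain ⟨x, hx⟩ := MulAction.exists_smul_eq X (φ • P) P
  -- `x y'` normalises `F`
  have hxF : ∀ f ∈ F, ((x : G) * y') * f * ((x : G) * y')⁻¹ ∈ F := by
    rintro _ ⟨f, hf, rfl⟩
    have h1 : x * φ f * x⁻¹ ∈ (P : Subgroup X) := by
      have h2 : φ f ∈ ((φ • P : Sylow l X) : Subgroup X) := by
        show φ f ∈ (φ • (P : Subgroup X))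
        exact Subgroup.smul_mem_pointwise_smul f φ _ hf
      have h3 : x * φ f * x⁻¹ ∈ ((x • (φ • P) : Sylow l X) : Subgroup X) := by
        show x * φ f * x⁻¹ ∈ (MulAut.conj x • ((φ • P : Sylow l X) : Subgroup X))
        exact Subgroup.smul_mem_pointwise_smul (φ f) (MulAut.conj x) _ h2
      rw [hx] at h3
      exact h3
    refine ⟨_, h1, ?_⟩
    show ((x * φ f * x⁻¹ : X) : G) = _
    rw [Subgroup.coe_mul, Subgroup.coe_mul, hφ, Subgroup.coe_inv]
    show (x : G) * (y' * f * y'⁻¹) * (x : G)⁻¹ = (x * y') * f * (x * y')⁻¹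
    group
  have hxE : ((x : G) : G ⧸ V) ∈ E := x.2
  rw [← hFmap] at hxE
  obtain ⟨f, hf, hfx⟩ := hxE
  refine ⟨f⁻¹ * (x * y'), ?_, fun g hg => ?_⟩
  · have h1 : ((f : G) : G ⧸ V) = ((x : G) : G ⧸ V) := hfx
    rw [QuotientGroup.mk_mul, QuotientGroup.mk_mul, QuotientGroup.mk_inv, h1, inv_mul_cancel_left]
  · have h1 := hxF g hg
    have h2 : f⁻¹ * (x * y') * g * (f⁻¹ * (x * y'))⁻¹ = f⁻¹ * ((x * y') * g * (x * y')⁻¹) * f := by group
    rw [h2]
    exact F.mul_mem (F.mul_mem (F.inv_mem hf) h1) hf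

/-- **Elements of order 8.** -/
theorem exists_order_eight {G : Type*} [Group G] [Finite G] (V : Subgroup G) [V.Normal]
    (hVc : ∀ v ∈ V, ∀ w ∈ V, v * w = w * v) (hVr : ∀ v ∈ V, v ^ 2 = 1)
    {l : ℕ} (hl : l.Prime) (hl2 : l ≠ 2) {x y : G ⧸ V} (hx : orderOf x = l) (hy : orderOf y = 4)
    (hyx : y * x * y⁻¹ ∈ zpowers x)
    (hfix : ∀ i : ℕ, 0 < i → i < 4 → ∀ k : ℕ, Commute (x ^ k) (y ^ i) → x ^ k = 1)
    (hnc : ∃ g : G, (g : G ⧸ V) ∈ zpowers x ∧ ∃ v ∈ V, g * v ≠ v * g) : ∃ g : G, orderOf g = 8 := by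
  classical
  haveI : Fact (Nat.Prime 2) := ⟨Nat.prime_two⟩
  haveI := Fact.mk hl
  have hVp : IsPGroup 2 V := fun v => ⟨1, by
    rw [pow_one]; exact Subtype.ext (hVr v v.2)⟩
  have hVl : ¬ l ∣ Nat.card V := by
    intro h2
    obtain ⟨n, hn⟩ := IsPGroup.iff_card.1 hVp
    rw [hn] at h2
    exact hl2 ((Nat.prime_dvd_prime_iff_eq hl Nat.prime_two).1 (hl.dvd_of_dvd_pow h2))
  have hE : IsPGroup l (zpowers x) := by
    refine IsPGroup.of_card (n := 1) ?_
    rw [Nat.card_zpowers, hx, pow_one]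
  have hyE : ∀ e ∈ zpowers x, y * e * y⁻¹ ∈ zpowers x := by
    intro e he
    obtain ⟨k, rfl⟩ := mem_zpowers_iff.1 he
    have h1 : y * x ^ k * y⁻¹ = (y * x * y⁻¹) ^ k := by rw [conj_zpow]
    rw [h1]
    exact zpow_mem hyx k
  obtain ⟨F, hFmap, hFV, hFl, h, hhy, hF⟩ := exists_lift_prime hl V hVl (zpowers x) hE y hyE
  letI : Fintype F := Fintype.ofFinite F
  letI : CommGroup V := { (inferInstance : Group V) with mul_comm := fun v w => Subtype.ext (hVc v v.2 w w.2) }
  let a : G →* MulAut V := MulAut.conjNormal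
  have ha : ∀ g : G, ∀ v : V, ((a g v : V) : G) = g * v * g⁻¹ := fun g v => MulAut.conjNormal_apply g v
  have hF' : ∀ f ∈ F, h⁻¹ * f * h ∈ F := by
    have h1 : F.map (MulAut.conj h).toMonoidHom = F := by
      apply Subgroup.eq_of_le_of_card_ge
      · rintro _ ⟨f, hf, rfl⟩
        exact hF f hf
      · rw [Subgroup.card_map_of_injective (MulAut.conj h).injective]
    intro f hf
    rw [← h1] at hf
    obtain ⟨g, hg, rfl⟩ := hf
    have : h⁻¹ * ((MulAut.conj h).toMonoidHom g) * h = g := by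
      show h⁻¹ * (h * g * h⁻¹) * h = g
      group
    rw [this]; exact hg
  have hinj : ∀ f ∈ F, (f : G ⧸ V) = 1 → f = 1 := by
    intro f hf h1
    have h2 : f ∈ F ⊓ V := ⟨hf, (QuotientGroup.eq_one_iff _).1 h1⟩
    rwa [hFV, Subgroup.mem_bot] at h2
  have hfixF : ∀ f ∈ F, ∀ i : ℕ, 0 < i → i < 4 → Commute f (h ^ i) → f = 1 := by
    intro f hf i hi hi4 hc
    apply hinj f hf
    have hfE : (f : G ⧸ V) ∈ zpowers x := by rw [← hFmap]; exact ⟨f, hf, rfl⟩
    obtain ⟨k, hk⟩ := (Submonoid.mem_powers_iff _ _).1 ((mem_powers_iff_mem_zpowers).2 hfE)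
    rw [← hk]
    apply hfix i hi hi4 k
    have h2 : ((f * h ^ i : G) : G ⧸ V) = ((h ^ i * f : G) : G ⧸ V) := congrArg _ hc
    rw [QuotientGroup.mk_mul, QuotientGroup.mk_mul, QuotientGroup.mk_pow, hhy, ← hk] at h2
    exact h2
  -- the element `w`
  obtain ⟨g0, hg0, v0, hv0, hne0⟩ := hnc
  rw [← hFmap] at hg0
  obtain ⟨f0, hf0, hfg⟩ := hg0
  have hne : f0 * v0 ≠ v0 * f0 := by
    intro hcom
    apply hne0
    have h1 : f0⁻¹ * g0 ∈ V := QuotientGroup.eq.1 (show ((f0 : G) : G ⧸ V) = g0 from hfg)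
    have h2 : g0 = f0 * (f0⁻¹ * g0) := by group
    rw [h2, mul_assoc, hVc _ h1 _ hv0, ← mul_assoc, hcom, mul_assoc]
  let w : V := (⟨v0, hv0⟩ : V)⁻¹ * a f0 ⟨v0, hv0⟩
  have hw1 : w ≠ 1 := by
    intro h1
    have h2 : a f0 ⟨v0, hv0⟩ = ⟨v0, hv0⟩ := (inv_mul_eq_one.1 h1).symm
    have h3 := congrArg (fun x : V => (x : G)) h2
    simp only [ha] at h3
    apply hne
    rw [mul_inv_eq_iff_eq_mul] at h3
    exact h3
  have hVpow : ∀ v : V, v ^ 2 = 1 := fun v => Subtype.ext (hVr v v.2)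
  have hcop : ∀ v : V, v ^ Nat.card F = 1 → v = 1 := by
    intro v hv
    have h1 : orderOf v ∣ Nat.card F := orderOf_dvd_of_pow_eq_one hv
    have h2 : orderOf v ∣ 2 := orderOf_dvd_of_pow_eq_one (hVpow v)
    obtain ⟨n, hn⟩ := IsPGroup.iff_card.1 hFl
    rw [hn] at h1
    have h4 : Nat.Coprime (l ^ n) 2 := Nat.Coprime.pow_left _ ((Nat.coprime_primes hl Nat.prime_two).2 hl2)
    have h3 : orderOf v ∣ 1 := by
      have := Nat.dvd_gcd h1 h2
      rwa [h4.gcd_eq_one] at this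
    exact orderOf_eq_one_iff.1 (Nat.dvd_one.1 h3)
  have hshift : ∀ g ∈ F, ∀ v : V, ∏ f : F, a f (a g v) = ∏ f : F, a f v := by
    intro g hg v
    rw [← Equiv.prod_comp (Equiv.mulRight (⟨g, hg⟩ : F)) (fun f : F => a f v)]
    refine Finset.prod_congr rfl (fun f _ => ?_)
    show a f (a g v) = a ((f : G) * g) v
    rw [map_mul]; rfl
  have hw : ∏ f : F, a f w = 1 := by
    have h1 : ∀ f : F, a f w = (a f ⟨v0, hv0⟩)⁻¹ * a f (a f0 ⟨v0, hv0⟩) := by
      intro f
      show a f ((⟨v0, hv0⟩ : V)⁻¹ * a f0 ⟨v0, hv0⟩) = _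
      rw [map_mul, map_inv]
    rw [Finset.prod_congr rfl (fun f _ => h1 f), Finset.prod_mul_distrib, Finset.prod_inv_distrib,
      hshift f0 hf0, inv_mul_cancel]
  obtain ⟨f1, hf1, hz⟩ := norm_ne_one a F h 4 (by norm_num) hF' hfixF w hw (fun h1 => hw1 (hcop w h1))
  have h4V : h ^ 4 ∈ V := by
    rw [← QuotientGroup.eq_one_iff, QuotientGroup.mk_pow, hhy, ← hy, pow_orderOf_eq_one]
  by_cases hh4 : h ^ 4 = 1
  · refine ⟨((a f1 w : V) : G) * h, ?_⟩
    have h1 : (((a f1 w : V) : G) * h) ^ 4 = _ := mul_pow_eq V hVc (a f1 w) h 4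
    rw [hh4, mul_one] at h1
    have h2 : (((a f1 w : V) : G) * h) ^ (2 ^ (2 + 1)) = 1 := by
      rw [show 2 ^ (2 + 1) = 4 * 2 by norm_num, pow_mul, h1]
      exact hVr _ (SetLike.coe_mem _)
    have h3 : ¬ (((a f1 w : V) : G) * h) ^ (2 ^ 2) = 1 := by
      rw [show 2 ^ 2 = 4 by norm_num, h1]
      intro h4
      exact hz (Subtype.ext h4)
    rw [orderOf_eq_prime_pow h3 h2]; norm_num
  · refine ⟨h, ?_⟩
    have h2 : h ^ (2 ^ (2 + 1)) = 1 := by
      rw [show 2 ^ (2 + 1) = 4 * 2 by norm_num, pow_mul]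
      exact hVr _ h4V
    have h3 : ¬ h ^ (2 ^ 2) = 1 := by
      rw [show 2 ^ 2 = 4 by norm_num]
      exact hh4
    rw [orderOf_eq_prime_pow h3 h2]; norm_num

end Cfsg.Agent.H514.OrdMod
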