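import Cfsg.Agent.H514.OrdRed
import Cfsg.Agent.H493.PGRows
import Cfsg.Agent.H545.PQ.Sporadic
import Cfsg.Agent.H372.Alt

/-!
# Sporadic groups: components of the prime graph and special element orders
-/

set_option autoImplicit false
set_option linter.style.haveILetI false

namespace Cfsg.Agent.H514.OC.Spor

open Cfsg.Agent.H493.PG Cfsg.Agent.H493.PGRows Subgroup Cfsg.Agent.H514.OC Cfsg Cfsg.Agent Cfsg.Agent.H545.PQ

universe u

/-! ### Elements of `OtS` -/

theorem mem_ot_of_three {K : Type*} [Group K] {a b c : ℕ} (ha : 1 < a) (hb : 1 < b) (hc : 1 < c)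
    (h : ∃ g : K, orderOf g = a * b * c) : a * b * c ∈ OtS K := by
  have h1 : 1 < a * b := Nat.one_lt_mul_iff.2 ⟨by omega, by omega, Or.inl ha⟩
  refine ⟨⟨h, Nat.one_lt_mul_iff.2 ⟨by omega, by omega, Or.inl h1⟩, Nat.not_prime_mul (by omega) (by omega)⟩, ?_⟩
  rintro ⟨p, q, hp, hq, -, he⟩
  have h2 := congrArg ArithmeticFunction.cardFactors he
  rw [ArithmeticFunction.cardFactors_mul (by omega) (by omega), ArithmeticFunction.cardFactors_mul (by omega) (by omega),
    ArithmeticFunction.cardFactors_mul hp.ne_zero hq.ne_zero, ArithmeticFunction.cardFactors_apply_prime hp,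
    ArithmeticFunction.cardFactors_apply_prime hq] at h2
  have h3 := ArithmeticFunction.cardFactors_pos_iff_one_lt.2 ha
  have h4 := ArithmeticFunction.cardFactors_pos_iff_one_lt.2 hb
  have h5 := ArithmeticFunction.cardFactors_pos_iff_one_lt.2 hc
  omega

theorem mem_ot_sq {K : Type*} [Group K] {p : ℕ} (hp : p.Prime) (h : ∃ g : K, orderOf g = p * p) : p * p ∈ OtS K := by
  refine ⟨⟨h, Nat.one_lt_mul_iff.2 ⟨hp.pos, hp.pos, Or.inl hp.one_lt⟩, Nat.not_prime_mul hp.ne_one hp.ne_one⟩, ?_⟩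
  rintro ⟨a, b, ha, hb, hab, he⟩
  have h1 : a ∣ p * p := ⟨b, he⟩
  have h2 : b ∣ p * p := ⟨a, by rw [he, mul_comm]⟩
  have h3 : ∀ c : ℕ, c.Prime → c ∣ p * p → c = p := by
    intro c hc hd
    rcases hc.dvd_mul.1 hd with h | h <;> exact (Nat.prime_dvd_prime_iff_eq hc hp).1 h
  exact hab ((h3 a ha h1).trans (h3 b hb h2).symm)

theorem ge_of_subset {K : Type*} [Group K] [Finite K] (F : Finset ℕ) (h : ∀ n ∈ F, n ∈ OtS K) :
    F.card ≤ (OtS K).ncard := by
  rw [← Set.ncard_coe_finset]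
  exact Set.ncard_le_ncard (fun n hn => h n (Finset.mem_coe.1 hn)) finite_OtS

theorem of_dvd {K : Type*} [Group K] [Finite K] {n : ℕ} {g : K} (h : n ∣ orderOf g) : ∃ x : K, orderOf x = n := by
  obtain ⟨k, hk⟩ := exists_pow_orderOf (orderOf_pos g).ne' h
  exact ⟨_, hk⟩

theorem mem_four {K : Type*} [Group K] [Finite K] {g : K} (h : 4 ∣ orderOf g) : 4 ∈ OtS K :=
  mem_ot_sq (p := 2) Nat.prime_two (of_dvd h)

theorem mem_eight {K : Type*} [Group K] [Finite K] {g : K} (h : 8 ∣ orderOf g) : 8 ∈ OtS K :=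
  mem_ot_of_three (a := 2) (b := 2) (c := 2) (by norm_num) (by norm_num) (by norm_num) (of_dvd h)

theorem two_le_of_eight {K : Type*} [Group K] [Finite K] (h : ∃ g : K, 8 ∣ orderOf g) : 2 ≤ (OtS K).ncard := by
  obtain ⟨g, hg⟩ := h
  have h1 := ge_of_subset (K := K) {4, 8} (by
    intro n hn
    simp only [Finset.mem_insert, Finset.mem_singleton] at hn
    rcases hn with rfl | rfl
    · exact mem_four ((by norm_num : (4 : ℕ) ∣ 8).trans hg)
    · exact mem_eight hg)
  simpa using h1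

theorem eight_equiv {S T : Type*} [Group S] [Group T] (e : S ≃* T) {n : ℕ} (h : ∃ g : T, n ∣ orderOf g) :
    ∃ g : S, n ∣ orderOf g := by
  obtain ⟨x, hx⟩ := h
  exact ⟨e.symm x, by rwa [MulEquiv.orderOf_eq]⟩

/-! ### M22 -/

open Cfsg.Agent.KFacts.MM.El Cfsg.Agent.KFacts.MM.Cent Cfsg.Agent.H94.PG.Sp Cfsg.Agent.SporadicA.GolayPerm in
theorem m22_eight : ∃ g : Cfsg.Spor.M22, orderOf g = 8 := by
  have hP : ok22 975608309290419813419816434794660928 = true := by decide +kernel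
  obtain ⟨h0, hm⟩ := mem_of_ok22 hP
  refine ⟨⟨pm 975608309290419813419816434794660928, hm⟩, ?_⟩
  rw [Subgroup.orderOf_mk]
  have okn : okl [] = true := rfl
  have h8 : pm 975608309290419813419816434794660928 ^ 8 = 1 := by
    have := pr_of_weq (okl_replicate h0 8) okn (by decide +kernel)
    rwa [pr_replicate, pr_nil] at this
  have h4 : pm 975608309290419813419816434794660928 ^ 4 ≠ 1 := by
    have := pr_ne (okl_replicate h0 4) okn (by decide +kernel)
    rwa [pr_replicate, pr_nil] at this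
  haveI : Fact (Nat.Prime 2) := ⟨Nat.prime_two⟩
  have := orderOf_eq_prime_pow (x := pm 975608309290419813419816434794660928) (p := 2) (n := 2)
    (by norm_num; exact h4) (by norm_num; exact h8)
  simpa using this

/-! ### O'N -/

open Cfsg.Agent.ONType.TupRow Cfsg.Agent.ONType.TupleClass Cfsg.Agent.SporadicB.ON45Word
  Cfsg.Agent.SporadicRecognition.CosetCert in
theorem on_eight : ∃ g : Cfsg.Spor.ON, orderOf g = 8 := by
  have hs := KFacts.ON.Cent.hON.1
  have h4 : eqJ (rep4 [0, 1]) [5, 7] = true := by decide +kernel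
  have h8 : eqJ ([5, 7] ++ [5, 7]) [] = true := by decide +kernel
  have hn : neJ [5, 7] [] = true := by decide +kernel
  have e4 := eqJ_spec hs h4
  have e8 := eqJ_spec hs h8
  have en := neJ_spec hn
  rw [ev_rep4] at e4
  rw [ev_append, ← e4, ev_nil] at e8
  rw [← e4, ev_nil] at en
  refine ⟨ev gJ [0, 1], ?_⟩
  generalize ev gJ [0, 1] = x at *
  haveI : Fact (Nat.Prime 2) := ⟨Nat.prime_two⟩
  have := orderOf_eq_prime_pow (x := x) (p := 2) (n := 2) (by norm_num; exact en)
    (by norm_num; rw [← e8, ← pow_add])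
  simpa using this

/-! ### Ly -/

theorem eight_of_surj {G H : Type*} [Group G] [Group H] (f : G →* H) (hf : Function.Surjective f) {n : ℕ}
    (h : ∃ g : H, orderOf g = n) : ∃ g : G, n ∣ orderOf g := by
  obtain ⟨y, hy⟩ := h
  obtain ⟨g, rfl⟩ := hf y
  exact ⟨g, by rw [← hy]; exact orderOf_map_dvd f g⟩

theorem sub_dvd {G : Type*} [Group G] {H : Subgroup G} {n : ℕ} (h : ∃ g : H, n ∣ orderOf g) : ∃ g : G, n ∣ orderOf g := by
  obtain ⟨g, hg⟩ := h
  exact ⟨g, by rwa [Subgroup.orderOf_coe]⟩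

theorem ly_eight : ∃ g : Cfsg.Spor.Ly, 8 ∣ orderOf g := by
  obtain ⟨-, ⟨e⟩, -⟩ := R10.Close.cover_τ.2
  refine sub_dvd (eight_of_surj (e.toMonoidHom.comp (QuotientGroup.mk' _)) (e.surjective.comp
    (QuotientGroup.mk'_surjective _)) ?_)
  exact H372.exists_orderOf_eight_alt (n := 11) (by norm_num)

/-! ### Th -/

/-- an element of order 4 in the alternating group of degree 9 -/
theorem alt_nine_four : ∃ g : alternatingGroup (Fin 9), orderOf g = 4 := by
  obtain ⟨g, hg⟩ := (Equiv.Perm.exists_with_cycleType_iff (Fin 9) (m := {4, 2})).2 ⟨by decide, by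
    intro a ha
    simp only [Multiset.insert_eq_cons, Multiset.mem_cons, Multiset.mem_singleton] at ha
    rcases ha with rfl | rfl <;> norm_num⟩
  have hs : g ∈ alternatingGroup (Fin 9) := by
    rw [Equiv.Perm.mem_alternatingGroup, Equiv.Perm.sign_of_cycleType, hg]
    simp only [Multiset.insert_eq_cons, Multiset.sum_cons, Multiset.sum_singleton, Multiset.card_cons,
      Multiset.card_singleton]
    exact Even.neg_one_pow ⟨4, by norm_num⟩
  refine ⟨⟨g, hs⟩, ?_⟩
  rw [Subgroup.orderOf_mk, ← Equiv.Perm.lcm_cycleType, hg]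
  decide

theorem th_facts : (∃ g : Cfsg.Spor.Th, 4 ∣ orderOf g) ∧ ∃ g : Cfsg.Spor.Th, 30 ∣ orderOf g := by
  haveI := Thompson.finite
  obtain ⟨z, hz, Q, hQ, -, -, ⟨e⟩⟩ := Th.Main475.main
  have hsurj : Function.Surjective (e.toMonoidHom.comp (QuotientGroup.mk' Q)) :=
    e.surjective.comp (QuotientGroup.mk'_surjective _)
  refine ⟨sub_dvd (eight_of_surj _ hsurj alt_nine_four), ?_⟩
  obtain ⟨y, hy⟩ := Alt.pair_three_five_nine.exists_orderOf (by norm_num)
  obtain ⟨g, hg⟩ := eight_of_surj _ hsurj ⟨y, hy⟩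
  obtain ⟨g', hg'⟩ := of_dvd hg
  have hc : Commute z (g' : Cfsg.Spor.Th) := (mem_centralizer_singleton_iff.1 g'.2).symm
  refine ⟨z * g', ?_⟩
  rw [hc.orderOf_mul_eq_mul_orderOf_of_coprime (by rw [Subgroup.orderOf_coe, hg', hz]; norm_num), hz,
    Subgroup.orderOf_coe, hg']

/-! ### Fi24' -/

open Cfsg.Agent.Lib.PermNet Cfsg.Agent.Lib.PermNetOrbit Cfsg.Agent.Fischer.Fi24Rep Cfsg.Agent.Fischer.Fi24RepDef
  Cfsg.Agent.H545.PQ.FischerC in
theorem fi24_eight : ∃ g : Cfsg.Spor.Fi24', 8 ∣ orderOf g := by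
  haveI := FischerC.finite
  let w : List Cfsg.Spor.Fi24.Gen := [.a, .b, .c, .d, .e, .f, .g, .l]
  have hw : Even w.length := by decide
  have h1 : Nat.beq (ptWord (nw (rep 8 w) false) 50) 50 = true := by decide +kernel
  have h2 : Nat.beq (ptWord (nw (rep 4 w) false) 50) 50 = false := by decide +kernel
  let g : Cfsg.Spor.Fi24' := ⟨word w, word_mem hw⟩
  let f : Cfsg.Spor.Fi24' →* Equiv.Perm ℕ := rho.comp (commutator Cfsg.Spor.Fi24).subtype
  have hk : ∀ n, f (g ^ n) 50 = ptWord (nw (rep n w) false) 50 := by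
    intro n
    show (rho.comp (commutator Cfsg.Spor.Fi24).subtype) ((⟨word w, word_mem hw⟩ : commutator Cfsg.Spor.Fi24) ^ n) 50 = _
    rw [MonoidHom.comp_apply, Subgroup.coe_subtype, SubgroupClass.coe_pow, ← word_rep, rho_word, ptWord_eq (wok _ _)]
  refine ⟨g, ?_⟩
  have hp : ∀ n, (f g)^[n] 50 = ptWord (nw (rep n w) false) 50 := by
    intro n
    rw [← hk, map_pow, Equiv.Perm.coe_pow]
  have m8 : Function.minimalPeriod (f g) 50 ∣ 8 := Function.IsPeriodicPt.minimalPeriod_dvd (by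
    show (f g)^[8] 50 = 50
    rw [hp]; exact Nat.eq_of_beq_eq_true h1)
  have m4 : ¬ Function.minimalPeriod (f g) 50 ∣ 4 := fun hd => by
    have := (Function.isPeriodicPt_minimalPeriod (f g) 50).trans_dvd hd
    have h3 : (f g)^[4] 50 = 50 := this
    rw [hp] at h3
    exact Nat.ne_of_beq_eq_false h2 h3
  have m : Function.minimalPeriod (f g) 50 = 8 := by
    have h5 : Function.minimalPeriod (f g) 50 ∣ 2 ^ 3 := m8
    obtain ⟨k, hk3, hk⟩ := (Nat.dvd_prime_pow Nat.prime_two).1 h5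
    have : k = 3 := by
      by_contra hne
      apply m4
      rw [hk]
      exact pow_dvd_pow 2 (show k ≤ 2 by omega)
    rw [hk, this]; norm_num
  rw [← m]
  apply Function.IsPeriodicPt.minimalPeriod_dvd
  show (f g)^[orderOf g] 50 = 50
  rw [← Equiv.Perm.coe_pow, ← map_pow, pow_orderOf_eq_one, map_one]; rfl

/-! ### J4 -/

theorem j4_facts {K : Type u} [Group K] (h : Cfsg.Spor.IsoJ4 K) : (∃ g : K, 8 ∣ orderOf g) ∧
    ∀ p : ℕ, p = 5 ∨ p = 7 ∨ p = 11 → ∃ g : K, orderOf g = 2 * 3 * p := by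
  haveI hfin : Finite K := (Cfsg.Agent.KFacts.J4.Base.exists_full h).1
  obtain ⟨t, Q, N, M, H⟩ := Cfsg.Agent.KFacts.J4.Transport.exists_hyp_of_iso h
  have hQn := H.Qn
  have hNn := H.Nn
  refine ⟨?_, ?_⟩
  · obtain ⟨π, hπ, -⟩ := H.pi
    exact sub_dvd (sub_dvd (eight_of_surj π hπ m22_eight))
  · intro p hp
    have hpp : p.Prime := by rcases hp with rfl | rfl | rfl <;> norm_num
    have h11 : p ∣ Nat.card (Subgroup.centralizer ({t} : Set K)) := JFour.dvd H (by
      rw [JFour.card_m22]; rcases hp with rfl | rfl | rfl <;> norm_num)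
    have h1 : Pair 3 p (Subgroup.centralizer ({t} : Set K) ⧸ Q) := by
      refine pair_of_normal (N := N.map (QuotientGroup.mk' Q)) (by norm_num) hpp
        (by rcases hp with rfl | rfl | rfl <;> norm_num)
        (hNn.map _ (QuotientGroup.mk'_surjective Q)) ?_ ?_
      · have h2 := OddOrderLocal.PiCore.card_comap_mk' Q (N.map (QuotientGroup.mk' Q))
        rw [Subgroup.comap_map_eq, QuotientGroup.ker_mk', sup_eq_left.mpr H.QN, H.card_N, H.card_Q] at h2
        have h3 : 2 ^ 13 * 3 = 2 ^ 13 * Nat.card (N.map (QuotientGroup.mk' Q)) := by rw [← h2]; norm_num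
        exact (Nat.eq_of_mul_eq_mul_left (by norm_num) h3).symm
      · have h3 := Subgroup.card_eq_card_quotient_mul_card_subgroup Q
        rw [h3, H.card_Q] at h11
        rcases (Nat.Prime.dvd_mul hpp).mp h11 with h | h
        · exact h
        · have := (Nat.prime_dvd_prime_iff_eq hpp Nat.prime_two).1 (Nat.Prime.dvd_of_dvd_pow hpp h)
          rcases hp with rfl | rfl | rfl <;> norm_num at this
    obtain ⟨g, hg⟩ := (h1.of_surjective (QuotientGroup.mk' Q) (QuotientGroup.mk'_surjective Q) (by norm_num) hpp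
      (by rcases hp with rfl | rfl | rfl <;> norm_num)).exists_orderOf (by rcases hp with rfl | rfl | rfl <;> norm_num)
    have hc : Commute t (g : K) := (mem_centralizer_singleton_iff.1 g.2).symm
    refine ⟨t * g, ?_⟩
    rw [hc.orderOf_mul_eq_mul_orderOf_of_coprime (by
      rw [Subgroup.orderOf_coe, hg, H.ht]; rcases hp with rfl | rfl | rfl <;> norm_num), H.ht,
      Subgroup.orderOf_coe, hg, mul_assoc]

/-! ### M -/

theorem th_four : ∃ g : Cfsg.Spor.Th, orderOf g = 4 := by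
  haveI := Thompson.finite
  obtain ⟨g, hg⟩ := th_facts.1
  exact of_dvd hg

open Cfsg.Agent.MonsterX Cfsg.Agent.H545.PQ.Monster in
theorem m_facts : (∃ g : Cfsg.Spor.Monster, orderOf g = 12) ∧ (∃ g : Cfsg.Spor.Monster, orderOf g = 30) ∧
    ∃ g : Cfsg.Spor.Monster, orderOf g = 42 := by
  have hf := Monster.finite
  obtain ⟨y, -, hy3, T, hTy, -, e, -⟩ := ThPart.part InstanceFinal.pack S1700.result
  have key : ∀ n : ℕ, n.Coprime 3 → (∃ g : Cfsg.Spor.Th, orderOf g = n) → ∃ g : Cfsg.Spor.Monster, orderOf g = 3 * n := by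
    rintro n hn ⟨g, hg⟩
    have h1 : orderOf ((e.symm g : T) : Conc.G) = n := by rw [Subgroup.orderOf_coe, MulEquiv.orderOf_eq, hg]
    have hc : Commute y ((e.symm g : T) : Conc.G) := (mem_centralizer_singleton_iff.1 (hTy (e.symm g).2)).symm
    have h2 : orderOf (y * ((e.symm g : T) : Conc.G)) = 3 * n := by
      rw [hc.orderOf_mul_eq_mul_orderOf_of_coprime (by rw [h1, hy3]; exact hn.symm), h1, hy3]
    obtain ⟨f⟩ := MonsterP.Equiv.equiv
    have hMG : InstData.M.G = Conc.G := InstData.M_G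
    let f' : Cfsg.Spor.Monster ≃* Conc.G := f.trans (MulEquiv.subgroupCongr hMG)
    exact ⟨f'.symm _, by rw [MulEquiv.orderOf_eq]; exact h2⟩
  refine ⟨key 4 (by norm_num) th_four, ?_, ?_⟩
  · exact key 10 (by norm_num) ((Thompson.pair_two (p := 5) (by norm_num) (by norm_num)).exists_orderOf (by norm_num))
  · exact key 14 (by norm_num) ((Thompson.pair_two (p := 7) (by norm_num) (by norm_num)).exists_orderOf (by norm_num))

end Cfsg.Agent.H514.OC.Spor
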