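import Cfsg.Agent.H514.OrdAct
import Cfsg.Agent.H388.Rad
import Cfsg.Agent.SignalizersComponents.FStarNormal
import Cfsg.Agent.SignalizersComponents.ComponentNormalize
import Cfsg.Agent.Lib.GenFitting
import Cfsg.Agent.S2921

/-!
# Almost simple groups all of whose composite element orders are products of two distinct primes

The Sylow 2-subgroups are elementary abelian; the outer part has odd order and the socle is known.
-/

set_option autoImplicit false
set_option linter.style.haveILetI false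

namespace Cfsg.Agent.H514.OC

open Cfsg.Agent.H493.PG Subgroup

universe u v

/-- a normal simple nonabelian self-centralising subgroup is `F*(G)` -/
theorem fstar_eq {G : Type*} [Group G] [Finite G] {N : Subgroup G} [hNn : N.Normal] (hs : IsSimpleGroup N)
    (hna : ¬ IsMulCommutative N) (hC : centralizer (N : Set G) = ⊥) :
    Cfsg.generalizedFittingSubgroup G = N := by
  haveI := hs
  have hNc : Cfsg.IsComponent N := ⟨hNn.isSubnormal, H388.Rad.isQuasisimple_of_simple hna⟩
  apply le_antisymm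
  · rw [Cfsg.Agent.Lib.GenFitting.genFitting_def]
    apply sup_le
    · rw [Cfsg.Agent.Lib.GenFitting.layer_def]
      apply sSup_le
      intro K hK
      by_cases hKN : K = N
      · exact hKN.le
      · have h1 := Cfsg.Agent.SignalizersComponents.ComponentNormalize.component_comm_of_ne hK hNc hKN
        rw [commutator_eq_bot_iff_le_centralizer, hC, le_bot_iff] at h1
        rw [h1]
        exact bot_le
    · have h1 := Cfsg.Agent.SignalizersComponents.FStarNormal.component_comm_fitting hNc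
      rw [commutator_comm, commutator_eq_bot_iff_le_centralizer, hC, le_bot_iff] at h1
      rw [h1]
      exact bot_le
  · exact Cfsg.Agent.Lib.GenFitting.component_le_genFitting hNc

theorem four_le_of_klein {G : Type*} [Group G] [Finite G] (hE : ∃ E : Subgroup G, IsKleinFour E) (T : Sylow 2 G) :
    4 ≤ Nat.card (T : Subgroup G) := by
  haveI : Fact (Nat.Prime 2) := ⟨Nat.prime_two⟩
  obtain ⟨E, hE⟩ := hE
  have h1 : Nat.card E = 4 := hE.card_four
  have h2 : 2 ^ 2 ∣ Nat.card G := by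
    have := Subgroup.card_subgroup_dvd_card E
    rw [h1] at this
    exact (by norm_num : (2 : ℕ) ^ 2 ∣ 4).trans this
  have h3 := T.pow_dvd_card_of_pow_dvd_card h2
  have := Nat.le_of_dvd Nat.card_pos h3
  simpa using this

/-- **Almost simple groups with `OtS = ∅`.** -/
theorem odd_index {G : Type u} [Group G] [Finite G] (S : Subgroup G) [hSn : S.Normal] (hs : IsSimpleGroup S)
    (hna : ¬ IsMulCommutative S) (hC : centralizer (S : Set G) = ⊥) (hot : OtS G = ∅)
    (hE : ∃ E : Subgroup G, IsKleinFour E) :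
    Odd S.index ∧ ((∃ (F : Type) (_ : Field F) (_ : Fintype F) (e : ℕ), 2 ≤ e ∧ Fintype.card F = 2 ^ e ∧
        Nonempty (S ≃* Matrix.SpecialLinearGroup (Fin 2) F)) ∨ Cfsg.Lie.IsoRee S ∨ Cfsg.Spor.IsoJ1 S ∨
      (∃ (F : Type) (_ : Field F) (_ : Fintype F) (r b : ℕ), r.Prime ∧ Fintype.card F = r ^ b ∧ 3 < r ^ b ∧
        (r ^ b % 8 = 3 ∨ r ^ b % 8 = 5) ∧ Nonempty (S ≃* Matrix.ProjectiveSpecialLinearGroup (Fin 2) F))) := by
  have hF : Cfsg.generalizedFittingSubgroup G = S := fstar_eq hs hna hC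
  obtain ⟨T⟩ : Nonempty (Sylow 2 G) := inferInstance
  have hsq := sq_eq_one hot T.2
  have hcomm := comm_of_sq hsq
  have hab : IsMulCommutative (T : Subgroup G) := ⟨⟨fun a b => Subtype.ext (hcomm a a.2 b b.2)⟩⟩
  have h4 := four_le_of_klein hE T
  subst hF
  have h := Cfsg.Agent.S2921.result hs hna T hab h4
  refine ⟨?_, h.2.1⟩
  rw [Subgroup.index_eq_card]
  exact h.1

/-- Simple groups with `OtS = ∅`, with the cyclic group of order `2 ^ a - 1`. -/
theorem simple_of_ot {G : Type u} [Group G] [Finite G] (hs : IsSimpleGroup G)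
    (hna : ¬ IsMulCommutative G) (hot : OtS G = ∅) (hE : ∃ E : Subgroup G, IsKleinFour E) :
    ((∃ (F : Type) (_ : Field F) (_ : Fintype F) (e : ℕ), 2 ≤ e ∧ Fintype.card F = 2 ^ e ∧
        Nonempty (G ≃* Matrix.SpecialLinearGroup (Fin 2) F)) ∨ Cfsg.Lie.IsoRee G ∨ Cfsg.Spor.IsoJ1 G ∨
      (∃ (F : Type) (_ : Field F) (_ : Fintype F) (r b : ℕ), r.Prime ∧ Fintype.card F = r ^ b ∧ 3 < r ^ b ∧
        (r ^ b % 8 = 3 ∨ r ^ b % 8 = 5) ∧ Nonempty (G ≃* Matrix.ProjectiveSpecialLinearGroup (Fin 2) F))) := by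
  let e : (⊤ : Subgroup G) ≃* G := Subgroup.topEquiv
  have hs' : IsSimpleGroup (⊤ : Subgroup G) := by
    haveI := hs
    exact e.isSimpleGroup
  have hna' : ¬ IsMulCommutative (⊤ : Subgroup G) := fun h => hna ⟨⟨fun a b => by
    have := h.is_comm.comm (e.symm a) (e.symm b)
    have h2 := congrArg e this
    simpa using h2⟩⟩
  have hC : centralizer ((⊤ : Subgroup G) : Set G) = ⊥ := by
    haveI := hs
    have h1 := H388.Rad.center_eq_bot_of_simple hna
    rw [← h1]
    ext x
    simp [mem_centralizer_iff, mem_center_iff]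
  have h := (odd_index (⊤ : Subgroup G) hs' hna' hC hot hE).2
  rcases h with ⟨F, i1, i2, n, h1, h2, ⟨f⟩⟩ | ⟨K, i1, i2, m, h1, h2, ⟨f⟩⟩ | hf | ⟨F, i1, i2, r, b, h1, h2, h3, h4, ⟨f⟩⟩
  · exact Or.inl ⟨F, i1, i2, n, h1, h2, ⟨e.symm.trans f⟩⟩
  · exact Or.inr (Or.inl ⟨K, i1, i2, m, h1, h2, ⟨e.symm.trans f⟩⟩)
  · obtain ⟨f⟩ : Nonempty ((⊤ : Subgroup G) ≃* Cfsg.Spor.J1) := hf
    exact Or.inr (Or.inr (Or.inl ⟨e.symm.trans f⟩))
  · exact Or.inr (Or.inr (Or.inr ⟨F, i1, i2, r, b, h1, h2, h3, h4, ⟨e.symm.trans f⟩⟩))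

end Cfsg.Agent.H514.OC
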