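import Cfsg.Agent.H514.OrdAct
import Cfsg.Agent.H514.OrdOdd
import Cfsg.Agent.H413.JOneLocal
import Cfsg.Agent.SporRec.J1.EqTopC
import Cfsg.Agent.OddHalf.D4.Spor.J1Out

/-!
# The first Janko group: element orders
-/

set_option autoImplicit false
set_option linter.style.haveILetI false

namespace Cfsg.Agent.H514.OC.J1

open Cfsg.Agent.H493.PG Subgroup Cfsg.Agent.H514.OC

universe u v

instance : Finite Cfsg.Spor.J1 :=
  Nat.finite_of_card_ne_zero (by rw [H413.JOneLocal.card_J1]; norm_num)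

theorem card_cent_two {x : Cfsg.Spor.J1} (hx : orderOf x = 2) : Nat.card (centralizer ({x} : Set Cfsg.Spor.J1)) = 120 :=
  SporRec.J1.EqTopC.card_cent2 H413.JOneLocal.isLocal x hx

theorem card_cent_three {x : Cfsg.Spor.J1} (hx : orderOf x = 3) : Nat.card (centralizer ({x} : Set Cfsg.Spor.J1)) = 30 :=
  H413.JOneLocal.isLocal.cent3 x hx

theorem card_cent_five {x : Cfsg.Spor.J1} (hx : orderOf x = 5) : Nat.card (centralizer ({x} : Set Cfsg.Spor.J1)) = 30 :=
  H413.JOneLocal.isLocal.cent5 x hx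

/-- an element of order `p q` gives a divisor of the order of a centralizer -/
theorem dvd_cent {G : Type*} [Group G] [Finite G] {p q : ℕ} (hp : 0 < p) (hq : 0 < q) {g : G} (hg : orderOf g = p * q) :
    ∃ x : G, orderOf x = p ∧ q ∣ Nat.card (centralizer ({x} : Set G)) := by
  refine ⟨g ^ q, ?_, ?_⟩
  · rw [orderOf_pow_of_dvd hq.ne' (by rw [hg]; exact dvd_mul_left _ _), hg, Nat.mul_div_cancel _ hq]
  · have h1 : g ^ p ∈ centralizer ({g ^ q} : Set G) := by
      rw [mem_centralizer_singleton_iff, ← pow_add, ← pow_add, add_comm]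
    have h2 : orderOf (g ^ p) = q := by
      rw [orderOf_pow_of_dvd hp.ne' (by rw [hg]; exact dvd_mul_right _ _), hg, Nat.mul_div_cancel_left _ hp]
    have h3 := orderOf_dvd_natCard (⟨g ^ p, h1⟩ : centralizer ({g ^ q} : Set G))
    rwa [Subgroup.orderOf_mk, h2] at h3

/-- an element of order `p q` from a centralizer -/
theorem exists_of_cent {G : Type*} [Group G] [Finite G] {p q : ℕ} (hq : q.Prime) {x : G} (hx : orderOf x = p)
    (hpq : p.Coprime q) (hd : q ∣ Nat.card (centralizer ({x} : Set G))) : ∃ g : G, orderOf g = p * q := by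
  haveI := Fact.mk hq
  obtain ⟨y, hy⟩ := exists_prime_orderOf_dvd_card' q hd
  have hc : Commute x (y : G) := (mem_centralizer_singleton_iff.1 y.2).symm
  refine ⟨x * y, ?_⟩
  rw [hc.orderOf_mul_eq_mul_orderOf_of_coprime (by rw [hx, Subgroup.orderOf_coe, hy]; exact hpq), hx,
    Subgroup.orderOf_coe, hy]

theorem exists_prime_order {q : ℕ} (hq : q.Prime) (h : q ∣ 175560) : ∃ x : Cfsg.Spor.J1, orderOf x = q := by
  haveI := Fact.mk hq
  exact exists_prime_orderOf_dvd_card' q (by rw [H413.JOneLocal.card_J1]; exact h)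

theorem six : ∃ g : Cfsg.Spor.J1, orderOf g = 6 := by
  obtain ⟨x, hx⟩ := exists_prime_order Nat.prime_two (by norm_num)
  exact exists_of_cent (p := 2) Nat.prime_three hx (by norm_num) (by rw [card_cent_two hx]; norm_num)

theorem ten : ∃ g : Cfsg.Spor.J1, orderOf g = 10 := by
  obtain ⟨x, hx⟩ := exists_prime_order Nat.prime_two (by norm_num)
  exact exists_of_cent (p := 2) Nat.prime_five hx (by norm_num) (by rw [card_cent_two hx]; norm_num)

theorem fifteen : ∃ g : Cfsg.Spor.J1, orderOf g = 15 := by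
  obtain ⟨x, hx⟩ := exists_prime_order Nat.prime_three (by norm_num)
  exact exists_of_cent (p := 3) Nat.prime_five hx (by norm_num) (by rw [card_cent_three hx]; norm_num)

theorem no_four_alt : ∀ a : Multiplicative (ZMod 2) × alternatingGroup (Fin 5), a ^ 4 = 1 → a ^ 2 = 1 := by
  rintro ⟨a, b⟩ h
  have h1 : ∀ a : Multiplicative (ZMod 2), a ^ 2 = 1 := by decide
  have h2 : ∀ b : alternatingGroup (Fin 5), b ^ 4 = 1 → b ^ 2 = 1 := by decide +kernel
  exact Prod.ext (h1 a) (h2 b (congrArg Prod.snd h))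

theorem no_four (g : Cfsg.Spor.J1) : orderOf g ≠ 4 := by
  intro hg
  have hx : orderOf (g ^ 2) = 2 := by
    rw [orderOf_pow_of_dvd (by norm_num) (by rw [hg]; norm_num), hg]
  obtain ⟨e⟩ := H413.JOneLocal.isLocal.cent (g ^ 2) hx
  have h1 : g ∈ centralizer ({g ^ 2} : Set Cfsg.Spor.J1) := by
    rw [mem_centralizer_singleton_iff, ← pow_succ, ← pow_succ']
  have h2 : (e ⟨g, h1⟩) ^ 4 = 1 := by
    rw [← map_pow]
    have : (⟨g, h1⟩ : centralizer ({g ^ 2} : Set Cfsg.Spor.J1)) ^ 4 = 1 := Subtype.ext (by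
      rw [SubgroupClass.coe_pow, ← hg]; exact pow_orderOf_eq_one g)
    rw [this, map_one]
  have h3 := no_four_alt _ h2
  rw [← map_pow] at h3
  have h4 : (⟨g, h1⟩ : centralizer ({g ^ 2} : Set Cfsg.Spor.J1)) ^ 2 = 1 := e.injective (by rw [h3, map_one])
  have h5 : g ^ 2 = 1 := congrArg Subtype.val h4
  rw [h5, orderOf_one] at hx
  norm_num at hx

theorem prime_cases {r : ℕ} (hr : r.Prime) (h : r ∣ 175560) : r = 2 ∨ r = 3 ∨ r = 5 ∨ r = 7 ∨ r = 11 ∨ r = 19 := by
  have h1 : r ∣ 2 ^ 3 * (3 * (5 * (7 * (11 * 19)))) := by norm_num; exact h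
  rcases hr.dvd_mul.1 h1 with h1 | h1
  · exact Or.inl ((Nat.prime_dvd_prime_iff_eq hr Nat.prime_two).1 (hr.dvd_of_dvd_pow h1))
  rcases hr.dvd_mul.1 h1 with h1 | h1
  · exact Or.inr (Or.inl ((Nat.prime_dvd_prime_iff_eq hr Nat.prime_three).1 h1))
  rcases hr.dvd_mul.1 h1 with h1 | h1
  · exact Or.inr (Or.inr (Or.inl ((Nat.prime_dvd_prime_iff_eq hr (by norm_num)).1 h1)))
  rcases hr.dvd_mul.1 h1 with h1 | h1
  · exact Or.inr (Or.inr (Or.inr (Or.inl ((Nat.prime_dvd_prime_iff_eq hr (by norm_num)).1 h1))))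
  rcases hr.dvd_mul.1 h1 with h1 | h1
  · exact Or.inr (Or.inr (Or.inr (Or.inr (Or.inl ((Nat.prime_dvd_prime_iff_eq hr (by norm_num)).1 h1)))))
  · exact Or.inr (Or.inr (Or.inr (Or.inr (Or.inr ((Nat.prime_dvd_prime_iff_eq hr (by norm_num)).1 h1)))))

variable {K : Type v} [Group K]

theorem natCard (h : Cfsg.Spor.IsoJ1 K) : Nat.card K = 175560 := by
  obtain ⟨e⟩ := h
  rw [Nat.card_congr e.toEquiv, H413.JOneLocal.card_J1]

theorem transfer (h : Cfsg.Spor.IsoJ1 K) {n : ℕ} : (∃ g : K, orderOf g = n) ↔ ∃ g : Cfsg.Spor.J1, orderOf g = n := by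
  obtain ⟨e⟩ := h
  constructor
  · rintro ⟨g, hg⟩
    exact ⟨e g, by rw [MulEquiv.orderOf_eq, hg]⟩
  · rintro ⟨g, hg⟩
    exact ⟨e.symm g, by rw [MulEquiv.orderOf_eq, hg]⟩

/-- **`J₁`: `|PrS| ≤ |CoS| + 3`.** -/
theorem le [Finite K] (h : Cfsg.Spor.IsoJ1 K) : (PrS K).ncard ≤ (CoS K).ncard + 3 := by
  classical
  have h1 : PrS K ⊆ (({2, 3, 5, 7, 11, 19} : Finset ℕ) : Set ℕ) := by
    rintro r ⟨⟨g, hg⟩, hr⟩
    have hd : r ∣ 175560 := by rw [← natCard h, ← hg]; exact orderOf_dvd_natCard g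
    simpa using prime_cases hr hd
  have h2 : (({6, 10, 15} : Finset ℕ) : Set ℕ) ⊆ CoS K := by
    intro m hm
    have hm' : m = 6 ∨ m = 10 ∨ m = 15 := by simpa using hm
    rcases hm' with rfl | rfl | rfl
    · exact ⟨(transfer h).2 six, by norm_num, by norm_num⟩
    · exact ⟨(transfer h).2 ten, by norm_num, by norm_num⟩
    · exact ⟨(transfer h).2 fifteen, by norm_num, by norm_num⟩
  have h3 := Set.ncard_le_ncard h1 (Finset.finite_toSet _)
  have h4 := Set.ncard_le_ncard h2 (finite_CoS (G := K))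
  rw [Set.ncard_coe_finset] at h3 h4
  have h5 : ({2, 3, 5, 7, 11, 19} : Finset ℕ).card = 6 := by decide
  have h6 : ({6, 10, 15} : Finset ℕ).card = 3 := by decide
  omega

/-- a centraliser argument -/
theorem no_mul (h : Cfsg.Spor.IsoJ1 K) {p q : ℕ} (hp : p = 2 ∨ p = 3 ∨ p = 5) (hq : q.Prime) (hq' : q = 7 ∨ q = 11 ∨ q = 19) :
    ¬ ∃ g : K, orderOf g = p * q := by
  rw [transfer h]
  rintro ⟨g, hg⟩
  have hp0 : 0 < p := by rcases hp with rfl | rfl | rfl <;> norm_num
  obtain ⟨x, hx, hd⟩ := dvd_cent hp0 hq.pos hg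
  have h1 : q ∣ 120 := by
    rcases hp with rfl | rfl | rfl
    · rwa [card_cent_two hx] at hd
    · rw [card_cent_three hx] at hd; exact hd.trans (by norm_num)
    · rw [card_cent_five hx] at hd; exact hd.trans (by norm_num)
  rcases hq' with rfl | rfl | rfl <;> norm_num at h1

theorem no_four' (h : Cfsg.Spor.IsoJ1 K) (x : K) : orderOf x ≠ 4 := fun hx => by
  obtain ⟨g, hg⟩ := (transfer h).1 ⟨x, hx⟩
  exact no_four g hg

theorem sq_eq_one (h : Cfsg.Spor.IsoJ1 K) {S : Subgroup K} (hS : IsPGroup 2 S) : ∀ s ∈ S, s * s = 1 := by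
  haveI : Fact (Nat.Prime 2) := ⟨Nat.prime_two⟩
  intro s hs
  obtain ⟨k, hk⟩ := (IsPGroup.iff_orderOf.1 hS) ⟨s, hs⟩
  rw [Subgroup.orderOf_mk] at hk
  have h1 : k ≤ 1 := by
    by_contra hne
    refine no_four' h (s ^ 2 ^ (k - 2)) ?_
    rw [orderOf_pow_of_dvd (pow_ne_zero _ two_ne_zero) (by rw [hk]; exact pow_dvd_pow 2 (by omega)), hk,
      Nat.pow_div (by omega) (by norm_num), show k - (k - 2) = 2 by omega]
  rw [← pow_two]
  apply orderOf_dvd_iff_pow_eq_one.1
  rw [hk]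
  exact (pow_dvd_pow 2 h1)

/-- **Modules for `J₁`.** -/
theorem modOK [Finite K] [IsSimpleGroup K] (hna : ¬ IsMulCommutative K) (h : Cfsg.Spor.IsoJ1 K) : ModOK.{u, v} K := by
  classical
  haveI : Fact (Nat.Prime 2) := ⟨Nat.prime_two⟩
  have h2 : ∃ x : K, orderOf x = 2 := (transfer h).2 (exists_prime_order Nat.prime_two (by norm_num))
  refine ⟨?_, fun G _ _ V _ _ _ hVr hCV he hcos => two_of_no_four h2 (no_four' h) G V hVr hCV he hcos⟩
  obtain ⟨T⟩ : Nonempty (Sylow 2 K) := inferInstance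
  have hsq := sq_eq_one h T.2
  have hcomm := comm_of_sq hsq
  have hTc : Nat.card (T : Subgroup K) = 8 := by
    have h3 := T.card_eq_multiplicity
    rw [natCard h] at h3
    have h4 : (175560 : ℕ).factorization 2 = 3 := by
      rw [show (175560 : ℕ) = 2 ^ 3 * 21945 by norm_num, Nat.factorization_mul (by norm_num) (by norm_num),
        Nat.Prime.factorization_pow Nat.prime_two]
      simp [Nat.factorization_eq_zero_of_not_dvd]
    rw [h3, h4]; norm_num
  -- the cyclic subgroup of order 7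
  have hab : IsMulCommutative (T : Subgroup K) := ⟨⟨fun a b => Subtype.ext (hcomm a a.2 b b.2)⟩⟩
  have hs' : IsSimpleGroup (⊤ : Subgroup K) := (Subgroup.topEquiv : (⊤ : Subgroup K) ≃* K).isSimpleGroup
  have hna' : ¬ IsMulCommutative (⊤ : Subgroup K) := fun h => hna ⟨⟨fun a b => by
    have := h.is_comm.comm ((Subgroup.topEquiv : (⊤ : Subgroup K) ≃* K).symm a) (Subgroup.topEquiv.symm b)
    have h2 := congrArg (Subgroup.topEquiv : (⊤ : Subgroup K) ≃* K) this
    simpa using h2⟩⟩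
  have hC : centralizer ((⊤ : Subgroup K) : Set K) = ⊥ := by
    have h1 := H388.Rad.center_eq_bot_of_simple hna
    rw [← h1]
    ext x
    simp [mem_centralizer_iff, mem_center_iff]
  have hF : Cfsg.generalizedFittingSubgroup K = ⊤ := fstar_eq hs' hna' hC
  rw [← hF] at hs' hna'
  haveI hnn : (Cfsg.generalizedFittingSubgroup K).Normal := by rw [hF]; infer_instance
  obtain ⟨C, hCN, hCc, hC7⟩ := (Cfsg.Agent.S2921.result hs' hna' T hab (by rw [hTc]; norm_num)).2.2 inferInstance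
  rw [hTc] at hC7
  haveI : Fact (Nat.Prime 7) := ⟨by norm_num⟩
  obtain ⟨y, hy⟩ := exists_prime_orderOf_dvd_card' (G := C) 7 (by rw [hC7])
  have hy' : orderOf (y : K) = 7 := by rw [Subgroup.orderOf_coe, hy]
  have hyN := hCN y.2
  have hyT : ∀ s ∈ (T : Subgroup K), (y : K) * s * (y : K)⁻¹ ∈ (T : Subgroup K) := fun s hs =>
    (mem_normalizer_iff.1 hyN s).1 hs
  have hnc : ∃ s ∈ (T : Subgroup K), (y : K) * s ≠ s * y := by
    by_contra hcon
    push Not at hcon
    obtain ⟨t, ht⟩ := exists_prime_orderOf_dvd_card' (G := (T : Subgroup K)) 2 (by rw [hTc]; norm_num)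
    have hc : Commute (t : K) (y : K) := (hcon t t.2).symm
    refine no_mul h (p := 2) (q := 7) (Or.inl rfl) (by norm_num) (Or.inl rfl) ⟨(t : K) * y, ?_⟩
    rw [hc.orderOf_mul_eq_mul_orderOf_of_coprime (by rw [Subgroup.orderOf_coe, ht, hy']; norm_num), hy',
      Subgroup.orderOf_coe, ht]
  obtain ⟨E, hES, hE1, hyE, hfix, -⟩ := act_of_normalizer (T : Subgroup K) hsq (by norm_num) (by norm_num) hy' hyT hnc
  refine ⟨E, y, 7, T.2.to_le hES, hE1, by norm_num, by norm_num, hy', hyE, hfix, ?_⟩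
  intro r hr hr2 hrd h2r h7r hrr
  rw [natCard h] at hrd
  rcases prime_cases hr hrd with rfl | rfl | rfl | rfl | rfl | rfl
  · exact hr2 rfl
  · obtain ⟨g, hg⟩ := h7r (by norm_num)
    exact no_mul h (p := 3) (q := 7) (by norm_num) (by norm_num) (by norm_num) ⟨g, by rw [hg]⟩
  · obtain ⟨g, hg⟩ := h7r (by norm_num)
    exact no_mul h (p := 5) (q := 7) (by norm_num) (by norm_num) (by norm_num) ⟨g, by rw [hg]⟩
  · obtain ⟨g, hg⟩ := hrr rfl
    have h9 := orderOf_dvd_natCard g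
    rw [hg, natCard h] at h9
    norm_num at h9
  · exact no_mul h (p := 2) (q := 11) (by norm_num) (by norm_num) (by norm_num) h2r
  · exact no_mul h (p := 2) (q := 19) (by norm_num) (by norm_num) (by norm_num) h2r

/-- **Almost simple groups with socle `J₁`.** -/
theorem eq_top {G : Type*} [Group G] [Finite G] (S : Subgroup G) [hSn : S.Normal] (hC : centralizer (S : Set G) = ⊥)
    (h : Cfsg.Spor.IsoJ1 S) : S = ⊤ := by
  obtain ⟨e⟩ := h
  rw [eq_top_iff]
  intro g _
  let α : MulAut Cfsg.Spor.J1 := (e.symm.trans (MulAut.conjNormal g : MulAut S)).trans e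
  obtain ⟨k, hk⟩ := Cfsg.Agent.OddHalf.D4.Spor.J1Out.inn α
  let s : S := e.symm k
  have h1 : ∀ x : S, g * (x : G) * g⁻¹ = s * (x : G) * (s : G)⁻¹ := by
    intro x
    have h2 : α (e x) = MulAut.conj k (e x) := by rw [hk]
    have h3 : e ((MulAut.conjNormal g : MulAut S) x) = k * e x * k⁻¹ := by
      have : α (e x) = e ((MulAut.conjNormal g : MulAut S) x) := by
        show e ((MulAut.conjNormal g : MulAut S) (e.symm (e x))) = _
        rw [e.symm_apply_apply]
      rw [← this, h2]; rfl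
    have h4 : (MulAut.conjNormal g : MulAut S) x = s * x * s⁻¹ := by
      apply e.injective
      rw [h3, map_mul, map_mul, map_inv, e.apply_symm_apply]
    have h5 := congrArg (Subtype.val) h4
    simpa using h5
  have h2 : (s : G)⁻¹ * g ∈ centralizer (S : Set G) := by
    rw [mem_centralizer_iff]
    intro x hx
    have h3 := h1 ⟨x, hx⟩
    change g * x * g⁻¹ = s * x * (s : G)⁻¹ at h3
    calc x * ((s : G)⁻¹ * g) = (s : G)⁻¹ * ((s : G) * x * (s : G)⁻¹) * g := by group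
      _ = (s : G)⁻¹ * (g * x * g⁻¹) * g := by rw [h3]
      _ = (s : G)⁻¹ * g * x := by group
  rw [hC, mem_bot, inv_mul_eq_one] at h2
  rw [← h2]
  exact s.2

end Cfsg.Agent.H514.OC.J1
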