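import Cfsg.Agent.H514.EppoBase

/-!
# The index of a normal subgroup with a Sylow subgroup of prime order

`G` has all elements of prime-power order, `S` is normal in `G` and `p` divides `|S|` exactly
once.  The Frattini argument with the Sylow `p`-subgroup of `S` bounds `|G : S|`.
-/

set_option autoImplicit false
set_option linter.style.haveILetI false
open Cfsg

namespace Cfsg.Agent.H514.Eppo

open Subgroup

variable {G : Type*} [Group G]

/-- The normalizer of a subgroup of prime order `p`. -/
theorem EP.normalizer_of_prime [Finite G] (h : EP G) (Z : Subgroup G) {p : ℕ} (hp : p.Prime)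
    (hZ : Nat.card Z = p) :
    Group.IsSolvable (Subgroup.normalizer (Z : Set G)) ∧
    ∃ a m : ℕ, Nat.card (Subgroup.normalizer (Z : Set G)) = p ^ a * m ∧ m ∣ p - 1 := by
  haveI := Fact.mk hp
  haveI hcyc : IsCyclic Z := isCyclic_of_prime_card hZ
  obtain ⟨z, hz⟩ := exists_prime_orderOf_dvd_card' (G := Z) p (by rw [hZ])
  have hC : IsPGroup p (Subgroup.centralizer (Z : Set G)) :=
    h.centralizer_of_mem hp (x := (z : G)) (by rw [Subgroup.orderOf_coe]; exact hz) z.2
  have hk : IsPGroup p Z.normalizerMonoidHom.ker := by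
    rw [Subgroup.normalizerMonoidHom_ker]
    exact hC.comap_of_injective _ (Subgroup.subtype_injective _)
  have hks : Group.IsSolvable Z.normalizerMonoidHom.ker := solvable_of_isPGroup hp hk
  have hcomm : ∀ a b : MulAut Z, a * b = b * a := by
    intro a b
    apply (IsCyclic.mulAutMulEquiv Z).injective
    rw [map_mul, map_mul, mul_comm]
  have hms : Group.IsSolvable (MulAut Z) := Group.isSolvable_of_comm hcomm
  constructor
  · exact Group.isSolvable_of_ker_le_range Z.normalizerMonoidHom.ker.subtype Z.normalizerMonoidHom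
      (by simp)
  · obtain ⟨a, ha⟩ := IsPGroup.iff_card.1 hk
    refine ⟨a, Nat.card Z.normalizerMonoidHom.range, ?_, ?_⟩
    · have h1 := Subgroup.card_eq_card_quotient_mul_card_subgroup Z.normalizerMonoidHom.ker
      rw [h1, ha, mul_comm,
        Nat.card_congr (QuotientGroup.quotientKerEquivRange Z.normalizerMonoidHom).toEquiv]
    · have h1 := Subgroup.card_subgroup_dvd_card Z.normalizerMonoidHom.range
      rwa [IsCyclic.card_mulAut, hZ, Nat.totient_prime hp] at h1

theorem map_normalizer_eq (S : Subgroup G) (P : Subgroup S) :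
    (Subgroup.normalizer (P : Set S)).map S.subtype =
      Subgroup.normalizer ((P.map S.subtype : Subgroup G) : Set G) ⊓ S := by
  ext g
  constructor
  · rintro ⟨s, hs, rfl⟩
    refine ⟨?_, s.2⟩
    refine Subgroup.mem_normalizer_iff.2 ?_
    rw [SetLike.mem_coe, Subgroup.mem_normalizer_iff] at hs
    intro x
    constructor
    · rintro ⟨y, hy, rfl⟩
      exact ⟨s * y * s⁻¹, (hs y).1 hy, by simp⟩
    · rintro ⟨y, hy, hyx⟩
      have hx : x = ((s⁻¹ * y * s : S) : G) := by
        have : x = (S.subtype s)⁻¹ * (S.subtype s * x * (S.subtype s)⁻¹) * S.subtype s := by group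
        rw [this, ← hyx]
        simp
      refine ⟨s⁻¹ * y * s, (hs _).2 (by simpa [mul_assoc] using hy), hx.symm⟩
  · rintro ⟨hn, hg⟩
    refine ⟨⟨g, hg⟩, ?_, rfl⟩
    rw [SetLike.mem_coe, Subgroup.mem_normalizer_iff]
    replace hn := Subgroup.mem_normalizer_iff.1 hn
    intro x
    have h1 := hn (x : G)
    constructor
    · intro hx
      obtain ⟨y, hy, hyx⟩ := h1.1 ⟨x, hx, rfl⟩
      have h2 : (⟨g, hg⟩ : S) * x * (⟨g, hg⟩ : S)⁻¹ = y := by
        apply Subtype.ext
        exact hyx.symm
      rw [h2]; exact hy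
    · intro hx
      obtain ⟨y, hy, hyx⟩ := h1.2 ⟨_, hx, rfl⟩
      have h2 : x = y := Subtype.ext hyx.symm
      rw [h2]; exact hy

/-- The index of a normal subgroup with Sylow `p`-subgroups of order `p`. -/
theorem EP.index_of_sylow [Finite G] (h : EP G) (S : Subgroup G) [hS : S.Normal] {p : ℕ} (hp : p.Prime)
    (hpS : p ∣ Nat.card S) (hpS2 : ¬ p ^ 2 ∣ Nat.card S) {e : ℕ} (he : (Nat.card S / p) % p = e) :
    (∃ a : ℕ, S.index * e ∣ p ^ a * (p - 1)) ∧
    ∀ s : ℕ, s.Prime → s ∣ e → ∀ r : ℕ, r.Prime → r ∣ S.index → r = p ∨ r = s := by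
  classical
  haveI := Fact.mk hp
  obtain ⟨P⟩ : Nonempty (Sylow p S) := inferInstance
  have hPc : Nat.card P = p := by
    rw [P.card_eq_multiplicity]
    have h1 : (Nat.card S).factorization p = 1 := by
      refine le_antisymm ?_ ?_
      · by_contra hcon
        exact hpS2 ((Nat.Prime.pow_dvd_iff_le_factorization hp Nat.card_pos.ne').2 (by omega))
      · exact (Nat.Prime.dvd_iff_one_le_factorization hp Nat.card_pos.ne').1 hpS
    rw [h1, pow_one]
  set Z : Subgroup G := (P : Subgroup S).map S.subtype with hZ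
  have hZc : Nat.card Z = p := by
    rw [hZ, Subgroup.card_map_of_injective S.subtype_injective]; exact hPc
  obtain ⟨hNs, a, m, hNc, hm⟩ := h.normalizer_of_prime Z hp hZc
  set N : Subgroup G := Subgroup.normalizer (Z : Set G) with hN
  have hfr : N ⊔ S = ⊤ := P.normalizer_sup_eq_top
  have hidx : S.relIndex N = S.index := by
    rw [← Subgroup.relIndex_sup_right, hfr, Subgroup.relIndex_top_right]
  -- the normalizer in `S`
  set M : Subgroup S := Subgroup.normalizer ((P : Subgroup S) : Set S) with hM
  have hMmap : M.map S.subtype = N ⊓ S := map_normalizer_eq S P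
  have hMc : Nat.card M = Nat.card ↥(N ⊓ S) := by
    rw [← hMmap, Subgroup.card_map_of_injective S.subtype_injective]
  have hprod : S.index * Nat.card M = Nat.card N := by
    have h1 := Subgroup.card_eq_card_quotient_mul_card_subgroup (S.subgroupOf N)
    rw [h1, ← hidx, hMc]
    congr 1
    rw [inf_comm, ← Subgroup.subgroupOf_map_subtype,
      Subgroup.card_map_of_injective N.subtype_injective]
  have hsyl : Nat.card M * Nat.card (Sylow p S) = Nat.card S := by
    rw [P.card_eq_index_normalizer]
    exact Subgroup.card_mul_index _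
  have hmod := card_sylow_modEq_one p S
  have hPM : p ∣ Nat.card M := by
    rw [← hPc]
    exact Subgroup.card_dvd_of_le Subgroup.le_normalizer
  obtain ⟨f, hf⟩ := hPM
  have hpf : ¬ p ∣ f := by
    rintro ⟨k, rfl⟩
    apply hpS2
    rw [← hsyl, hf]
    exact ⟨k * Nat.card (Sylow p S), by ring⟩
  have hpc : (p ^ a).Coprime f := Nat.Coprime.pow_left _ ((Nat.Prime.coprime_iff_not_dvd hp).2 hpf)
  have hfm : f ∣ m := by
    have h1 : f ∣ p ^ a * m := by
      rw [← hNc, ← hprod, hf]
      exact ⟨S.index * p, by ring⟩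
    exact hpc.symm.dvd_of_dvd_mul_left h1
  have hflt : f < p := by
    have h1 : f ∣ p - 1 := hfm.trans hm
    have h2 := Nat.le_of_dvd (Nat.sub_pos_of_lt hp.one_lt) h1
    have := hp.one_lt
    omega
  have hfe : f = e := by
    rw [← he, ← hsyl, hf]
    have h1 : p * f * Nat.card (Sylow p S) / p = f * Nat.card (Sylow p S) := by
      rw [mul_assoc, Nat.mul_div_cancel_left _ hp.pos]
    rw [h1, Nat.mul_mod]
    have h2 : Nat.card (Sylow p S) % p = 1 := by
      have := hmod
      unfold Nat.ModEq at this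
      rw [this, Nat.mod_eq_of_lt hp.one_lt]
    rw [h2, mul_one, Nat.mod_mod, Nat.mod_eq_of_lt hflt]
  refine ⟨⟨a, ?_⟩, ?_⟩
  · rw [← hfe]
    have h1 : S.index * f ∣ p ^ a * m := by
      rw [← hNc, ← hprod, hf]
      exact ⟨p, by ring⟩
    exact h1.trans (Nat.mul_dvd_mul_left _ hm)
  · intro s hs hse r hr hri
    by_contra hcon
    push Not at hcon
    obtain ⟨hrp, hrs⟩ := hcon
    have hcard : (Nat.card N).primeFactors.card ≤ 2 := Cfsg.Agent.S1475.result (h.subgroup N).or
    have hsp : s ≠ p := by
      rintro rfl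
      exact hpf (hfe ▸ hse)
    have hN0 : Nat.card N ≠ 0 := Nat.card_pos.ne'
    have hsub : ({p, s, r} : Finset ℕ) ⊆ (Nat.card N).primeFactors := by
      intro q hq
      simp only [Finset.mem_insert, Finset.mem_singleton] at hq
      rw [Nat.mem_primeFactors]
      rcases hq with rfl | rfl | rfl
      · exact ⟨hp, by rw [← hprod, hf]; exact ⟨S.index * f, by ring⟩, hN0⟩
      · exact ⟨hs, by rw [← hprod, hf, hfe]; exact Dvd.dvd.mul_left (Dvd.dvd.mul_left hse _) _, hN0⟩
      · exact ⟨hr, by rw [← hprod]; exact Dvd.dvd.mul_right hri _, hN0⟩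
    have h3 : ({p, s, r} : Finset ℕ).card = 3 := by
      rw [Finset.card_insert_of_notMem, Finset.card_insert_of_notMem, Finset.card_singleton]
      · simpa using hrs.symm
      · simp only [Finset.mem_insert, Finset.mem_singleton, not_or]
        exact ⟨hsp.symm, hrp.symm⟩
    have := Finset.card_le_card hsub
    omega

end Cfsg.Agent.H514.Eppo
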