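import Cfsg.Agent.H514.EppoBase

/-!
# Nonsolvable groups with all elements of prime-power order and `O_2 = 1`

The minimal normal subgroup is simple, has trivial centralizer and contains all primes.
-/

set_option autoImplicit false
set_option linter.style.haveILetI false
open Cfsg

namespace Cfsg.Agent.H514.Eppo

open Subgroup

variable {G : Type*} [Group G]

/-- A normal subgroup of minimal order satisfying a property. -/
theorem exists_minimal_normal (G : Type*) [Group G] [Finite G] [Nontrivial G] :
    ∃ S : Subgroup G, S.Normal ∧ S ≠ ⊥ ∧ ∀ M : Subgroup G, M.Normal → M ≠ ⊥ → Nat.card S ≤ Nat.card M := by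
  classical
  have hex : ∃ n, ∃ S : Subgroup G, S.Normal ∧ S ≠ ⊥ ∧ Nat.card S = n :=
    ⟨_, ⊤, inferInstance, top_ne_bot, rfl⟩
  obtain ⟨S, hS, hSb, hSn⟩ := Nat.find_spec hex
  refine ⟨S, hS, hSb, fun M hM hMb => ?_⟩
  rw [hSn]
  exact Nat.find_min' hex ⟨M, hM, hMb, rfl⟩

theorem eq_of_le_of_card {A B : Subgroup G} [Finite G] (h : A ≤ B) (hc : Nat.card B ≤ Nat.card A) :
    A = B := Subgroup.eq_of_le_of_card_ge h hc

/-- The minimal normal subgroup is simple. -/
theorem EP.minimal_simple [Finite G] (hodd : Odd (Nat.card G) → Group.IsSolvable G)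
    (h : EP G) (hns : ¬ Group.IsSolvable G) (hO : pCore 2 G = ⊥) (S : Subgroup G) [hS : S.Normal]
    (hSb : S ≠ ⊥) (hmin : ∀ M : Subgroup G, M.Normal → M ≠ ⊥ → Nat.card S ≤ Nat.card M) :
    IsSimpleGroup S := by
  classical
  haveI : Nontrivial S := (Subgroup.nontrivial_iff_ne_bot S).2 hSb
  obtain ⟨T, hT, hTb, hTmin⟩ := exists_minimal_normal S
  have hcardT : ∀ g : G, Nat.card (T.map (MulAut.conjNormal g : S ≃* S).toMonoidHom) = Nat.card T := by
    intro g
    exact Subgroup.card_map_of_injective (MulAut.conjNormal g : S ≃* S).injective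
  have hnT : ∀ g : G, (T.map (MulAut.conjNormal g : S ≃* S).toMonoidHom).Normal := by
    intro g
    exact hT.map _ (MulAut.conjNormal g : S ≃* S).surjective
  have key : ∀ g : G, T.map (MulAut.conjNormal g : S ≃* S).toMonoidHom = T := by
    intro g
    by_contra hne
    have hinf : T ⊓ T.map (MulAut.conjNormal g : S ≃* S).toMonoidHom = ⊥ := by
      by_contra hinf
      haveI := hnT g
      have h1 := hTmin (T ⊓ T.map (MulAut.conjNormal g : S ≃* S).toMonoidHom) inferInstance hinf
      have h2 : T ⊓ T.map (MulAut.conjNormal g : S ≃* S).toMonoidHom = T :=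
        eq_of_le_of_card inf_le_left h1
      have h3 : T ≤ T.map (MulAut.conjNormal g : S ≃* S).toMonoidHom := inf_eq_left.1 h2
      exact hne (eq_of_le_of_card h3 (hcardT g).le).symm
    have hgb : T.map (MulAut.conjNormal g : S ≃* S).toMonoidHom ≠ ⊥ := by
      intro hb
      have := hcardT g
      rw [hb, Subgroup.card_bot] at this
      exact hTb (Subgroup.card_eq_one.1 this.symm)
    obtain ⟨q, hq, y, hy, hyq⟩ := exists_prime_mem hgb
    have hTq : IsPGroup q T := by
      refine isPGroup_of_forall (fun r hr z hz => ?_)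
      have hcom : Commute (z : S) y := by
        exact Subgroup.commute_of_normal_of_disjoint T _ hT (hnT g) (disjoint_iff.2 hinf) z y z.2 hy
      exact (h.subgroup S).prime_eq hcom hr hq (by rw [Subgroup.orderOf_coe]; exact hz) hyq
    haveI := Fact.mk hq
    have h4 : (pCore q S).map S.subtype = S ⊓ pCore q G :=
      Cfsg.Agent.Lib.Cores.map_subtype_pCore q hS
    haveI : (pCore q G).Normal := Cfsg.Agent.Lib.Cores.pCore_normal q
    have h5 : IsPGroup q ↥(S ⊓ pCore q G) :=
      (Cfsg.Agent.Lib.Cores.pCore_isPGroup q).to_le inf_le_right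
    have h6 : S ⊓ pCore q G = ⊥ :=
      h.solvable_normal hodd hns hO _ (solvable_of_isPGroup hq h5)
    rw [h6, Subgroup.map_eq_bot_iff_of_injective _ S.subtype_injective] at h4
    have h7 := Cfsg.Agent.Lib.Cores.le_pCore hT hTq
    rw [h4, le_bot_iff] at h7
    exact hTb h7
  have hTn : (T.map S.subtype).Normal := by
    refine ⟨fun x hx g => ?_⟩
    obtain ⟨y, hy, rfl⟩ := hx
    have h1 : (MulAut.conjNormal g : S ≃* S) y ∈ T := by
      rw [← key g]
      exact Subgroup.mem_map_of_mem _ hy
    exact ⟨_, h1, by simp⟩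
  have hTtop : T = ⊤ := by
    have h1 := hmin (T.map S.subtype) hTn (by
      rw [Ne, Subgroup.map_eq_bot_iff_of_injective _ S.subtype_injective]; exact hTb)
    rw [Subgroup.card_map_of_injective S.subtype_injective] at h1
    exact eq_of_le_of_card le_top (by rw [Subgroup.card_top]; exact h1)
  refine { exists_pair_ne := Nontrivial.exists_pair_ne, eq_bot_or_eq_top_of_normal := fun M hM => ?_ }
  by_cases hMb : M = ⊥
  · exact Or.inl hMb
  · right
    have h1 := hTmin M hM hMb
    rw [hTtop, Subgroup.card_top] at h1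
    exact eq_of_le_of_card le_top (by rw [Subgroup.card_top]; exact h1)

/-- A nonsolvable normal subgroup has trivial centralizer. -/
theorem EP.centralizer_eq_bot [Finite G] (h : EP G) (S : Subgroup G) (hSs : ¬ Group.IsSolvable S) :
    Subgroup.centralizer (S : Set G) = ⊥ := by
  by_contra hne
  obtain ⟨p, hp, x, hx, hxp⟩ := exists_prime_mem hne
  have h1 : IsPGroup p S := by
    refine isPGroup_of_forall (fun q hq g hg => ?_)
    refine (h.prime_eq (x := x) (y := (g : G)) ?_ hp hq hxp ?_).symm
    · exact ((Subgroup.mem_centralizer_iff.1 hx) g g.2).symm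
    · rw [Subgroup.orderOf_coe]; exact hg
  exact hSs (solvable_of_isPGroup hp h1)

/-- A nonsolvable normal subgroup has all the primes of the group. -/
theorem EP.dvd_card_of_normal [Finite G] (h : EP G) (S : Subgroup G) [hS : S.Normal]
    (hSs : ¬ Group.IsSolvable S) {r : ℕ} (hr : r.Prime) (hrG : r ∣ Nat.card G) : r ∣ Nat.card S := by
  by_contra hrS
  haveI := Fact.mk hr
  obtain ⟨x, hx⟩ := exists_prime_orderOf_dvd_card' (G := G) r hrG
  have hfix : ∀ s : S, x * s * x⁻¹ = s → s = 1 := by
    intro s hs
    by_contra hs1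
    obtain ⟨q, hq, y, hy, hyq⟩ := exists_prime_mem (G := S) (H := Subgroup.zpowers s) (by simpa using hs1)
    have hcs : Commute x (s : G) := by
      show x * s = s * x
      calc x * s = (x * s * x⁻¹) * x := by group
        _ = s * x := by rw [hs]
    have hcy : Commute x (y : G) := by
      obtain ⟨k, rfl⟩ := Subgroup.mem_zpowers_iff.1 hy
      have := hcs.zpow_right k
      simpa using this
    have h1 : r = q := h.prime_eq hcy hr hq hx (by rw [Subgroup.orderOf_coe]; exact hyq)
    apply hrS
    rw [h1, ← hyq]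
    exact orderOf_dvd_natCard _
  let φ : S ≃* S := MulAut.conjNormal x
  have hφr : (MulAut.conjNormal x : MulAut S) ^ r = 1 := by
    rw [← map_pow, ← hx, pow_orderOf_eq_one, map_one]
  have hφ1 : (MulAut.conjNormal x : MulAut S) ≠ 1 := by
    intro h1
    apply hSs
    haveI : Subsingleton S := ⟨fun a b => by
      have h2 : ∀ s : S, s = 1 := fun s => hfix s (by
        have := congrArg (fun f : MulAut S => ((f s : S) : G)) h1
        simpa using this)
      rw [h2 a, h2 b]⟩
    infer_instance
  have hord : orderOf (MulAut.conjNormal x : MulAut S) = r := orderOf_eq_prime hφr hφ1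
  have hnil : Group.IsNilpotent S := by
    refine Cfsg.Agent.S0033.result (MulAut.conjNormal x : S ≃* S) ?_ r hr hord
    intro s hs
    apply hfix s
    have := congrArg (fun s : S => (s : G)) hs
    simpa using this
  exact hSs inferInstance

/-- **Structure**: a nonsolvable `EP` group with `O_2 = 1`. -/
theorem EP.exists_simple [Finite G] (hodd : ∀ (H : Subgroup G), Odd (Nat.card H) → Group.IsSolvable H)
    (h : EP G) (hns : ¬ Group.IsSolvable G) (hO : pCore 2 G = ⊥) :
    ∃ S : Subgroup G, S.Normal ∧ IsSimpleGroup S ∧ ¬ IsMulCommutative S ∧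
      (∀ r : ℕ, r.Prime → r ∣ Nat.card G → r ∣ Nat.card S) := by
  have hoddG : Odd (Nat.card G) → Group.IsSolvable G := by
    intro ho
    have h1 := hodd ⊤ (by rw [Subgroup.card_top]; exact ho)
    exact Group.isSolvable_of_isSolvable_injective (f := (Subgroup.topEquiv (G := G)).symm.toMonoidHom)
      (Subgroup.topEquiv (G := G)).symm.injective
  haveI : Nontrivial G := by
    by_contra hn
    rw [not_nontrivial_iff_subsingleton] at hn
    exact hns inferInstance
  obtain ⟨S, hS, hSb, hmin⟩ := exists_minimal_normal G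
  have hSs : ¬ Group.IsSolvable S := fun hs => hSb (h.solvable_normal hoddG hns hO S hs)
  refine ⟨S, hS, h.minimal_simple hoddG hns hO S hSb hmin, fun hc => hSs ?_, fun r hr hrG =>
    h.dvd_card_of_normal S hSs hr hrG⟩
  exact Group.isSolvable_of_comm (fun a b => mul_comm' a b)

end Cfsg.Agent.H514.Eppo
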