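import Cfsg.Agent.H514.EppoBase
import Cfsg.Agent.SignalizersComponents.CoprimeGen

/-!
# Extensions of `2`-groups by groups with a noncyclic elementary abelian `3`-subgroup

In a group with all elements of prime-power order such an extension has trivial kernel; `PSL(3,4)`
has such a subgroup.
-/

set_option autoImplicit false
set_option linter.style.haveILetI false
open Cfsg

namespace Cfsg.Agent.H514.Eppo

open Subgroup

variable {G : Type*} [Group G]

/-- Two commuting elements of exponent 3 generate an elementary abelian subgroup of order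
divisible by 9. -/
theorem exists_elem_nine {Q : Type*} [Group Q] [Finite Q] {a b : Q} (hab : Commute a b) (ha : a ^ 3 = 1)
    (hb : b ^ 3 = 1) (ha1 : a ≠ 1) (hba : b ∉ Subgroup.zpowers a) :
    ∃ E : Subgroup Q, (∀ x ∈ E, ∀ y ∈ E, x * y = y * x) ∧ (∀ x ∈ E, x ^ 3 = 1) ∧ 9 ∣ Nat.card E := by
  have h3 : Fact (Nat.Prime 3) := ⟨Nat.prime_three⟩
  let E : Subgroup Q := Subgroup.closure {a, b}
  have haE : a ∈ E := Subgroup.subset_closure (by simp)
  have hbE : b ∈ E := Subgroup.subset_closure (by simp)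
  have hcomm : ∀ x ∈ E, ∀ y ∈ E, x * y = y * x := by
    have h1 : ∀ x ∈ ({a, b} : Set Q), ∀ y ∈ ({a, b} : Set Q), x * y = y * x := by
      rintro x (rfl | rfl) y (rfl | rfl)
      · rfl
      · exact hab
      · exact hab.symm
      · rfl
    intro x hx y hy
    have := (Subgroup.closure_le_centralizer_centralizer ({a, b} : Set Q)) hx
    rw [Subgroup.mem_centralizer_iff] at this
    refine (this y ?_).symm
    revert hy
    intro hy
    have h2 : E ≤ Subgroup.centralizer ({a, b} : Set Q) := by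
      rw [Subgroup.closure_le]
      intro z hz
      rw [SetLike.mem_coe, Subgroup.mem_centralizer_iff]
      exact fun w hw => h1 w hw z hz
    exact h2 hy
  have hexp : ∀ x ∈ E, x ^ 3 = 1 := by
    intro x hx
    induction hx using Subgroup.closure_induction with
    | mem x hx =>
      rcases hx with rfl | rfl
      · exact ha
      · exact hb
    | one => exact one_pow 3
    | mul x y hx hy h1 h2 =>
      have : Commute x y := hcomm x hx y hy
      rw [this.mul_pow, h1, h2, one_mul]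
    | inv x hx h1 => rw [inv_pow, h1, inv_one]
  refine ⟨E, hcomm, hexp, ?_⟩
  have hE3 : IsPGroup 3 E := by
    intro x
    exact ⟨1, by
      apply Subtype.ext
      have := hexp x x.2
      simpa using this⟩
  obtain ⟨k, hk⟩ := IsPGroup.iff_card.1 hE3
  have hza : Nat.card (Subgroup.zpowers a) = 3 := by
    rw [Nat.card_zpowers]
    exact orderOf_eq_prime ha ha1
  have hlt : Subgroup.zpowers a < E := by
    refine lt_of_le_of_ne (Subgroup.zpowers_le.2 haE) ?_
    intro h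
    exact hba (h ▸ hbE)
  have hcard : 3 < Nat.card E := by
    rw [← hza]
    refine lt_of_le_of_ne (Nat.le_of_dvd Nat.card_pos (Subgroup.card_dvd_of_le hlt.le)) ?_
    intro h
    exact hlt.ne (Subgroup.eq_of_le_of_card_ge hlt.le h.ge)
  have hk2 : 2 ≤ k := by
    by_contra hcon
    have : k = 0 ∨ k = 1 := by omega
    rcases this with rfl | rfl
    · rw [hk] at hcard; norm_num at hcard
    · rw [hk] at hcard; norm_num at hcard
  rw [hk]
  exact pow_dvd_pow 3 hk2

/-- A `2`-group extended by a group with such a subgroup. -/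
theorem EP.eq_bot_of_nine [Finite G] (h : EP G) (N : Subgroup G) [hN : N.Normal] (hN2 : IsPGroup 2 N)
    (hE : ∃ E : Subgroup (G ⧸ N), (∀ x ∈ E, ∀ y ∈ E, x * y = y * x) ∧ (∀ x ∈ E, x ^ 3 = 1) ∧
      9 ∣ Nat.card E) : N = ⊥ := by
  classical
  obtain ⟨E, hEc, hE3, hE9⟩ := hE
  haveI h3 : Fact (Nat.Prime 3) := ⟨Nat.prime_three⟩
  haveI h2 : Fact (Nat.Prime 2) := ⟨Nat.prime_two⟩
  let H : Subgroup G := E.comap (QuotientGroup.mk' N)
  have hHc : 9 ∣ Nat.card H := by
    refine hE9.trans ?_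
    have h1 : (H.map (QuotientGroup.mk' N)) = E :=
      Subgroup.map_comap_eq_self_of_surjective (QuotientGroup.mk'_surjective N) E
    rw [← h1]
    exact Subgroup.card_map_dvd _ _
  obtain ⟨P⟩ : Nonempty (Sylow 3 H) := inferInstance
  let A : Subgroup G := (P : Subgroup H).map H.subtype
  have hA9 : 9 ∣ Nat.card A := by
    have h1 : Nat.card A = Nat.card P := Subgroup.card_map_of_injective H.subtype_injective
    rw [h1]
    exact P.pow_dvd_card_of_pow_dvd_card (n := 2) hHc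
  have hAp : IsPGroup 3 A := P.2.map _
  have hAH : A ≤ H := Subgroup.map_subtype_le _
  have hinf : ∀ x ∈ A, x ∈ N → x = 1 := by
    intro x hxA hxN
    have h1 : A ⊓ N = ⊥ := (IsPGroup.disjoint_of_ne 3 2 (by norm_num) A N hAp hN2).eq_bot
    have h2 : x ∈ A ⊓ N := ⟨hxA, hxN⟩
    rw [h1] at h2
    exact h2
  have hAe : Cfsg.IsElementaryAbelian 3 A := by
    constructor
    · refine ⟨⟨fun x y => ?_⟩⟩
      apply Subtype.ext
      have hx : ((x : G) : G ⧸ N) ∈ E := hAH x.2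
      have hy : ((y : G) : G ⧸ N) ∈ E := hAH y.2
      have h1 : (((x : G)⁻¹ * (y : G)⁻¹ * x * y : G) : G ⧸ N) = 1 := by
        have := hEc _ hx _ hy
        rw [QuotientGroup.mk_mul, QuotientGroup.mk_mul, QuotientGroup.mk_mul, QuotientGroup.mk_inv,
          QuotientGroup.mk_inv, mul_assoc, this]
        group
      have h2 : (x : G)⁻¹ * (y : G)⁻¹ * x * y = 1 := by
        refine hinf _ ?_ ((QuotientGroup.eq_one_iff _).1 h1)
        exact mul_mem (mul_mem (mul_mem (inv_mem x.2) (inv_mem y.2)) x.2) y.2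
      show (x : G) * y = y * x
      calc (x : G) * y = y * x * ((x : G)⁻¹ * (y : G)⁻¹ * x * y) := by group
        _ = y * x := by rw [h2, mul_one]
    · intro x hx
      refine hinf _ (pow_mem hx 3) ?_
      rw [← QuotientGroup.eq_one_iff, QuotientGroup.mk_pow]
      exact hE3 _ (hAH hx)
  have hZ : ¬ 3 ∣ Nat.card N := by
    obtain ⟨k, hk⟩ := IsPGroup.iff_card.1 hN2
    rw [hk]
    intro h3
    have := (Nat.prime_dvd_prime_iff_eq Nat.prime_three Nat.prime_two).1
      (Nat.prime_three.dvd_of_dvd_pow h3)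
    norm_num at this
  have hAN : A ≤ Subgroup.normalizer (N : Set G) := by
    rw [Subgroup.normalizer_eq_top (H := N)]; exact le_top
  have hA2 : 3 ^ 2 ≤ Nat.card A := Nat.le_of_dvd Nat.card_pos (by simpa using hA9)
  have hgen := Cfsg.Agent.SignalizersComponents.CoprimeGen.le_iSup_centralizer_ne_one hAe hA2 hZ hAN
  rw [eq_bot_iff]
  refine hgen.trans (iSup_le ?_)
  rintro ⟨a, haA, ha1⟩
  have ha3 : orderOf a = 3 := orderOf_eq_prime (hAe.2 a haA) ha1
  have hC : IsPGroup 3 (Subgroup.centralizer ({a} : Set G)) := h.centralizer Nat.prime_three ha3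
  exact (IsPGroup.disjoint_of_ne 2 3 (by norm_num) N _ hN2 hC).le_bot

/-- Commuting elements of order 3 in `PSL(3,4)`. -/
theorem psl_three_four {F : Type*} [Field F] [Fintype F] (hF : Fintype.card F = 4) :
    ∃ E : Subgroup (Matrix.ProjectiveSpecialLinearGroup (Fin 3) F),
      (∀ x ∈ E, ∀ y ∈ E, x * y = y * x) ∧ (∀ x ∈ E, x ^ 3 = 1) ∧ 9 ∣ Nat.card E := by
  classical
  obtain ⟨w, hw⟩ : ∃ w : Fˣ, w ≠ 1 := by
    have h1 : Fintype.card Fˣ = 3 := by rw [Fintype.card_units, hF]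
    have : Nontrivial Fˣ := Fintype.one_lt_card_iff_nontrivial.1 (by rw [h1]; norm_num)
    exact exists_ne 1
  have hw3 : (w : F) ^ 3 = 1 := by
    have h1 : Fintype.card Fˣ = 3 := by rw [Fintype.card_units, hF]
    have h2 : w ^ 3 = 1 := by rw [← h1]; exact pow_card_eq_one
    have := congrArg (fun u : Fˣ => (u : F)) h2
    simpa using this
  have hw1 : (w : F) ≠ 1 := fun h1 => hw (Units.ext h1)
  obtain ⟨ω, hω⟩ : ∃ ω : F, ω = (w : F) := ⟨_, rfl⟩
  rw [← hω] at hw3 hw1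
  have hdA : (!![1, 0, 0; 0, ω, 0; 0, 0, ω ^ 2] : Matrix (Fin 3) (Fin 3) F).det = 1 := by
    rw [Matrix.det_fin_three]
    simp
    calc ω * ω ^ 2 = ω ^ 3 := by ring
      _ = 1 := hw3
  have hdB : (!![0, 1, 0; 0, 0, 1; 1, 0, 0] : Matrix (Fin 3) (Fin 3) F).det = 1 := by
    rw [Matrix.det_fin_three]
    simp
  let A : Matrix.SpecialLinearGroup (Fin 3) F := ⟨_, hdA⟩
  let B : Matrix.SpecialLinearGroup (Fin 3) F := ⟨_, hdB⟩
  let π : Matrix.SpecialLinearGroup (Fin 3) F →* Matrix.ProjectiveSpecialLinearGroup (Fin 3) F :=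
    QuotientGroup.mk' _
  have hdZ : (!![ω, 0, 0; 0, ω, 0; 0, 0, ω] : Matrix (Fin 3) (Fin 3) F).det = 1 := by
    rw [Matrix.det_fin_three]
    simp
    calc ω * ω * ω = ω ^ 3 := by ring
      _ = 1 := hw3
  let Z : Matrix.SpecialLinearGroup (Fin 3) F := ⟨_, hdZ⟩
  have hZc : ∀ g : Matrix.SpecialLinearGroup (Fin 3) F, g * Z = Z * g := by
    intro g
    apply Subtype.ext
    show (g : Matrix (Fin 3) (Fin 3) F) * !![ω, 0, 0; 0, ω, 0; 0, 0, ω] = !![ω, 0, 0; 0, ω, 0; 0, 0, ω] * (g : Matrix (Fin 3) (Fin 3) F)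
    have h1 : (!![ω, 0, 0; 0, ω, 0; 0, 0, ω] : Matrix (Fin 3) (Fin 3) F) = ω • (1 : Matrix (Fin 3) (Fin 3) F) := by
      ext i j
      fin_cases i <;> fin_cases j <;> simp
    rw [h1]
    simp
  have hπZ : π Z = 1 := by
    show (QuotientGroup.mk Z : Matrix.ProjectiveSpecialLinearGroup (Fin 3) F) = 1
    rw [QuotientGroup.eq_one_iff, Subgroup.mem_center_iff]
    exact hZc
  have hA3 : A ^ 3 = 1 := by
    apply Subtype.ext
    show (!![1, 0, 0; 0, ω, 0; 0, 0, ω ^ 2] : Matrix (Fin 3) (Fin 3) F) ^ 3 = 1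
    rw [pow_three]
    ext i j
    fin_cases i <;> fin_cases j <;> simp [Matrix.mul_apply, Fin.sum_univ_three]
    · calc ω * (ω * ω) = ω ^ 3 := by ring
        _ = 1 := hw3
    · calc ω ^ 2 * (ω ^ 2 * ω ^ 2) = (ω ^ 3) ^ 2 := by ring
        _ = 1 := by rw [hw3, one_pow]
  have hB3 : B ^ 3 = 1 := by
    apply Subtype.ext
    show (!![0, 1, 0; 0, 0, 1; 1, 0, 0] : Matrix (Fin 3) (Fin 3) F) ^ 3 = 1
    rw [pow_three]
    ext i j
    fin_cases i <;> fin_cases j <;> simp [Matrix.mul_apply, Fin.sum_univ_three]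
  have hBA : B * A = Z * (A * B) := by
    apply Subtype.ext
    show (!![0, 1, 0; 0, 0, 1; 1, 0, 0] : Matrix (Fin 3) (Fin 3) F) * !![1, 0, 0; 0, ω, 0; 0, 0, ω ^ 2] =
      !![ω, 0, 0; 0, ω, 0; 0, 0, ω] * (!![1, 0, 0; 0, ω, 0; 0, 0, ω ^ 2] * !![0, 1, 0; 0, 0, 1; 1, 0, 0])
    ext i j
    fin_cases i <;> fin_cases j <;> simp [Matrix.mul_apply, Fin.sum_univ_three]
    · ring
    · calc (1 : F) = ω ^ 3 := hw3.symm
        _ = ω * ω ^ 2 := by ring
  have hne : ¬ A * B = B * A := by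
    intro h1
    have h2 := congrArg (fun g : Matrix.SpecialLinearGroup (Fin 3) F => (g : Matrix (Fin 3) (Fin 3) F) 0 1) h1
    have h3 : ((A * B : Matrix.SpecialLinearGroup (Fin 3) F) : Matrix (Fin 3) (Fin 3) F) 0 1 = 1 := by
      show ((!![1, 0, 0; 0, ω, 0; 0, 0, ω ^ 2] : Matrix (Fin 3) (Fin 3) F) *
        (!![0, 1, 0; 0, 0, 1; 1, 0, 0] : Matrix (Fin 3) (Fin 3) F) : Matrix (Fin 3) (Fin 3) F) 0 1 = 1
      simp [Matrix.mul_apply, Fin.sum_univ_three]
    have h4 : ((B * A : Matrix.SpecialLinearGroup (Fin 3) F) : Matrix (Fin 3) (Fin 3) F) 0 1 = ω := by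
      show ((!![0, 1, 0; 0, 0, 1; 1, 0, 0] : Matrix (Fin 3) (Fin 3) F) *
        (!![1, 0, 0; 0, ω, 0; 0, 0, ω ^ 2] : Matrix (Fin 3) (Fin 3) F) : Matrix (Fin 3) (Fin 3) F) 0 1 = ω
      simp [Matrix.mul_apply, Fin.sum_univ_three]
    exact hw1 (h4.symm.trans (h2.symm.trans h3))
  have hcen : ∀ X Y g : Matrix.SpecialLinearGroup (Fin 3) F, π X = π Y → g * (X⁻¹ * Y) = (X⁻¹ * Y) * g := by
    intro X Y g h1
    have h2 : π (X⁻¹ * Y) = 1 := by rw [map_mul, map_inv, h1, inv_mul_cancel]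
    have h3 : (X⁻¹ * Y) ∈ Subgroup.center (Matrix.SpecialLinearGroup (Fin 3) F) :=
      (QuotientGroup.eq_one_iff _).1 h2
    exact Subgroup.mem_center_iff.1 h3 g
  refine exists_elem_nine (a := π A) (b := π B) ?_ ?_ ?_ ?_ ?_
  · show π A * π B = π B * π A
    rw [← map_mul, ← map_mul, hBA, map_mul π Z, hπZ, one_mul]
  · rw [← map_pow, hA3, map_one]
  · rw [← map_pow, hB3, map_one]
  · intro h1
    have h2 := hcen 1 A B (by rw [h1, map_one])
    apply hne
    simpa using h2.symm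
  · intro h1
    obtain ⟨k, hk⟩ := Subgroup.mem_zpowers_iff.1 h1
    have h2 := hcen (A ^ k) B A (by rw [map_zpow]; exact hk)
    apply hne
    have h3 : A * (A ^ k)⁻¹ = (A ^ k)⁻¹ * A := by group
    have h4 : (A ^ k)⁻¹ * (A * B) = (A ^ k)⁻¹ * (B * A) := by
      rw [← mul_assoc, ← h3, mul_assoc, h2, mul_assoc]
    exact mul_left_cancel h4

end Cfsg.Agent.H514.Eppo
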