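import Cfsg.Agent.H514.OrdFusion
import Cfsg.Agent.H514.OrdAct
import Cfsg.Agent.S2476
import Cfsg.Agent.S0071
import Cfsg.Agent.S0243
import Cfsg.Agent.S4087
import Cfsg.Agent.OddCyclic.T1Socle

/-!
# `PSL(3, 4)`: numbers of prime and composite element orders
-/

set_option autoImplicit false
set_option linter.style.haveILetI false

namespace Cfsg.Agent.H514.OC.L34

open Subgroup Cfsg.Agent.H493.PG
open scoped Pointwise

universe u v

section

variable {F : Type} [Field F] [Fintype F] (hF : Fintype.card F = 4)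

include hF in
theorem mem_range_iff {K : Type*} [Group K] (e : K ≃* Matrix.ProjectiveSpecialLinearGroup (Fin 3) F) {m : ℕ} :
    m ∈ Set.range (fun g : K => orderOf g) ↔ m = 1 ∨ m = 2 ∨ m = 3 ∨ m = 4 ∨ m = 5 ∨ m = 7 := by
  haveI : Fact (Nat.Prime 2) := ⟨Nat.prime_two⟩
  haveI : CharP F 2 := by
    obtain ⟨p, hp⟩ := CharP.exists F
    obtain ⟨n, hpp, hn⟩ := FiniteField.card F p
    have h1 : p ∣ 2 ^ 2 := by
      rw [show 2 ^ 2 = 4 by norm_num, ← hF, hn]
      exact dvd_pow_self p n.ne_zero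
    have h2 := (Nat.prime_dvd_prime_iff_eq hpp Nat.prime_two).1 (hpp.dvd_of_dvd_pow h1)
    rwa [h2] at hp
  have h1 := Cfsg.Agent.S2476.result (F := F) 2
  have h2 : m ∈ Set.range (fun g : K => orderOf g) ↔
      m ∈ Set.range (orderOf : Matrix.ProjectiveSpecialLinearGroup (Fin 3) F → ℕ) := by
    constructor
    · rintro ⟨g, rfl⟩
      exact ⟨e g, MulEquiv.orderOf_eq e g⟩
    · rintro ⟨g, rfl⟩
      exact ⟨e.symm g, MulEquiv.orderOf_eq e.symm g⟩
  rw [h2, h1, Set.mem_ofPred_eq, hF]
  norm_num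
  constructor
  · rintro (h | h | h | h | h)
    · have := Nat.le_of_dvd (by norm_num) h
      interval_cases m <;> revert h <;> decide
    · have := Nat.le_of_dvd (by norm_num) h
      interval_cases m <;> revert h <;> decide
    · have := Nat.le_of_dvd (by norm_num) h
      interval_cases m <;> revert h <;> decide
    · have := Nat.le_of_dvd (by norm_num) h
      interval_cases m <;> revert h <;> decide
    · have := Nat.le_of_dvd (by norm_num) h
      interval_cases m <;> revert h <;> decide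
  · rintro (rfl | rfl | rfl | rfl | rfl | rfl) <;> decide

include hF in
theorem card_eq {K : Type*} [Group K] (e : K ≃* Matrix.ProjectiveSpecialLinearGroup (Fin 3) F) :
    Nat.card K = 20160 := by
  rw [Nat.card_congr e.toEquiv]
  have h := S0243.result hF 3 (by norm_num)
  rw [Fin.prod_univ_three] at h
  norm_num at h
  omega

/-- the primes -/
def pr : Fin 4 → ℕ := ![2, 3, 5, 7]

theorem pr_prime (i : Fin 4) : (pr i).Prime := by
  fin_cases i
  · exact Nat.prime_two
  · exact Nat.prime_three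
  · exact Nat.prime_five
  · exact Nat.prime_seven

theorem pr_dvd (i : Fin 4) : pr i ∣ 20160 := by
  fin_cases i
  · exact ⟨10080, rfl⟩
  · exact ⟨6720, rfl⟩
  · exact ⟨4032, rfl⟩
  · exact ⟨2880, rfl⟩

theorem pr_of_dvd {r : ℕ} (hr : r.Prime) (hd : r ∣ 20160) : ∃ i, r = pr i := by
  have h1 : r ∣ 2 ^ 6 * 3 ^ 2 * (5 * 7) := by norm_num; exact hd
  rcases hr.dvd_mul.1 h1 with h | h
  · rcases hr.dvd_mul.1 h with h | h
    · exact ⟨0, (Nat.prime_dvd_prime_iff_eq hr Nat.prime_two).1 (hr.dvd_of_dvd_pow h)⟩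
    · exact ⟨1, (Nat.prime_dvd_prime_iff_eq hr Nat.prime_three).1 (hr.dvd_of_dvd_pow h)⟩
  · rcases hr.dvd_mul.1 h with h | h
    · exact ⟨2, (Nat.prime_dvd_prime_iff_eq hr Nat.prime_five).1 h⟩
    · exact ⟨3, (Nat.prime_dvd_prime_iff_eq hr Nat.prime_seven).1 h⟩

theorem pr_injective : Function.Injective pr := by
  intro i j h
  fin_cases i <;> fin_cases j <;> first | rfl | (exfalso; revert h; decide)

/-- Frattini argument for a Sylow subgroup of prime order. -/
theorem rel_of_sylow {G : Type*} [Group G] [Finite G] (S : Subgroup G) [hS : S.Normal] {r : ℕ} [hr : Fact r.Prime]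
    (P : Sylow r S) (hP : Nat.card P = r) {l : ℕ} (hl : l.Prime) (hld : l ∣ S.index) (hlr : l ≠ r)
    (hl1 : ¬ l ∣ r - 1) : Rel G l r := by
  classical
  haveI := Fact.mk hl
  let Q : Subgroup G := (P : Subgroup S).map S.subtype
  have hfr : normalizer (Q : Set G) ⊔ S = ⊤ := Sylow.normalizer_sup_eq_top P
  have hQc : Nat.card Q = r := by
    rw [← hP]
    exact Subgroup.card_map_of_injective S.subtype_injective
  -- `l` divides `|N(Q)|`
  have h1 : l ∣ Nat.card (normalizer (Q : Set G)) := by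
    let f : normalizer (Q : Set G) →* G ⧸ S := (QuotientGroup.mk' S).comp (normalizer (Q : Set G)).subtype
    have hf : Function.Surjective f := by
      intro y
      obtain ⟨g, rfl⟩ := QuotientGroup.mk_surjective y
      have hg : g ∈ normalizer (Q : Set G) ⊔ S := by rw [hfr]; trivial
      obtain ⟨n, hn, t, ht, rfl⟩ := Subgroup.mem_sup_of_normal_right.1 hg
      refine ⟨⟨n, hn⟩, ?_⟩
      show ((n : G) : G ⧸ S) = ((n * t : G) : G ⧸ S)
      rw [QuotientGroup.mk_mul, (QuotientGroup.eq_one_iff t).2 ht, mul_one]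
    have h2 := Subgroup.card_dvd_of_surjective f hf
    rw [Subgroup.index_eq_card] at hld
    exact hld.trans h2
  obtain ⟨x, hx⟩ := exists_prime_orderOf_dvd_card' (G := normalizer (Q : Set G)) l h1
  -- a generator of `Q`
  have hrQ : r ∣ Nat.card Q := by rw [hQc]
  obtain ⟨z, hz⟩ := exists_prime_orderOf_dvd_card' (G := Q) r hrQ
  haveI : IsCyclic Q := isCyclic_of_prime_card hQc
  have h3 : Q.normalizerMonoidHom x = 1 := by
    have h4 : orderOf (Q.normalizerMonoidHom x) ∣ l := by
      apply orderOf_dvd_of_pow_eq_one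
      rw [← map_pow, ← hx, pow_orderOf_eq_one, map_one]
    have h5 : orderOf (Q.normalizerMonoidHom x) ∣ r - 1 := by
      have h6 := orderOf_dvd_natCard (Q.normalizerMonoidHom x)
      rw [IsCyclic.card_mulAut, hQc, Nat.totient_prime hr.out] at h6
      exact h6
    rcases (Nat.dvd_prime hl).1 h4 with h | h
    · exact orderOf_eq_one_iff.1 h
    · exact absurd (h ▸ h5) hl1
  have h4 : x ∈ Q.normalizerMonoidHom.ker := h3
  rw [Subgroup.normalizerMonoidHom_ker, mem_subgroupOf, mem_centralizer_iff] at h4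
  have h5 : Commute (x : G) (z : G) := (h4 z z.2).symm
  exact Rel.of_commute hl hr.out hlr h5 (by rw [Subgroup.orderOf_coe, hx]) (by rw [Subgroup.orderOf_coe, hz])

/-- an element order of `K` as an order statement -/
theorem orderOf_cases {K : Type*} [Group K] (hF : Fintype.card F = 4)
    (e : K ≃* Matrix.ProjectiveSpecialLinearGroup (Fin 3) F) (x : K) :
    orderOf x = 1 ∨ orderOf x = 2 ∨ orderOf x = 3 ∨ orderOf x = 4 ∨ orderOf x = 5 ∨ orderOf x = 7 :=
  (mem_range_iff hF e).1 ⟨x, rfl⟩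

theorem ot_four {K : Type*} [Group K] (hF : Fintype.card F = 4)
    (e : K ≃* Matrix.ProjectiveSpecialLinearGroup (Fin 3) F) : 4 ∈ OtS K := by
  refine ⟨⟨(mem_range_iff hF e).2 (Or.inr (Or.inr (Or.inr (Or.inl rfl)))), by norm_num, by norm_num⟩, ?_⟩
  rintro ⟨a, b, ha, hb, hab, h⟩
  have h1 : a ∣ 2 ^ 2 := ⟨b, by rw [← h]; norm_num⟩
  have h2 : b ∣ 2 ^ 2 := ⟨a, by rw [mul_comm, ← h]; norm_num⟩
  have h3 := (Nat.prime_dvd_prime_iff_eq ha Nat.prime_two).1 (ha.dvd_of_dvd_pow h1)
  have h4 := (Nat.prime_dvd_prime_iff_eq hb Nat.prime_two).1 (hb.dvd_of_dvd_pow h2)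
  exact hab (h3.trans h4.symm)

theorem cover (hF : Fintype.card F = 4) {K : Type*} [Group K] (e : K ≃* Matrix.ProjectiveSpecialLinearGroup (Fin 3) F)
    (r : ℕ) (hr : r.Prime) (hd : r ∣ Nat.card K) : ∃ i, r = pr i :=
  pr_of_dvd hr (by rwa [card_eq hF e] at hd)

theorem few_five (hF : Fintype.card F = 4) {K : Type*} [Group K]
    (e : K ≃* Matrix.ProjectiveSpecialLinearGroup (Fin 3) F) : Few 5 K :=
  few_of_cliques 4 (fun i r => r = pr i) (fun r hr hd => cover hF e r hr hd)
    (fun i r s _ _ _ _ h1 h2 => by rw [h1, h2]; exact Conn.refl _)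

/-- A group whose order has the four prime divisors and whose elements have prime power order is of order 20160, given
that it has no normal 2-subgroup with quotient a Suzuki group. -/
theorem eppo {G : Type*} [Group G] [Finite G] (h : ∀ g : G, g ≠ 1 → IsPrimePow (orderOf g))
    (h3 : 3 ∣ Nat.card G) (h4 : (Nat.card G).primeFactors.card = 4) : Nat.card G = 20160 := by
  rcases (Cfsg.Agent.S4087.result h).2 h4 with ⟨F', i1, i2, hF', ⟨e⟩⟩ | ⟨N, hN, hN2, F', i1, i2, h5⟩
  · exact card_eq hF' e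
  · exfalso
    have h6 : 3 ∣ Nat.card (G ⧸ N) := by
      have h7 := N.card_eq_card_quotient_mul_card_subgroup
      rw [h7] at h3
      rcases Nat.prime_three.dvd_mul.1 h3 with h | h
      · exact h
      · haveI : Fact (Nat.Prime 2) := ⟨Nat.prime_two⟩
        obtain ⟨n, hn⟩ := IsPGroup.iff_card.1 hN2
        rw [hn] at h
        have := Nat.prime_three.dvd_of_dvd_pow h
        norm_num at this
    have h7 : Cfsg.Lie.IsoSuzuki (G ⧸ N) := by
      rcases h5 with ⟨h8, ⟨e⟩⟩ | ⟨h8, ⟨e⟩⟩
      · exact ⟨F', i1, i2, 1, le_rfl, by rw [h8]; norm_num, ⟨e⟩⟩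
      · exact ⟨F', i1, i2, 2, by norm_num, by rw [h8]; norm_num, ⟨e⟩⟩
    exact OddCyclic.T1Socle.not_three_dvd h7 h6

theorem primeFactors_card {n : ℕ} (hn : n ≠ 0) (h : ∀ r : ℕ, r.Prime → (r ∣ n ↔ ∃ i, r = pr i)) :
    n.primeFactors.card = 4 := by
  have h1 : n.primeFactors = Finset.univ.image pr := by
    ext r
    rw [Nat.mem_primeFactors, Finset.mem_image]
    constructor
    · rintro ⟨hr, hd, -⟩
      obtain ⟨i, hi⟩ := (h r hr).1 hd
      exact ⟨i, Finset.mem_univ i, hi.symm⟩
    · rintro ⟨i, -, rfl⟩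
      exact ⟨pr_prime i, (h _ (pr_prime i)).2 ⟨i, rfl⟩, hn⟩
  rw [h1, Finset.card_image_of_injective _ pr_injective]
  rfl

/-- a number which is not a prime power has two prime divisors -/
theorem exists_two_primes {n : ℕ} (h1 : n ≠ 1) (h : ¬ IsPrimePow n) :
    ∃ a b : ℕ, a.Prime ∧ b.Prime ∧ a ≠ b ∧ a ∣ n ∧ b ∣ n := by
  by_contra hcon
  push Not at hcon
  apply h
  have hp := Nat.minFac_prime h1
  refine (isPrimePow_iff_unique_prime_dvd).2 ⟨n.minFac, ⟨hp, Nat.minFac_dvd n⟩, ?_⟩
  rintro b ⟨hb, hbn⟩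
  by_contra hne
  exact hcon _ _ hp hb (Ne.symm hne) (Nat.minFac_dvd n) hbn

/-- **Modules for `PSL(3, 4)`.** -/
theorem modOK (hF : Fintype.card F = 4) {K : Type v} [Group K] [Finite K] [IsSimpleGroup K]
    (e : K ≃* Matrix.ProjectiveSpecialLinearGroup (Fin 3) F) : ModOK.{u, v} K := by
  classical
  haveI : Fact (Nat.Prime 2) := ⟨Nat.prime_two⟩
  refine ⟨?_, ?_⟩
  · obtain ⟨T⟩ : Nonempty (Sylow 2 K) := inferInstance
    -- no normal complement
    have hnc : ¬ ∃ N : Subgroup K, N.Normal ∧ N.IsComplement' (T : Subgroup K) := by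
      rintro ⟨N, hN, hNT⟩
      rcases hN.eq_bot_or_eq_top with h | h
      · subst h
        have hT : (T : Subgroup K) = ⊤ := Subgroup.isComplement'_bot_left.1 hNT
        have h1 : IsPGroup 2 K := by
          have := T.2
          rw [hT] at this
          exact this.of_surjective (Subgroup.topEquiv : (⊤ : Subgroup K) ≃* K).toMonoidHom
            (Subgroup.topEquiv : (⊤ : Subgroup K) ≃* K).surjective
        obtain ⟨x, hx⟩ := (mem_range_iff hF e).2 (Or.inr (Or.inr (Or.inl rfl)))
        obtain ⟨k, hk⟩ := IsPGroup.iff_orderOf.1 h1 x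
        have hx' : orderOf x = 3 := hx
        rw [hx'] at hk
        have h3 : (3 : ℕ) ∣ 2 ^ k := by rw [← hk]
        have := Nat.prime_three.dvd_of_dvd_pow h3
        norm_num at this
      · subst h
        have hT : (T : Subgroup K) = ⊥ := Subgroup.isComplement'_top_left.1 hNT
        have h2 : 2 ∣ Nat.card K := by rw [card_eq hF e]; norm_num
        have h3 := T.dvd_card_of_dvd_card h2
        rw [hT, Subgroup.card_bot] at h3
        norm_num at h3
    rw [Cfsg.Agent.S0071.result T] at hnc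
    push Not at hnc
    obtain ⟨Q, hQT, g, hg, hgo, hgC⟩ := hnc
    obtain ⟨k, hk1, hk2⟩ := exists_primePow_not_mem (centralizer (Q : Set K)) _ g rfl hgC
    set y := g ^ k with hy
    have hyN : y ∈ normalizer (Q : Set K) := Subgroup.pow_mem _ hg k
    have hyo : Nat.Coprime (orderOf y) 2 := hgo.coprime_dvd_left (orderOf_pow_dvd k)
    have hyp : orderOf y = 3 ∨ orderOf y = 5 ∨ orderOf y = 7 := by
      rcases orderOf_cases hF e y with h | h | h | h | h | h
      · rw [h] at hk2; exact absurd hk2 not_isPrimePow_one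
      · rw [h] at hyo; norm_num at hyo
      · exact Or.inl h
      · rw [h] at hyo; norm_num at hyo
      · exact Or.inr (Or.inl h)
      · exact Or.inr (Or.inr h)
    have hyprime : (orderOf y).Prime ∧ orderOf y ≠ 2 := by
      rcases hyp with h | h | h <;> rw [h] <;> norm_num
    have hno2 : ∀ (r : ℕ), r.Prime → r ≠ 2 → ∀ x : K, orderOf x ≠ 2 * r := by
      intro r hr hr2 x hx
      have := hr.two_le
      rcases orderOf_cases hF e x with h | h | h | h | h | h <;> rw [h] at hx <;> omega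
    refine ⟨Q, y, orderOf y, T.2.to_le hQT, ?_, hyprime.1, hyprime.2, rfl, fun q hq => (mem_normalizer_iff.1 hyN q).1 hq,
      fun q hq hyq => ?_, ?_⟩
    · rintro rfl
      exact hk1 (mem_centralizer_iff.2 fun h hh => by
        have : h = 1 := hh
        rw [this]; simp)
    · by_contra hq1
      have hcomm : Commute q y := by
        show q * y = y * q
        rw [mul_inv_eq_iff_eq_mul] at hyq
        exact hyq.symm
      obtain ⟨j, hj⟩ := IsPGroup.iff_orderOf.1 (T.2.to_le hQT) ⟨q, hq⟩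
      rw [Subgroup.orderOf_mk] at hj
      have hj0 : j ≠ 0 := by
        rintro rfl
        rw [pow_zero, orderOf_eq_one_iff] at hj
        exact hq1 hj
      obtain ⟨-, -, -, x, hx⟩ := Rel.of_commute Nat.prime_two hyprime.1 (Ne.symm hyprime.2) hcomm
        (by rw [hj]; exact dvd_pow_self 2 hj0) dvd_rfl
      exact hno2 _ hyprime.1 hyprime.2 x hx
    · rintro r hr hr2 - ⟨x, hx⟩ - -
      exact hno2 r hr hr2 x hx
  · rintro G _ _ V _ hV hVc hVr hCV ⟨f⟩ hcos
    have hall : ∀ g : G, g ≠ 1 → IsPrimePow (orderOf g) := by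
      intro g hg
      by_contra hcon
      have h1 : orderOf g ≠ 1 := fun h => hg (orderOf_eq_one_iff.1 h)
      have h2 : orderOf g ∈ CoS G := by
        refine ⟨⟨g, rfl⟩, ?_, fun h => hcon h.isPrimePow⟩
        have := orderOf_pos g
        omega
      obtain ⟨⟨x, hx⟩, -⟩ := hcos h2
      have hx' : orderOf x = orderOf g := hx
      rw [← hx'] at hcon h1
      rcases orderOf_cases hF e x with h | h | h | h | h | h <;> rw [h] at hcon h1
      · exact h1 rfl
      · exact hcon Nat.prime_two.isPrimePow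
      · exact hcon Nat.prime_three.isPrimePow
      · exact hcon (by
          rw [show (4 : ℕ) = 2 ^ 2 by norm_num]
          exact Nat.prime_two.isPrimePow.pow two_ne_zero)
      · exact hcon Nat.prime_five.isPrimePow
      · exact hcon Nat.prime_seven.isPrimePow
    have hcard := V.card_eq_card_quotient_mul_card_subgroup
    rw [Nat.card_congr f.toEquiv, card_eq hF e] at hcard
    have hVp : IsPGroup 2 V := fun v => ⟨1, by
      rw [pow_one]; exact Subtype.ext (hVr v v.2)⟩
    obtain ⟨n, hn⟩ := IsPGroup.iff_card.1 hVp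
    rw [hn] at hcard
    have h3 : 3 ∣ Nat.card G := by rw [hcard]; exact (by norm_num : (3 : ℕ) ∣ 20160).mul_right _
    have h4 : (Nat.card G).primeFactors.card = 4 := by
      refine primeFactors_card Nat.card_pos.ne' fun r hr => ⟨fun hd => ?_, ?_⟩
      · rw [hcard] at hd
        rcases hr.dvd_mul.1 hd with h | h
        · exact pr_of_dvd hr h
        · exact ⟨0, (Nat.prime_dvd_prime_iff_eq hr Nat.prime_two).1 (hr.dvd_of_dvd_pow h)⟩
      · rintro ⟨i, rfl⟩
        rw [hcard]
        exact (pr_dvd i).mul_right _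
    have h5 := eppo hall h3 h4
    rw [h5] at hcard
    have h6 : 2 ^ n = 1 := by omega
    rw [h6, Subgroup.card_eq_one] at hn
    exact hV hn

/-- **Almost simple groups with socle `PSL(3, 4)`.** -/
theorem almost_false
    (hinv : ∀ (K : Type u) [Group K] [Finite K] [IsSimpleGroup K], ¬ IsMulCommutative K →
      ∀ r : ℕ, r.Prime → r ≠ 2 → ¬ r ∣ Nat.card K → ∀ x : MulAut K, x ^ r = 1 → ∃ g : K, orderOf g = 2 ∧ x g = g)
    (hF : Fintype.card F = 4) {G : Type u} [Group G] [Finite G]
    (S : Subgroup G) [hSn : S.Normal] (hSs : IsSimpleGroup S) (hSna : ¬ IsMulCommutative S)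
    (htop : S ≠ ⊤) (e : S ≃* Matrix.ProjectiveSpecialLinearGroup (Fin 3) F) (hfew : ¬ Few 4 G) : False := by
  classical
  have hcS := card_eq hF e
  have h2d : 2 ∣ Nat.card S := by rw [hcS]; norm_num
  have merge : ∀ {i j : Fin 4}, i ≠ j → Conn G (pr i) (pr j) → False := by
    intro i j hij hc
    refine false_of_merge hinv 4 (by norm_num) G S hSs hSna (even_iff_two_dvd.2 h2d) hfew (fun i r => r = pr i)
      (fun r hr hd => cover hF e r hr hd) (fun i r s _ _ _ _ h1 h2 => by rw [h1, h2]; exact Conn.refl _) hij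
      (pr_prime i) (pr_prime j) ?_ ?_ rfl rfl hc
    · rw [hcS]; exact pr_dvd i
    · rw [hcS]; exact pr_dvd j
  have hidx : S.index ≠ 1 := fun h => htop (Subgroup.index_eq_one.1 h)
  haveI : Fact (Nat.Prime 5) := ⟨Nat.prime_five⟩
  haveI : Fact (Nat.Prime 7) := ⟨Nat.prime_seven⟩
  obtain ⟨P5⟩ : Nonempty (Sylow 5 S) := inferInstance
  obtain ⟨P7⟩ : Nonempty (Sylow 7 S) := inferInstance
  have hP5 : Nat.card P5 = 5 := by
    rw [P5.card_eq_multiplicity, hcS, show (20160 : ℕ) = 5 ^ 1 * 4032 by norm_num,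
      Nat.factorization_mul (by norm_num) (by norm_num), Nat.Prime.factorization_pow Nat.prime_five]
    rw [Finsupp.add_apply, Finsupp.single_eq_same, Nat.factorization_eq_zero_of_not_dvd (by norm_num : ¬ 5 ∣ 4032)]
    norm_num
  have hP7 : Nat.card P7 = 7 := by
    rw [P7.card_eq_multiplicity, hcS, show (20160 : ℕ) = 7 ^ 1 * 2880 by norm_num,
      Nat.factorization_mul (by norm_num) (by norm_num), Nat.Prime.factorization_pow Nat.prime_seven]
    rw [Finsupp.add_apply, Finsupp.single_eq_same, Nat.factorization_eq_zero_of_not_dvd (by norm_num : ¬ 7 ∣ 2880)]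
    norm_num
  -- the primes of the index are 2 and 3
  have hl : ∀ l : ℕ, l.Prime → l ∣ S.index → l = 2 ∨ l = 3 := by
    intro l hl hld
    by_contra hcon
    push Not at hcon
    obtain ⟨hl2, hl3⟩ := hcon
    have h5 : l ≠ 5 → Rel G l 5 := fun h => rel_of_sylow S P5 hP5 hl hld h (by
      intro h1
      have h2 : l ∣ 2 ^ 2 := by norm_num at h1 ⊢; exact h1
      exact hl2 ((Nat.prime_dvd_prime_iff_eq hl Nat.prime_two).1 (hl.dvd_of_dvd_pow h2)))
    have h7 : l ≠ 7 → Rel G l 7 := fun h => rel_of_sylow S P7 hP7 hl hld h (by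
      intro h1
      have h2 : l ∣ 2 * 3 := by norm_num at h1 ⊢; exact h1
      rcases hl.dvd_mul.1 h2 with h | h
      · exact hl2 ((Nat.prime_dvd_prime_iff_eq hl Nat.prime_two).1 h)
      · exact hl3 ((Nat.prime_dvd_prime_iff_eq hl Nat.prime_three).1 h))
    have hc : Conn G 5 7 := by
      by_cases h : l = 5
      · subst h; exact (h7 (by norm_num)).conn
      · by_cases h' : l = 7
        · subst h'; exact (h5 h).symm.conn
        · exact (h5 h).symm.conn.trans (h7 h').conn
    exact merge (i := 2) (j := 3) (by decide) hc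
  have hcG : Nat.card G = S.index * 20160 := by
    rw [← hcS, Subgroup.index_mul_card]
  have hpi : ∀ r : ℕ, r.Prime → (r ∣ Nat.card G ↔ ∃ i, r = pr i) := by
    intro r hr
    constructor
    · intro hd
      rw [hcG] at hd
      rcases hr.dvd_mul.1 hd with h | h
      · rcases hl r hr h with h | h
        · exact ⟨0, h⟩
        · exact ⟨1, h⟩
      · exact pr_of_dvd hr h
    · rintro ⟨i, rfl⟩
      rw [hcG]
      exact (pr_dvd i).mul_left _
  have hall : ∀ g : G, g ≠ 1 → IsPrimePow (orderOf g) := by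
    intro g hg
    by_contra hcon
    obtain ⟨a, b, ha, hb, hab, had, hbd⟩ := exists_two_primes
      (fun h => hg (orderOf_eq_one_iff.1 h)) hcon
    obtain ⟨i, rfl⟩ := (hpi a ha).1 (had.trans (orderOf_dvd_natCard g))
    obtain ⟨j, rfl⟩ := (hpi b hb).1 (hbd.trans (orderOf_dvd_natCard g))
    exact merge (fun h => hab (by rw [h])) (Rel.of_commute ha hb hab (Commute.refl g) had hbd).conn
  have h3 : 3 ∣ Nat.card G := (hpi 3 Nat.prime_three).2 ⟨1, rfl⟩
  have h5 := eppo hall h3 (primeFactors_card Nat.card_pos.ne' hpi)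
  rw [h5] at hcG
  exact hidx (by omega)

end

end Cfsg.Agent.H514.OC.L34
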