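import Cfsg.Agent.S1475
import Cfsg.Agent.Lib.Cores
import Cfsg.Agent.Lib.SolvableMinNormal
import Cfsg.Agent.S0033

/-!
# Groups all of whose non-identity elements have prime-power order: basic lemmas

`EP G` abbreviates the hypothesis.  Normal subgroups, minimal normal subgroups and primes of such a
group, up to "a nonsolvable `G` with `O_2(G) = 1` has a simple normal subgroup `S` with
trivial centralizer and the same primes".  The odd order theorem enters as the hypothesis `hodd`.
-/

set_option autoImplicit false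
set_option linter.style.haveILetI false
open Cfsg

namespace Cfsg.Agent.H514.Eppo

open Subgroup

/-- Every non-identity element has prime-power order. -/
abbrev EP (G : Type*) [Group G] : Prop := ∀ g : G, g ≠ 1 → IsPrimePow (orderOf g)

variable {G : Type*} [Group G]

theorem EP.or (h : EP G) : ∀ g : G, IsPrimePow (orderOf g) ∨ g = 1 := fun g => by
  by_cases h1 : g = 1
  · exact Or.inr h1
  · exact Or.inl (h g h1)

theorem EP.of_injective {H : Type*} [Group H] (f : H →* G) (hf : Function.Injective f) (h : EP G) :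
    EP H := by
  intro g hg
  rw [← orderOf_injective f hf g]
  exact h _ (fun h1 => hg (hf (by rw [h1, map_one])))

theorem EP.subgroup (h : EP G) (H : Subgroup G) : EP H := h.of_injective H.subtype H.subtype_injective

theorem EP.of_surjective {H : Type*} [Group H] (f : G →* H) (hf : Function.Surjective f) (h : EP G) :
    EP H := by
  intro g hg
  obtain ⟨x, rfl⟩ := hf g
  have hx : x ≠ 1 := fun h1 => hg (by rw [h1, map_one])
  exact (h x hx).dvd (orderOf_map_dvd f x) (by rwa [Ne, orderOf_eq_one_iff])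

theorem EP.quotient (h : EP G) (N : Subgroup G) [N.Normal] : EP (G ⧸ N) :=
  h.of_surjective (QuotientGroup.mk' N) (QuotientGroup.mk'_surjective N)

theorem EP.prime_eq (h : EP G) {x y : G} (hc : Commute x y) {p q : ℕ} (hp : p.Prime) (hq : q.Prime)
    (hx : orderOf x = p) (hy : orderOf y = q) : p = q := by
  by_contra hne
  refine Cfsg.Agent.S1475.not_commute h.or (a := x) (b := y) ?_ ?_ ?_ hc
  · rintro rfl; rw [orderOf_one] at hx; exact hp.one_lt.ne hx
  · rintro rfl; rw [orderOf_one] at hy; exact hq.one_lt.ne hy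
  · rw [hx, hy]; exact (Nat.coprime_primes hp hq).2 hne

theorem isPGroup_of_forall [Finite G] {p : ℕ} 
    (h : ∀ (q : ℕ), q.Prime → ∀ g : G, orderOf g = q → q = p) : IsPGroup p G := by
  by_cases h1 : Nat.card G = 1
  · exact IsPGroup.of_card (n := 0) (by simpa using h1)
  · have h2 : ∀ {d : ℕ}, d.Prime → d ∣ Nat.card G → d = p := by
      intro d hd hdv
      haveI := Fact.mk hd
      obtain ⟨g, hg⟩ := exists_prime_orderOf_dvd_card' d hdv
      exact h d hd g hg
    exact IsPGroup.of_card (Nat.eq_prime_pow_of_unique_prime_dvd Nat.card_pos.ne' h2)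

/-- An element of order `p` has a `p`-group as centralizer. -/
theorem EP.centralizer [Finite G] (h : EP G) {x : G} {p : ℕ} (hp : p.Prime) (hx : orderOf x = p) :
    IsPGroup p (Subgroup.centralizer ({x} : Set G)) := by
  refine isPGroup_of_forall (fun q hq g hg => ?_)
  refine (h.prime_eq (x := x) (y := (g : G)) ?_ hp hq hx ?_).symm
  · exact (Subgroup.mem_centralizer_singleton_iff.1 g.2).symm
  · rw [Subgroup.orderOf_coe]; exact hg

/-- A power of prime order. -/
theorem exists_prime_mem [Finite G] {H : Subgroup G} (hH : H ≠ ⊥) :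
    ∃ p : ℕ, p.Prime ∧ ∃ x ∈ H, orderOf x = p := by
  have h1 : Nat.card H ≠ 1 := fun h => hH (Subgroup.card_eq_one.1 h)
  haveI := Fact.mk (Nat.minFac_prime h1)
  obtain ⟨g, hg⟩ := exists_prime_orderOf_dvd_card' (G := H) _ (Nat.minFac_dvd (Nat.card H))
  exact ⟨_, Nat.minFac_prime h1, g, g.2, by rw [Subgroup.orderOf_coe]; exact hg⟩

/-- The centralizer of a nontrivial subgroup `H` containing an element of order `p`. -/
theorem EP.centralizer_of_mem [Finite G] (h : EP G) {x : G} {p : ℕ} (hp : p.Prime) (hx : orderOf x = p)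
    {H : Subgroup G} (hxH : x ∈ H) : IsPGroup p (Subgroup.centralizer (H : Set G)) :=
  (h.centralizer hp hx).to_le (Subgroup.centralizer_le (by simpa using hxH))

theorem EP.isPGroup_of_center [Finite G] (h : EP G) {x : G} {p : ℕ} (hp : p.Prime) (hx : orderOf x = p)
    (hxZ : x ∈ Subgroup.center G) : IsPGroup p G := by
  refine isPGroup_of_forall (fun q hq g hg => ?_)
  exact (h.prime_eq (x := x) (y := g) (Subgroup.mem_center_iff.1 hxZ g).symm hp hq hx hg).symm

theorem solvable_of_isPGroup [Finite G] {p : ℕ} (hp : p.Prime) (h : IsPGroup p G) :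
    Group.IsSolvable G := by
  haveI := Fact.mk hp
  haveI := h.isNilpotent
  infer_instance

/-- A normal abelian subgroup of a nonsolvable `EP` group is a `2`-group. -/
theorem EP.normal_abelian [Finite G] (hodd : Odd (Nat.card G) → Group.IsSolvable G)
    (h : EP G) (hns : ¬ Group.IsSolvable G) (A : Subgroup G) [hA : A.Normal]
    (hab : IsMulCommutative A) : IsPGroup 2 A := by
  classical
  by_cases hAb : A = ⊥
  · subst hAb; exact IsPGroup.of_bot
  obtain ⟨p, hp, a, haA, ha⟩ := exists_prime_mem hAb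
  have hAp : IsPGroup p A := by
    refine isPGroup_of_forall (fun q hq g hg => ?_)
    refine (h.prime_eq (x := a) (y := (g : G)) ?_ hp hq ha ?_).symm
    · have := (mul_comm' (⟨a, haA⟩ : A) g)
      exact congrArg Subtype.val this
    · rw [Subgroup.orderOf_coe]; exact hg
  by_cases hp2 : p = 2
  · rw [← hp2]; exact hAp
  exfalso
  apply hns
  have heven : 2 ∣ Nat.card G := by
    by_contra hcon
    exact hns (hodd (Nat.not_even_iff_odd.1 (fun h => hcon h.two_dvd)))
  haveI : Fact (Nat.Prime 2) := ⟨Nat.prime_two⟩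
  obtain ⟨t, ht⟩ := exists_prime_orderOf_dvd_card' (G := G) 2 heven
  have hC : IsPGroup p (Subgroup.centralizer (A : Set G)) := h.centralizer_of_mem hp ha haA
  have hCs : Group.IsSolvable (Subgroup.centralizer (A : Set G)) := solvable_of_isPGroup hp hC
  -- every involution inverts `A`
  have hinv : ∀ s : G, orderOf s = 2 → ∀ b ∈ A, s * b * s⁻¹ = b⁻¹ := by
    intro s hs b hb
    have hs2 : s * s = 1 := by rw [← pow_two, ← hs]; exact pow_orderOf_eq_one s
    have hsi : s⁻¹ = s := inv_eq_of_mul_eq_one_left hs2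
    have hsb : s * b * s⁻¹ ∈ A := hA.conj_mem b hb s
    have hcomm : b * (s * b * s⁻¹) = (s * b * s⁻¹) * b :=
      congrArg Subtype.val (mul_comm' (⟨b, hb⟩ : A) ⟨_, hsb⟩)
    set c := b * (s * b * s⁻¹) with hc
    have hcA : c ∈ A := mul_mem hb hsb
    have hcs : Commute c s := by
      have h1 : s * c * s⁻¹ = c := by
        calc s * c * s⁻¹ = (s * b * s⁻¹) * (s * s * b * (s * s)⁻¹) := by rw [hc]; group
          _ = (s * b * s⁻¹) * b := by rw [hs2]; simp
          _ = c := hcomm.symm
      show c * s = s * c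
      calc c * s = (s * c * s⁻¹) * s := by rw [h1]
        _ = s * c := by group
    have hc1 : c = 1 := by
      by_contra hc1
      obtain ⟨q, hq, y, hy, hyq⟩ := exists_prime_mem (G := G) (H := Subgroup.zpowers c) (by simpa using hc1)
      have hys : Commute y s := by
        obtain ⟨k, rfl⟩ := Subgroup.mem_zpowers_iff.1 hy
        exact hcs.zpow_left k
      have h2 := h.prime_eq hys hq Nat.prime_two hyq hs
      have hyA : y ∈ A := (Subgroup.zpowers_le.2 hcA) hy
      have h3 : q ∣ Nat.card A := by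
        rw [← hyq, ← Subgroup.orderOf_mk y hyA]; exact orderOf_dvd_natCard _
      haveI := Fact.mk hp
      obtain ⟨n, hn⟩ := IsPGroup.iff_card.1 hAp
      rw [hn] at h3
      exact hp2 (((Nat.prime_dvd_prime_iff_eq hq hp).1 (hq.dvd_of_dvd_pow h3)).symm.trans h2)
    rw [hc] at hc1
    exact (inv_eq_of_mul_eq_one_right hc1).symm
  -- `t` is central modulo the centralizer
  set C := Subgroup.centralizer (A : Set G) with hCdef
  haveI hCn : C.Normal := by rw [hCdef]; infer_instance
  have htC : t ∉ C := by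
    intro htc
    haveI := Fact.mk hp
    have h3 : 2 ∣ Nat.card C := by
      rw [← ht, ← Subgroup.orderOf_mk t htc]; exact orderOf_dvd_natCard _
    obtain ⟨n, hn⟩ := IsPGroup.iff_card.1 hC
    rw [hn] at h3
    exact hp2 ((Nat.prime_dvd_prime_iff_eq Nat.prime_two hp).1 (Nat.prime_two.dvd_of_dvd_pow h3)).symm
  have hcen : (t : G ⧸ C) ∈ Subgroup.center (G ⧸ C) := by
    rw [Subgroup.mem_center_iff]
    intro g
    obtain ⟨g, rfl⟩ := QuotientGroup.mk_surjective g
    rw [← QuotientGroup.mk_mul, ← QuotientGroup.mk_mul, QuotientGroup.eq, hCdef,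
      Subgroup.mem_centralizer_iff]
    intro b hb
    have h1 : orderOf (g * t * g⁻¹) = 2 := by
      rw [← ht]
      exact orderOf_injective (MulAut.conj g : G ≃* G).toMonoidHom (MulAut.conj g).injective t
    have h2 := hinv _ h1 b hb
    have h3 := hinv t ht b⁻¹ (A.inv_mem hb)
    have hA' : b⁻¹ ∈ A := A.inv_mem hb
    -- `(g t)⁻¹ (t g) = t⁻¹ g⁻¹ t g`
    have h4 : ∀ s : G, orderOf s = 2 → ∀ b ∈ A, s⁻¹ * b * s = b⁻¹ := by
      intro s hs b hb
      have := hinv s⁻¹ (by rw [orderOf_inv]; exact hs) b hb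
      simpa using this
    have h5 : orderOf (g⁻¹ * t * g) = 2 := by
      rw [← ht]
      have := orderOf_injective (MulAut.conj g⁻¹ : G ≃* G).toMonoidHom (MulAut.conj g⁻¹).injective t
      simpa using this
    -- `x = (g t)⁻¹ (t g) = t⁻¹ (g⁻¹ t g)`
    have h6 : (g * t)⁻¹ * (t * g) = t⁻¹ * (g⁻¹ * t * g) := by group
    rw [h6]
    have h7 := hinv _ h5 b hb
    have h8 := h4 t ht _ (A.inv_mem hb)
    -- x b x⁻¹ = t⁻¹ (b⁻¹) t = b
    have h9 : (t⁻¹ * (g⁻¹ * t * g)) * b * (t⁻¹ * (g⁻¹ * t * g))⁻¹ = b := by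
      calc (t⁻¹ * (g⁻¹ * t * g)) * b * (t⁻¹ * (g⁻¹ * t * g))⁻¹
          = t⁻¹ * ((g⁻¹ * t * g) * b * (g⁻¹ * t * g)⁻¹) * t := by group
        _ = b := by rw [h7, h8, inv_inv]
    calc b * (t⁻¹ * (g⁻¹ * t * g))
        = ((t⁻¹ * (g⁻¹ * t * g)) * b * (t⁻¹ * (g⁻¹ * t * g))⁻¹) * (t⁻¹ * (g⁻¹ * t * g)) := by rw [h9]
      _ = (t⁻¹ * (g⁻¹ * t * g)) * b := by group
  have htne : (t : G ⧸ C) ≠ 1 := by
    rw [Ne, QuotientGroup.eq_one_iff]; exact htC
  have hto : orderOf (t : G ⧸ C) = 2 := by
    apply orderOf_eq_prime _ htne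
    rw [← QuotientGroup.mk_pow, ← ht, pow_orderOf_eq_one]; rfl
  have hQ : IsPGroup 2 (G ⧸ C) := (h.quotient C).isPGroup_of_center Nat.prime_two hto hcen
  have hQs : Group.IsSolvable (G ⧸ C) := solvable_of_isPGroup Nat.prime_two hQ
  exact Group.isSolvable_of_ker_le_range C.subtype (QuotientGroup.mk' C) (by simp)

/-- A solvable normal subgroup of a nonsolvable `EP` group with `O_2 = 1` is trivial. -/
theorem EP.solvable_normal [Finite G] (hodd : Odd (Nat.card G) → Group.IsSolvable G)
    (h : EP G) (hns : ¬ Group.IsSolvable G) (hO : pCore 2 G = ⊥) (N : Subgroup G) [hN : N.Normal]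
    (hs : Group.IsSolvable N) : N = ⊥ := by
  by_contra hne
  haveI : Nontrivial N := (Subgroup.nontrivial_iff_ne_bot N).2 hne
  obtain ⟨A, hAc, hAab, hAne⟩ :=
    Cfsg.Agent.Lib.SolvableMinNormal.exists_characteristic_abelian (G := N)
  haveI := hAc
  haveI hB : (A.map N.subtype).Normal := ConjAct.normal_of_characteristic_of_normal
  have hBab : IsMulCommutative (A.map N.subtype) := by
    infer_instance
  have h2 : IsPGroup 2 (A.map N.subtype) := h.normal_abelian hodd hns _ hBab
  have h3 : A.map N.subtype ≤ pCore 2 G := Cfsg.Agent.Lib.Cores.le_pCore hB h2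
  rw [hO, le_bot_iff, Subgroup.map_eq_bot_iff_of_injective _ N.subtype_injective] at h3
  exact hAne h3

end Cfsg.Agent.H514.Eppo
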