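import Mathlib
import Cfsg.Agent.H493.PGRed

/-!
# Numbers of prime and of composite element orders

`PrS G`, `CoS G`: the prime and the composite element orders; `OtS G`: the composite ones which are not a product
of two distinct primes.  The prime graph has at least `#PrS - #CoS + #OtS` connected components.
-/

set_option autoImplicit false

namespace Cfsg.Agent.H514.OC

open Cfsg.Agent.H493.PG

/-- prime element orders -/
def PrS (G : Type*) [Group G] : Set ℕ := {q ∈ Set.range (fun g : G => orderOf g) | q.Prime}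

/-- composite element orders -/
def CoS (G : Type*) [Group G] : Set ℕ := {m ∈ Set.range (fun g : G => orderOf g) | 1 < m ∧ ¬ m.Prime}

/-- composite element orders which are not a product of two distinct primes -/
def OtS (G : Type*) [Group G] : Set ℕ := {m ∈ CoS G | ¬ ∃ p q : ℕ, p.Prime ∧ q.Prime ∧ p ≠ q ∧ m = p * q}

section comb

theorem eqvGen_insert {E : Finset (ℕ × ℕ)} {a b : ℕ} {x y : ℕ}
    (h : Relation.EqvGen (fun u v => (u, v) ∈ insert (a, b) E) x y) :
    Relation.EqvGen (fun u v => (u, v) ∈ E) x y ∨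
      (Relation.EqvGen (fun u v => (u, v) ∈ E) x a ∧ Relation.EqvGen (fun u v => (u, v) ∈ E) b y) ∨
      (Relation.EqvGen (fun u v => (u, v) ∈ E) x b ∧ Relation.EqvGen (fun u v => (u, v) ∈ E) a y) := by
  induction h with
  | rel x y h =>
    rcases Finset.mem_insert.1 h with h | h
    · rw [Prod.mk.injEq] at h
      obtain ⟨rfl, rfl⟩ := h
      exact Or.inr (Or.inl ⟨Relation.EqvGen.refl _, Relation.EqvGen.refl _⟩)
    · exact Or.inl (Relation.EqvGen.rel _ _ h)
  | refl x => exact Or.inl (Relation.EqvGen.refl _)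
  | symm x y _ ih =>
    rcases ih with h | ⟨h1, h2⟩ | ⟨h1, h2⟩
    · exact Or.inl (h.symm)
    · exact Or.inr (Or.inr ⟨h2.symm, h1.symm⟩)
    · exact Or.inr (Or.inl ⟨h2.symm, h1.symm⟩)
  | trans x y z _ _ ih1 ih2 =>
    rcases ih1 with h | ⟨h1, h2⟩ | ⟨h1, h2⟩ <;> rcases ih2 with g | ⟨g1, g2⟩ | ⟨g1, g2⟩
    · exact Or.inl (h.trans _ _ _ g)
    · exact Or.inr (Or.inl ⟨h.trans _ _ _ g1, g2⟩)
    · exact Or.inr (Or.inr ⟨h.trans _ _ _ g1, g2⟩)
    · exact Or.inr (Or.inl ⟨h1, h2.trans _ _ _ g⟩)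
    · exact Or.inr (Or.inl ⟨h1, g2⟩)
    · exact Or.inl (h1.trans _ _ _ g2)
    · exact Or.inr (Or.inr ⟨h1, h2.trans _ _ _ g⟩)
    · exact Or.inl (h1.trans _ _ _ g2)
    · exact Or.inr (Or.inr ⟨h1, g2⟩)

/-- A graph has at least `#vertices - #edges` components. -/
theorem forest (A : Finset ℕ) (E : Finset (ℕ × ℕ)) :
    ∃ R : Finset ℕ, R ⊆ A ∧ A.card ≤ R.card + E.card ∧
      ∀ x ∈ R, ∀ y ∈ R, x ≠ y → ¬ Relation.EqvGen (fun u v => (u, v) ∈ E) x y := by
  classical
  induction E using Finset.induction_on with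
  | empty =>
    refine ⟨A, subset_rfl, by simp, fun x _ y _ hxy h => ?_⟩
    have : ∀ x y : ℕ, Relation.EqvGen (fun u v => (u, v) ∈ (∅ : Finset (ℕ × ℕ))) x y → x = y := by
      intro x y h
      induction h with
      | rel x y h => exact absurd h (Finset.notMem_empty _)
      | refl x => rfl
      | symm x y _ ih => exact ih.symm
      | trans x y z _ _ ih1 ih2 => exact ih1.trans ih2
    exact hxy (this x y h)
  | insert e E he ih =>
    obtain ⟨R, hRA, hRc, hR⟩ := ih
    obtain ⟨a, b⟩ := e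
    rw [Finset.card_insert_of_notMem he]
    by_cases hb : ∃ r ∈ R, Relation.EqvGen (fun u v => (u, v) ∈ E) b r
    · obtain ⟨r, hr, hbr⟩ := hb
      refine ⟨R.erase r, (Finset.erase_subset _ _).trans hRA, ?_, ?_⟩
      · rw [Finset.card_erase_of_mem hr]
        have : 0 < R.card := Finset.card_pos.2 ⟨r, hr⟩
        omega
      · intro x hx y hy hxy h
        rw [Finset.mem_erase] at hx hy
        rcases eqvGen_insert h with h1 | ⟨h1, h2⟩ | ⟨h1, h2⟩
        · exact hR x hx.2 y hy.2 hxy h1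
        · exact hR r hr y hy.2 (fun h => hy.1 h.symm) (hbr.symm.trans _ _ _ h2)
        · exact hR x hx.2 r hr hx.1 (h1.trans _ _ _ hbr)
    · refine ⟨R, hRA, by omega, fun x hx y hy hxy h => ?_⟩
      rcases eqvGen_insert h with h1 | ⟨h1, h2⟩ | ⟨h1, h2⟩
      · exact hR x hx y hy hxy h1
      · exact hb ⟨y, hy, h2⟩
      · exact hb ⟨x, hx, h1.symm⟩

end comb

variable {G : Type*} [Group G]

theorem finite_range [Finite G] : (Set.range (fun g : G => orderOf g)).Finite := Set.finite_range _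

theorem finite_PrS [Finite G] : (PrS G).Finite := finite_range.subset (Set.sep_subset _ _)

theorem finite_CoS [Finite G] : (CoS G).Finite := finite_range.subset (Set.sep_subset _ _)

theorem finite_OtS [Finite G] : (OtS G).Finite := finite_CoS.subset (Set.sep_subset _ _)

theorem Conn.eqvGen {E : Finset (ℕ × ℕ)}
    (hE : ∀ m ∈ CoS G, (∃ p q : ℕ, p.Prime ∧ q.Prime ∧ p ≠ q ∧ m = p * q) → (m.minFac, m / m.minFac) ∈ E)
    {x y : ℕ} (h : Conn G x y) : Relation.EqvGen (fun u v => (u, v) ∈ E) x y := by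
  induction h with
  | refl => exact Relation.EqvGen.refl _
  | tail _ h ih =>
    refine ih.trans _ _ _ ?_
    rename_i b c _
    obtain ⟨hb, hc, hbc, g, hg⟩ := h
    have hm : b * c ∈ CoS G := ⟨⟨g, hg⟩, by nlinarith [hb.two_le, hc.two_le], fun h => by
      exact Nat.not_prime_mul hb.ne_one hc.ne_one h⟩
    have h1 := hE _ hm ⟨b, c, hb, hc, hbc, rfl⟩
    have h2 : (b * c).minFac = b ∨ (b * c).minFac = c := by
      have h3 := Nat.minFac_prime (n := b * c) (fun h => by
        have := Nat.eq_one_of_mul_eq_one_right h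
        exact hb.ne_one this)
      rcases (Nat.Prime.dvd_mul h3).1 (Nat.minFac_dvd _) with h4 | h4
      · exact Or.inl ((Nat.prime_dvd_prime_iff_eq h3 hb).1 h4)
      · exact Or.inr ((Nat.prime_dvd_prime_iff_eq h3 hc).1 h4)
    rcases h2 with h2 | h2
    · rw [h2, Nat.mul_div_cancel_left _ hb.pos] at h1
      exact Relation.EqvGen.rel _ _ h1
    · rw [h2, Nat.mul_div_cancel _ hc.pos] at h1
      exact (Relation.EqvGen.rel _ _ h1).symm

/-- **The forest bound.** -/
theorem exists_coclique [Finite G] : ∃ R : Finset ℕ, (∀ r ∈ R, r.Prime ∧ r ∣ Nat.card G) ∧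
    (PrS G).ncard + (OtS G).ncard ≤ R.card + (CoS G).ncard ∧
    ∀ x ∈ R, ∀ y ∈ R, x ≠ y → ¬ Conn G x y := by
  classical
  let A : Finset ℕ := finite_PrS (G := G).toFinset
  let E0 : Finset ℕ := (finite_CoS (G := G)).toFinset \ (finite_OtS (G := G)).toFinset
  let E : Finset (ℕ × ℕ) := E0.image (fun m => (m.minFac, m / m.minFac))
  obtain ⟨R, hRA, hRc, hR⟩ := forest A E
  have hA : A.card = (PrS G).ncard := (Set.ncard_eq_toFinset_card _ finite_PrS).symm
  have hE0 : E0.card + (OtS G).ncard = (CoS G).ncard := by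
    rw [Set.ncard_eq_toFinset_card _ (finite_OtS (G := G)), Set.ncard_eq_toFinset_card _ (finite_CoS (G := G))]
    apply Finset.card_sdiff_add_card_eq_card
    intro x hx
    rw [Set.Finite.mem_toFinset] at hx ⊢
    exact hx.1
  have hEc : E.card ≤ E0.card := Finset.card_image_le
  refine ⟨R, fun r hr => ?_, by omega, fun x hx y hy hxy hc => ?_⟩
  · have h1 := hRA hr
    rw [Set.Finite.mem_toFinset] at h1
    obtain ⟨⟨g, hg⟩, hp⟩ := h1
    refine ⟨hp, ?_⟩
    rw [← hg]; exact orderOf_dvd_natCard g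
  · refine hR x hx y hy hxy (Conn.eqvGen ?_ hc)
    intro m hm hpq
    refine Finset.mem_image.2 ⟨m, ?_, rfl⟩
    rw [Finset.mem_sdiff, Set.Finite.mem_toFinset, Set.Finite.mem_toFinset]
    exact ⟨hm, fun h => h.2 hpq⟩

theorem Few.mono {n m : ℕ} (h : Few n G) (hnm : n ≤ m) : Few m G := by
  intro f hf hp
  obtain ⟨i, j, hij, hc⟩ := h (fun i => f (Fin.castLE hnm i)) (hf.comp (Fin.castLE_injective hnm)) (fun i => hp _)
  exact ⟨_, _, fun h => hij (Fin.castLE_injective hnm h), hc⟩

/-- `¬ Few` from a coclique. -/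
theorem not_few_of_finset {R : Finset ℕ} (h1 : ∀ r ∈ R, r.Prime ∧ r ∣ Nat.card G)
    (h2 : ∀ x ∈ R, ∀ y ∈ R, x ≠ y → ¬ Conn G x y) : ¬ Few R.card G := by
  intro h
  obtain ⟨i, j, hij, hc⟩ := h (fun i => (R.equivFin.symm i : ℕ))
    (Subtype.val_injective.comp R.equivFin.symm.injective) (fun i => h1 _ (R.equivFin.symm i).2)
  exact h2 _ (R.equivFin.symm i).2 _ (R.equivFin.symm j).2
    (fun h => hij (R.equivFin.symm.injective (Subtype.ext h))) hc

/-- If the number of prime orders is at least the number of composite orders plus 3, then there are at least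
`3 + #OtS` components. -/
theorem not_few [Finite G] (h : (CoS G).ncard + 3 ≤ (PrS G).ncard) : ¬ Few (3 + (OtS G).ncard) G := by
  obtain ⟨R, h1, h2, h3⟩ := exists_coclique (G := G)
  intro hF
  exact not_few_of_finset h1 h3 (Few.mono hF (by omega))

end Cfsg.Agent.H514.OC
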