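import Cfsg.Agent.H514.OrdRed

/-!
# Fusion and outer automorphisms

`S ⊴ G`, `u ∈ S` of prime order `p` whose `G`-class is an `S`-class: every prime `ℓ ≠ p` dividing `|G : S|` is adjacent
to `p` in the prime graph of `G`.
-/

set_option autoImplicit false
set_option linter.style.haveILetI false

namespace Cfsg.Agent.H514.OC

open Cfsg.Agent.H493.PG Subgroup

universe u v

/-- The Frattini argument for a fused class. -/
theorem rel_of_fusion {G : Type*} [Group G] [Finite G] (S : Subgroup G) [S.Normal] {u : G}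
    (hfus : ∀ g : G, ∃ s ∈ S, g * u * g⁻¹ = s * u * s⁻¹) {l : ℕ} (hl : l.Prime) (hd : l ∣ S.index) {p : ℕ}
    (hp : p.Prime) (hup : orderOf u = p) (hne : l ≠ p) : Rel G l p := by
  classical
  haveI := Fact.mk hl
  let C : Subgroup G := centralizer ({u} : Set G)
  let f : C →* G ⧸ S := (QuotientGroup.mk' S).comp C.subtype
  have hf : Function.Surjective f := by
    intro y
    obtain ⟨g, rfl⟩ := QuotientGroup.mk_surjective y
    obtain ⟨s, hs, h⟩ := hfus g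
    have hc : s⁻¹ * g ∈ C := by
      rw [mem_centralizer_singleton_iff]
      calc s⁻¹ * g * u = s⁻¹ * (g * u * g⁻¹) * g := by group
        _ = s⁻¹ * (s * u * s⁻¹) * g := by rw [h]
        _ = u * (s⁻¹ * g) := by group
    refine ⟨⟨s⁻¹ * g, hc⟩, ?_⟩
    show ((s⁻¹ * g : G) : G ⧸ S) = g
    rw [QuotientGroup.mk_mul, QuotientGroup.mk_inv, (QuotientGroup.eq_one_iff s).2 hs, inv_one, one_mul]
  have h1 : Nat.card (G ⧸ S) ∣ Nat.card C := Subgroup.card_dvd_of_surjective f hf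
  have h2 : l ∣ Nat.card C := by
    rw [Subgroup.index_eq_card] at hd
    exact hd.trans h1
  obtain ⟨c, hc⟩ := exists_prime_orderOf_dvd_card' (G := C) l h2
  have h3 : Commute (c : G) u := mem_centralizer_singleton_iff.1 c.2
  refine Rel.of_commute hl hp hne h3 ?_ (by rw [hup])
  rw [Subgroup.orderOf_coe, hc]

/-- Two classes and odd index: fusion. -/
theorem fused_of_two {G : Type*} [Group G] [Finite G] (S : Subgroup G) [hS : S.Normal] (hodd : Odd S.index) {u : G}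
    (h3 : ∀ a b c : G, (∃ g : G, g * u * g⁻¹ = a) → (∃ g : G, g * u * g⁻¹ = b) → (∃ g : G, g * u * g⁻¹ = c) →
      (∃ s ∈ S, a = s * b * s⁻¹) ∨ (∃ s ∈ S, b = s * c * s⁻¹) ∨ (∃ s ∈ S, c = s * a * s⁻¹)) :
    ∀ g : G, ∃ s ∈ S, g * u * g⁻¹ = s * u * s⁻¹ := by
  classical
  let N : Subgroup G :=
    { carrier := {g | ∃ s ∈ S, g * u * g⁻¹ = s * u * s⁻¹}
      one_mem' := ⟨1, S.one_mem, rfl⟩
      mul_mem' := by
        rintro a b ⟨s, hs, h1⟩ ⟨t, ht, h2⟩
        refine ⟨(a * t * a⁻¹) * s, S.mul_mem (hS.conj_mem t ht a) hs, ?_⟩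
        calc a * b * u * (a * b)⁻¹ = a * (b * u * b⁻¹) * a⁻¹ := by group
          _ = a * (t * u * t⁻¹) * a⁻¹ := by rw [h2]
          _ = (a * t * a⁻¹) * (a * u * a⁻¹) * (a * t * a⁻¹)⁻¹ := by group
          _ = (a * t * a⁻¹) * (s * u * s⁻¹) * (a * t * a⁻¹)⁻¹ := by rw [h1]
          _ = (a * t * a⁻¹) * s * u * ((a * t * a⁻¹) * s)⁻¹ := by group
      inv_mem' := by
        rintro a ⟨s, hs, h1⟩
        refine ⟨a⁻¹ * s⁻¹ * a, ?_, ?_⟩
        · have := hS.conj_mem s⁻¹ (S.inv_mem hs) a⁻¹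
          simpa using this
        · have h2 : a⁻¹ * (s * (a * u * a⁻¹) * s⁻¹) * a = a⁻¹ * (s * (s * u * s⁻¹) * s⁻¹) * a := by rw [h1]
          have h3 : u = a⁻¹ * s * u * s⁻¹ * a := by
            calc u = a⁻¹ * (a * u * a⁻¹) * a := by group
              _ = a⁻¹ * (s * u * s⁻¹) * a := by rw [h1]
              _ = a⁻¹ * s * u * s⁻¹ * a := by group
          calc a⁻¹ * u * a⁻¹⁻¹ = a⁻¹ * s⁻¹ * a * (a⁻¹ * s * u * s⁻¹ * a) * a⁻¹ * s * a := by group
            _ = a⁻¹ * s⁻¹ * a * u * a⁻¹ * s * a := by rw [← h3]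
            _ = a⁻¹ * s⁻¹ * a * u * (a⁻¹ * s⁻¹ * a)⁻¹ := by group }
  have hSN : ∀ s ∈ S, s ∈ N := fun s hs => ⟨s, hs, rfl⟩
  have hsq : ∀ g : G, g * g ∈ N := by
    intro g
    have key : g ∈ N → g * g ∈ N := fun h => N.mul_mem h h
    rcases h3 u (g * u * g⁻¹) ((g * g) * u * (g * g)⁻¹) ⟨1, by group⟩ ⟨g, rfl⟩ ⟨g * g, rfl⟩ with
      ⟨s, hs, h⟩ | ⟨s, hs, h⟩ | ⟨s, hs, h⟩
    · apply key
      refine ⟨s⁻¹, S.inv_mem hs, ?_⟩
      have h4 : s⁻¹ * u * s⁻¹⁻¹ = s⁻¹ * (s * (g * u * g⁻¹) * s⁻¹) * s⁻¹⁻¹ := by rw [← h]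
      rw [h4]; group
    · apply key
      refine ⟨(g⁻¹ * s * g)⁻¹, S.inv_mem (by have := hS.conj_mem s hs g⁻¹; simpa using this), ?_⟩
      symm
      calc (g⁻¹ * s * g)⁻¹ * u * (g⁻¹ * s * g)⁻¹⁻¹
          = g⁻¹ * s⁻¹ * g * (g⁻¹ * (g * u * g⁻¹) * g) * g⁻¹ * s * g := by group
        _ = g⁻¹ * s⁻¹ * g * (g⁻¹ * (s * (g * g * u * (g * g)⁻¹) * s⁻¹) * g) * g⁻¹ * s * g := by rw [h]
        _ = g * u * g⁻¹ := by group
    · exact ⟨s, hs, h⟩
  intro g
  obtain ⟨k, hk⟩ := hodd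
  have h1 : g ^ S.index ∈ S := Subgroup.pow_index_mem S g
  have h2 : g = (g * g) ^ (k + 1) * (g ^ S.index)⁻¹ := by
    rw [hk, ← pow_two, ← pow_mul, ← pow_sub g (by omega)]
    have : 2 * (k + 1) - (2 * k + 1) = 1 := by omega
    rw [this, pow_one]
  have h4 : g ∈ N := by
    rw [h2]
    exact N.mul_mem (N.pow_mem (hsq g) _) (N.inv_mem (hSN _ h1))
  exact h4

section

variable
  (hinv : ∀ (K : Type u) [Group K] [Finite K] [IsSimpleGroup K], ¬ IsMulCommutative K →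
    ∀ r : ℕ, r.Prime → r ≠ 2 → ¬ r ∣ Nat.card K → ∀ x : MulAut K, x ^ r = 1 → ∃ g : K, orderOf g = 2 ∧ x g = g)

include hinv in
/-- `n` pairwise non-connected primes in an almost simple group divide the order of the socle. -/
theorem socle_family (n : ℕ) (hn : 1 ≤ n) (G : Type u) [Group G] [Finite G] (S : Subgroup G) [hSn : S.Normal]
    (hSs : IsSimpleGroup S) (hSna : ¬ IsMulCommutative S) (hev : Even (Nat.card S)) (hfew : ¬ Few n G) :
    ∃ g : Fin n → ℕ, Function.Injective g ∧ (∀ i, (g i).Prime ∧ g i ∣ Nat.card S) ∧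
      ∀ i j : Fin n, i ≠ j → ¬ Conn G (g i) (g j) := by
  obtain ⟨g, i0, hg0, hgi, hgp, hgc⟩ := exists_family n hn G (hev.trans_dvd S.card_subgroup_dvd_card) hfew
  have hg2 : ∀ i, i ≠ i0 → g i ≠ 2 := fun i hi h => hi (hgi (h.trans hg0.symm))
  refine ⟨g, hgi, fun i => ⟨(hgp i).1, ?_⟩, hgc⟩
  by_cases hi : i = i0
  · rw [hi, hg0]
    exact hev.two_dvd
  · by_contra hnd
    haveI : Fact (g i).Prime := ⟨(hgp i).1⟩
    obtain ⟨x, hx⟩ := exists_prime_orderOf_dvd_card' (G := G) (g i) (hgp i).2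
    obtain ⟨y, hy2, hyx⟩ := hinv S hSna (g i) (hgp i).1 (hg2 i hi) hnd (MulAut.conjNormal x) (by
      rw [← map_pow, ← hx, pow_orderOf_eq_one, map_one])
    have h1 : x * y * x⁻¹ = y := by
      rw [← MulAut.conjNormal_apply, hyx]
    have h2 : Commute (y : G) x := by
      rw [mul_inv_eq_iff_eq_mul] at h1
      exact h1.symm
    have h3 : Rel G 2 (g i) := Rel.of_commute Nat.prime_two (hgp i).1 (hg2 i hi).symm h2
      (by rw [Subgroup.orderOf_coe, hy2]) (by rw [hx])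
    have h5 : Conn G (g i0) (g i) := by rw [hg0]; exact h3.conn
    exact hgc i0 i (Ne.symm hi) h5

include hinv in
/-- If the primes of `|S|` form `n` cliques, two of which are joined in `G`, then `G` has fewer than `n` components. -/
theorem false_of_merge (n : ℕ) (hn : 1 ≤ n) (G : Type u) [Group G] [Finite G] (S : Subgroup G) [hSn : S.Normal]
    (hSs : IsSimpleGroup S) (hSna : ¬ IsMulCommutative S) (hev : Even (Nat.card S)) (hfew : ¬ Few n G)
    (P : Fin n → ℕ → Prop) (hP : ∀ r : ℕ, r.Prime → r ∣ Nat.card S → ∃ i, P i r)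
    (hcl : ∀ i, ∀ r s : ℕ, r.Prime → s.Prime → r ∣ Nat.card S → s ∣ Nat.card S → P i r → P i s → Conn S r s)
    {i j : Fin n} (hij : i ≠ j) {r s : ℕ} (hr : r.Prime) (hs : s.Prime) (hrd : r ∣ Nat.card S) (hsd : s ∣ Nat.card S)
    (hi : P i r) (hj : P j s) (hrs : Conn G r s) : False := by
  classical
  obtain ⟨g, hg, hgp, hgc⟩ := socle_family hinv n hn G S hSs hSna hev hfew
  choose c hc using fun k => hP (g k) (hgp k).1 (hgp k).2
  have up : ∀ {a b : ℕ}, Conn S a b → Conn G a b := fun h => h.of_injective S.subtype Subtype.val_injective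
  have hci : Function.Injective c := by
    intro k l hkl
    by_contra hne
    exact hgc k l hne (up (hcl (c k) _ _ (hgp k).1 (hgp l).1 (hgp k).2 (hgp l).2 (hc k) (hkl ▸ hc l)))
  have hcs : Function.Surjective c := Finite.injective_iff_surjective.1 hci
  obtain ⟨k, hk⟩ := hcs i
  obtain ⟨l, hl⟩ := hcs j
  have hkl : k ≠ l := by
    rintro rfl
    exact hij (hk.symm.trans hl)
  refine hgc k l hkl ?_
  have h1 : Conn G (g k) r := up (hcl i _ _ (hgp k).1 hr (hgp k).2 hrd (hk ▸ hc k) hi)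
  have h2 : Conn G s (g l) := up (hcl j _ _ hs (hgp l).1 hsd (hgp l).2 hj (hl ▸ hc l))
  exact (h1.trans hrs).trans h2

end

/-- `Few` from cliques. -/
theorem few_of_cliques {K : Type*} [Group K] (n : ℕ) (P : Fin n → ℕ → Prop)
    (hP : ∀ r : ℕ, r.Prime → r ∣ Nat.card K → ∃ i, P i r)
    (hcl : ∀ i, ∀ r s : ℕ, r.Prime → s.Prime → r ∣ Nat.card K → s ∣ Nat.card K → P i r → P i s → Conn K r s) :
    Few (n + 1) K := by
  intro f hf hfp
  choose c hc using fun k => hP (f k) (hfp k).1 (hfp k).2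
  have hnc : ¬ Function.Injective c := by
    intro h
    have := Fintype.card_le_of_injective c h
    simp at this
  unfold Function.Injective at hnc
  push Not at hnc
  obtain ⟨i, j, hij, hne⟩ := hnc
  exact ⟨i, j, hne, hcl (c i) _ _ (hfp i).1 (hfp j).1 (hfp i).2 (hfp j).2 (hc i) (hij ▸ hc j)⟩

end Cfsg.Agent.H514.OC
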