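import Cfsg.Agent.H514.OrdRows
import Cfsg.Agent.H388.EvenFixAll
import Cfsg.Agent.S0204
import Cfsg.Agent.S0205

/-!
# The number of prime orders is at most the number of composite orders plus three
-/

set_option autoImplicit false
set_option linter.style.haveILetI false

namespace Cfsg.Agent.H514.OC.Main

open Cfsg.Agent.H493.PG Subgroup Cfsg.Agent.H514.OC Cfsg Cfsg.Agent Cfsg.Agent.H514.OC.Rows

universe u

theorem odd (K : Type u) [Group K] [Finite K] (h : ¬ Even (Nat.card K)) : Group.IsSolvable K :=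
  S0205.result (Nat.not_even_iff_odd.1 h)

theorem four (K : Type u) [Group K] [Finite K] [IsSimpleGroup K] (hna : ¬ IsMulCommutative K) :
    ∃ E : Subgroup K, IsKleinFour E := by
  refine S0204.result fun hc => hna ?_
  letI : CommGroup K := IsCyclic.commGroup
  exact ⟨⟨fun a b => mul_comm a b⟩⟩

theorem inv_of_known (known : ∀ (K : Type u) [Group K] [Finite K] [IsSimpleGroup K], IsKnownSimple' K) (K : Type u) [Group K] [Finite K] [IsSimpleGroup K] (hna : ¬ IsMulCommutative K)
    (r : ℕ) (hr : r.Prime) (hr2 : r ≠ 2) (hd : ¬ r ∣ Nat.card K) (x : MulAut K) (hx : x ^ r = 1) :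
    ∃ g : K, orderOf g = 2 ∧ x g = g :=
  H388.EvenFixAll.exists_involution hna (known K) hr hr2 hd x hx

section

variable (known : ∀ (K : Type u) [Group K] [Finite K] [IsSimpleGroup K], IsKnownSimple' K)

include known in
theorem rows {K : Type u} [Group K] [Finite K] [IsSimpleGroup K] (hna : ¬ IsMulCommutative K) :
    Bad K ∨ Few (3 + (OtS K).ncard) K := bad_or_few hna (known K) (four K hna)

/-- the forest bound -/
theorem lt_of_few {K : Type u} [Group K] [Finite K] {n : ℕ} (h : Few n K) :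
    (PrS K).ncard + (OtS K).ncard < (CoS K).ncard + n := by
  obtain ⟨R, h1, h2, h3⟩ := exists_coclique (G := K)
  by_contra hcon
  exact not_few_of_finset h1 h3 (OC.Few.mono h (by omega))

theorem ot_pos {K : Type u} [Group K] [Finite K] {n : ℕ} (h : n ∈ OtS K) : 1 ≤ (OtS K).ncard := by
  rw [Nat.one_le_iff_ne_zero, ne_eq, Set.ncard_eq_zero finite_OtS]
  exact Set.nonempty_iff_ne_empty.1 ⟨n, h⟩

include known in
theorem le (K : Type u) [Group K] [Finite K] [IsSimpleGroup K] (hna : ¬ IsMulCommutative K) :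
    (PrS K).ncard ≤ (CoS K).ncard + 3 := by
  rcases rows known hna with (⟨F, i1, i2, h4, ⟨e⟩⟩ | h | ⟨F, i1, i2, h4, ⟨e⟩⟩ | h) | h
  · obtain ⟨p, hp⟩ := CharP.exists F
    haveI : Fact p.Prime := ⟨CharP.char_is_prime F p⟩
    have := lt_of_few (Psl2.few_four p h4 e)
    omega
  · have h1 := lt_of_few (few_isoSuzuki h)
    have h2 := ot_pos (Sz.four_mem h)
    omega
  · have h1 := lt_of_few (L34.few_five h4 e)
    have h2 := ot_pos (L34.ot_four h4 e)
    omega
  · exact J1.le h
  · have := lt_of_few h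
    omega

include known in
theorem mod (K : Type u) [Group K] [Finite K] [IsSimpleGroup K] (hna : ¬ IsMulCommutative K) (hG : Ge3 K) :
    ModOK.{u, u} K := by
  rcases rows known hna with (⟨F, i1, i2, h4, ⟨e⟩⟩ | h | ⟨F, i1, i2, h4, ⟨e⟩⟩ | h) | h
  · obtain ⟨p, hp⟩ := CharP.exists F
    haveI : Fact p.Prime := ⟨CharP.char_is_prime F p⟩
    have h1 := lt_of_few (Psl2.few_four p h4 e)
    have h2 : (OtS K).ncard = 0 := by
      unfold Ge3 at hG
      omega
    exact Psl2.modOK p h4 hna e ((Set.ncard_eq_zero finite_OtS).1 h2)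
  · exact Sz.modOK h
  · exact L34.modOK h4 e
  · exact J1.modOK hna h
  · exact absurd h (OC.not_few hG)

include known in
theorem alm (G : Type u) [Group G] [Finite G] (S : Subgroup G) [S.Normal] (hS : IsSimpleGroup S)
    (hSna : ¬ IsMulCommutative S) (hC : centralizer (S : Set G) = ⊥) (htop : S ≠ ⊤) (hG : Ge3 G) : False := by
  have hnf := OC.not_few hG
  have hev : Even (Nat.card S) := by
    by_contra hcon
    have h1 := odd S hcon
    exact hSna ⟨⟨(IsSimpleGroup.comm_iff_isSolvable (G := S)).2 h1⟩⟩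
  have hsub : OtS S ⊆ OtS G := OtS_subset_of_injective S.subtype S.subtype_injective
  have hcard : (OtS S).ncard ≤ (OtS G).ncard := Set.ncard_le_ncard hsub finite_OtS
  have hnS : ¬ Few (3 + (OtS G).ncard) S := not_few_socle (inv_of_known known) _ (by omega) G S hS hSna hev hnf
  rcases rows known (K := S) hSna with (⟨F, i1, i2, h4, ⟨e⟩⟩ | h | ⟨F, i1, i2, h4, ⟨e⟩⟩ | h) | h
  · obtain ⟨p, hp⟩ := CharP.exists F
    haveI : Fact p.Prime := ⟨CharP.char_is_prime F p⟩
    have h0 : (OtS G).ncard = 0 := by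
      by_contra hne
      exact hnS (OC.Few.mono (Psl2.few_four p h4 e) (by omega))
    exact Psl2.almost_false (inv_of_known known) p h4 S hS hSna hC htop e ((Set.ncard_eq_zero finite_OtS).1 h0)
      (fun hf => hnf (OC.Few.mono hf (by omega))) (four S hSna)
  · have h1 := ot_pos (Sz.four_mem h)
    exact Sz.almost_false (inv_of_known known) S hS hSna htop h (fun hf => hnf (OC.Few.mono hf (by omega)))
  · have h1 := ot_pos (L34.ot_four h4 e)
    exact L34.almost_false (inv_of_known known) h4 S hS hSna htop e (fun hf => hnf (OC.Few.mono hf (by omega)))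
  · exact htop (J1.eq_top S hC h)
  · exact hnS (OC.Few.mono h (by omega))

/-- **Main theorem.** -/
theorem main
    (known : ∀ (K : Type u) [Group K] [Finite K] [IsSimpleGroup K], IsKnownSimple' K)
    (has : ∀ (G : Type u) [Group G] [Finite G] (_ : ¬ Group.IsSolvable G) (_ : Even (Nat.card G))
      (r : ℕ) (_ : r.Prime) (_ : r ≠ 2) (_ : r ∣ Nat.card G) (_ : ∀ g : G, orderOf g ≠ 2 * r)
      (R : Subgroup G) [R.Normal] (_ : Group.IsSolvable ↥R)
      (_ : ∀ N : Subgroup G, N.Normal → Group.IsSolvable ↥N → N ≤ R),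
      ∃ S : Subgroup (G ⧸ R), S.Normal ∧ IsSimpleGroup ↥S ∧ ¬ IsMulCommutative ↥S ∧
        Subgroup.centralizer (S : Set (G ⧸ R)) = ⊥)
    (G : Type u) [Group G] [Finite G] (hG : Ge3 G) :
    IsSimpleGroup G ∧ (PrS G).ncard = (CoS G).ncard + 3 :=
  OC.main odd four (mod known) has (le known) (alm known) G hG

end

end Cfsg.Agent.H514.OC.Main
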