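import Mathlib

/-!
# Elements of new orders in extensions of elementary abelian groups

`V` is a normal elementary abelian `r`-subgroup of `G`, `r` odd, `E ≤ G ⧸ V` a 2-group on which an
element `y` of odd prime order `p` acts without fixed points, `E` acting non-trivially on `V`.  Then `G` has an
element of order `p r` (`r ≠ p`) or `r²` (`r = p`): `exists_order`.
-/

set_option autoImplicit false
set_option linter.style.haveILetI false

namespace Cfsg.Agent.H514.OrdMod

open Subgroup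
open scoped Pointwise

/-- The norm of `h` is non-trivial on a module without fixed points for `F` (abstract form). -/
theorem norm_ne_one {A G : Type*} [CommGroup A] [Group G] (a : G →* MulAut A) (F : Subgroup G) [Fintype F]
    (h : G) (p : ℕ) (hp : 0 < p) (hF' : ∀ f ∈ F, h⁻¹ * f * h ∈ F)
    (hfix : ∀ f ∈ F, ∀ i : ℕ, 0 < i → i < p → Commute f (h ^ i) → f = 1) (w : A)
    (hw : ∏ f : F, a f w = 1) (hw1 : w ^ Nat.card F ≠ 1) :
    ∃ f ∈ F, ∏ i ∈ Finset.range p, a (h ^ i) (a f w) ≠ 1 := by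
  classical
  by_contra hcon
  push Not at hcon
  -- conjugation by powers
  have hpow : ∀ i : ℕ, ∀ f ∈ F, (h ^ i)⁻¹ * f * h ^ i ∈ F := by
    intro i
    induction i with
    | zero => intro f hf; simpa using hf
    | succ i ih =>
      intro f hf
      have h1 := hF' _ (ih f hf)
      have h2 : (h ^ (i + 1))⁻¹ * f * h ^ (i + 1) = h⁻¹ * ((h ^ i)⁻¹ * f * h ^ i) * h := by
        rw [pow_succ]; group
      rw [h2]; exact h1
  have key : ∀ i : ℕ, 0 < i → i < p → ∏ f : F, a ((f : G)⁻¹ * h ^ i * f) w = 1 := by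
    intro i hi hip
    let φ : F → F := fun f => ⟨((h ^ i)⁻¹ * (f : G)⁻¹ * h ^ i) * f, F.mul_mem (hpow i _ (F.inv_mem f.2)) f.2⟩
    have hφ : Function.Injective φ := by
      intro f g hfg
      have h1 : ((h ^ i)⁻¹ * (f : G)⁻¹ * h ^ i) * f = ((h ^ i)⁻¹ * (g : G)⁻¹ * h ^ i) * g := congrArg Subtype.val hfg
      have h2 : ((f : G) * (g : G)⁻¹) = 1 := by
        apply hfix _ (F.mul_mem f.2 (F.inv_mem g.2)) i hi hip
        show (f : G) * (g : G)⁻¹ * h ^ i = h ^ i * (f * (g : G)⁻¹)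
        -- `f g⁻¹ = h^-i (f g⁻¹) h^i`
        have h3 : (f : G) * (g : G)⁻¹ = ((h ^ i)⁻¹ * (f : G)⁻¹ * h ^ i)⁻¹ * ((h ^ i)⁻¹ * (g : G)⁻¹ * h ^ i) := by
          have h4 : ((h ^ i)⁻¹ * (f : G)⁻¹ * h ^ i)⁻¹ * (((h ^ i)⁻¹ * (f : G)⁻¹ * h ^ i) * f) * (g : G)⁻¹ =
              ((h ^ i)⁻¹ * (f : G)⁻¹ * h ^ i)⁻¹ * (((h ^ i)⁻¹ * (g : G)⁻¹ * h ^ i) * g) * (g : G)⁻¹ := by rw [h1]
          calc (f : G) * (g : G)⁻¹ = ((h ^ i)⁻¹ * (f : G)⁻¹ * h ^ i)⁻¹ * (((h ^ i)⁻¹ * (f : G)⁻¹ * h ^ i) * f) * (g : G)⁻¹ := by group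
            _ = ((h ^ i)⁻¹ * (f : G)⁻¹ * h ^ i)⁻¹ * (((h ^ i)⁻¹ * (g : G)⁻¹ * h ^ i) * g) * (g : G)⁻¹ := h4
            _ = _ := by group
        have h5 : ((h ^ i)⁻¹ * (f : G)⁻¹ * h ^ i)⁻¹ * ((h ^ i)⁻¹ * (g : G)⁻¹ * h ^ i) = (h ^ i)⁻¹ * (f * (g : G)⁻¹) * h ^ i := by
          group
        rw [h5] at h3
        calc (f : G) * (g : G)⁻¹ * h ^ i = h ^ i * ((h ^ i)⁻¹ * ((f : G) * (g : G)⁻¹) * h ^ i) := by group
          _ = h ^ i * (f * (g : G)⁻¹) := by rw [← h3]
      apply Subtype.ext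
      exact mul_inv_eq_one.1 h2
    have hbij : Function.Bijective φ := Finite.injective_iff_bijective.1 hφ
    have h6 : ∀ f : F, a ((f : G)⁻¹ * h ^ i * f) w = a (h ^ i) (a (φ f : G) w) := by
      intro f
      have : (f : G)⁻¹ * h ^ i * f = h ^ i * (φ f : G) := by
        show (f : G)⁻¹ * h ^ i * f = h ^ i * (((h ^ i)⁻¹ * (f : G)⁻¹ * h ^ i) * f)
        group
      rw [this, map_mul]; rfl
    rw [Finset.prod_congr rfl (fun f _ => h6 f), ← map_prod]
    rw [hbij.prod_comp (fun f : F => a (f : G) w), hw, map_one]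
  have htot : ∏ f : F, ∏ i ∈ Finset.range p, a ((f : G)⁻¹ * h ^ i * f) w = w ^ Nat.card F := by
    rw [Finset.prod_comm]
    rw [Finset.prod_eq_single_of_mem 0 (Finset.mem_range.2 hp)]
    · simp
    · intro i hi hi0
      exact key i (Nat.pos_of_ne_zero hi0) (Finset.mem_range.1 hi)
  apply hw1
  rw [← htot]
  apply Finset.prod_eq_one
  intro f _
  have h7 := hcon f f.2
  have h8 : ∏ i ∈ Finset.range p, a ((f : G)⁻¹ * h ^ i * f) w =
      a (f : G)⁻¹ (∏ i ∈ Finset.range p, a (h ^ i) (a f w)) := by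
    rw [map_prod]
    refine Finset.prod_congr rfl (fun i _ => ?_)
    rw [map_mul, map_mul]; rfl
  rw [h8, h7, map_one]

/-- `(w h)^n = (∏ i<n, h^i w h^-i) h^n`. -/
theorem mul_pow_eq {G : Type*} [Group G] (V : Subgroup G) [V.Normal] (hVc : ∀ v ∈ V, ∀ w ∈ V, v * w = w * v)
    (w : V) (h : G) (n : ℕ) :
    letI : CommGroup V := { (inferInstance : Group V) with mul_comm := fun v w => Subtype.ext (hVc v v.2 w w.2) }
    ((w : G) * h) ^ n = ((∏ i ∈ Finset.range n, (MulAut.conjNormal (h ^ i) : V ≃* V) w : V) : G) * h ^ n := by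
  letI : CommGroup V := { (inferInstance : Group V) with mul_comm := fun v w => Subtype.ext (hVc v v.2 w w.2) }
  induction n with
  | zero => simp
  | succ n ih =>
    rw [pow_succ, ih, Finset.prod_range_succ]
    have h1 : (((∏ i ∈ Finset.range n, (MulAut.conjNormal (h ^ i) : V ≃* V) w) *
      (MulAut.conjNormal (h ^ n) : V ≃* V) w : V) : G) =
      ((∏ i ∈ Finset.range n, (MulAut.conjNormal (h ^ i) : V ≃* V) w : V) : G) * (h ^ n * w * (h ^ n)⁻¹) := rfl
    rw [h1, pow_succ]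
    group

/-- Group form: `F` a complement-like subgroup normalised by `h`. -/
theorem exists_of_lift {G : Type*} [Group G] [Finite G] (V : Subgroup G) [V.Normal]
    (hVc : ∀ v ∈ V, ∀ w ∈ V, v * w = w * v) {r : ℕ} (hr : r.Prime) (hVr : ∀ v ∈ V, v ^ r = 1)
    (F : Subgroup G) (hFr : (Nat.card F).Coprime r) (hFV : F ⊓ V = ⊥) {h : G} {p : ℕ} (hp : p.Prime)
    (hF : ∀ f ∈ F, h * f * h⁻¹ ∈ F) (hF' : ∀ f ∈ F, h⁻¹ * f * h ∈ F)
    (hfix : ∀ f ∈ F, ∀ i : ℕ, 0 < i → i < p → Commute f (h ^ i) → f = 1) (hhp : h ^ p ∈ V)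
    (hh : ∀ i : ℕ, 0 < i → i < p → h ^ i ∉ V) (hnc : ∃ f ∈ F, ∃ v ∈ V, f * v ≠ v * f) :
    (r ≠ p → ∃ g : G, orderOf g = p * r) ∧ (r = p → ∃ g : G, orderOf g = r * r) := by
  classical
  haveI := Fact.mk hr
  haveI := Fact.mk hp
  letI : Fintype F := Fintype.ofFinite F
  letI : CommGroup V := { (inferInstance : Group V) with mul_comm := fun v w => Subtype.ext (hVc v v.2 w w.2) }
  let a : G →* MulAut V := MulAut.conjNormal
  have ha : ∀ g : G, ∀ v : V, ((a g v : V) : G) = g * v * g⁻¹ := fun g v => MulAut.conjNormal_apply g v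
  obtain ⟨f0, hf0, v0, hv0, hne⟩ := hnc
  -- an element of the kernel of the norm of `F`
  let w : V := (⟨v0, hv0⟩ : V)⁻¹ * a f0 ⟨v0, hv0⟩
  have hw1 : w ≠ 1 := by
    intro h1
    have h2 : a f0 ⟨v0, hv0⟩ = ⟨v0, hv0⟩ := by
      exact (inv_mul_eq_one.1 h1).symm
    have h3 := congrArg (fun x : V => (x : G)) h2
    simp only [ha] at h3
    apply hne
    rw [mul_inv_eq_iff_eq_mul] at h3
    exact h3
  have hVpow : ∀ v : V, v ^ r = 1 := fun v => Subtype.ext (hVr v v.2)
  have hcop : ∀ v : V, v ^ Nat.card F = 1 → v = 1 := by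
    intro v hv
    have h1 : orderOf v ∣ Nat.card F := orderOf_dvd_of_pow_eq_one hv
    have h2 : orderOf v ∣ r := orderOf_dvd_of_pow_eq_one (hVpow v)
    have h3 : orderOf v ∣ 1 := by
      have := Nat.dvd_gcd h1 h2
      rwa [hFr.gcd_eq_one] at this
    exact orderOf_eq_one_iff.1 (Nat.dvd_one.1 h3)
  have hshift : ∀ g ∈ F, ∀ v : V, ∏ f : F, a f (a g v) = ∏ f : F, a f v := by
    intro g hg v
    rw [← Equiv.prod_comp (Equiv.mulRight (⟨g, hg⟩ : F)) (fun f : F => a f v)]
    refine Finset.prod_congr rfl (fun f _ => ?_)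
    show a f (a g v) = a ((f : G) * g) v
    rw [map_mul]; rfl
  have hw : ∏ f : F, a f w = 1 := by
    have h1 : ∀ f : F, a f w = (a f ⟨v0, hv0⟩)⁻¹ * a f (a f0 ⟨v0, hv0⟩) := by
      intro f
      show a f ((⟨v0, hv0⟩ : V)⁻¹ * a f0 ⟨v0, hv0⟩) = _
      rw [map_mul, map_inv]
    rw [Finset.prod_congr rfl (fun f _ => h1 f), Finset.prod_mul_distrib, Finset.prod_inv_distrib,
      hshift f0 hf0, inv_mul_cancel]
  obtain ⟨f1, hf1, hz⟩ := norm_ne_one a F h p hp.pos hF' hfix w hw (fun h1 => hw1 (hcop w h1))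
  set w' : V := a f1 w with hw'
  have hw'1 : ∏ f : F, a f w' = 1 := by rw [hw', hshift f1 hf1]; exact hw
  set z : V := ∏ i ∈ Finset.range p, a (h ^ i) w' with hzdef
  -- `h` fixes `z`
  have hhpV : ∀ v : V, a (h ^ p) v = v := by
    intro v
    apply Subtype.ext
    rw [ha, hVc _ hhp _ v.2]
    group
  have hzh : a h z = z := by
    have h1 : a h z = ∏ i ∈ Finset.range p, a (h ^ (i + 1)) w' := by
      rw [hzdef, map_prod]
      refine Finset.prod_congr rfl (fun i _ => ?_)
      rw [pow_succ', map_mul]; rfl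
    have h2 := Finset.prod_range_succ' (fun i => a (h ^ i) w') p
    have h3 := Finset.prod_range_succ (fun i => a (h ^ i) w') p
    rw [h1]
    have h4 : (∏ i ∈ Finset.range p, a (h ^ (i + 1)) w') * w' = z * w' := by
      have h5 : a (h ^ 0) w' = w' := by rw [pow_zero, map_one]; rfl
      rw [h5] at h2
      rw [hhpV w'] at h3
      exact h2.symm.trans h3
    exact mul_right_cancel h4
  have hzcomm : Commute h (z : G) := by
    have h1 := congrArg (fun x : V => (x : G)) hzh
    simp only [ha] at h1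
    rw [mul_inv_eq_iff_eq_mul] at h1
    exact h1
  have hzr : orderOf (z : G) = r := by
    rw [Subgroup.orderOf_coe]
    exact orderOf_eq_prime (hVpow z) hz
  have hh1 : h ∉ V := by simpa using hh 1 one_pos hp.one_lt
  refine ⟨fun hrp => ?_, fun hrp => ?_⟩
  · -- `r ≠ p`
    have h1 : (h ^ r) ^ p = 1 := by
      rw [← pow_mul, mul_comm, pow_mul]
      exact hVr _ hhp
    have h2 : h ^ r ≠ 1 := by
      intro h3
      -- `h ∈ V` since `gcd (r, p) = 1`
      have h4 : h ^ r ∈ V := by rw [h3]; exact V.one_mem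
      have h5 : (r.gcd p) = 1 := (Nat.coprime_primes hr hp).2 hrp
      apply hh1
      have h6 : h ^ ((r.gcd p : ℕ) : ℤ) ∈ V := by
        rw [Nat.gcd_eq_gcd_ab, zpow_add, zpow_mul, zpow_mul, zpow_natCast, zpow_natCast]
        exact V.mul_mem (V.zpow_mem h4 _) (V.zpow_mem hhp _)
      rw [h5] at h6
      simpa using h6
    have h3 : orderOf (h ^ r) = p := orderOf_eq_prime h1 h2
    refine ⟨h ^ r * z, ?_⟩
    have h4 : Commute (h ^ r) (z : G) := hzcomm.pow_left r
    rw [h4.orderOf_mul_eq_mul_orderOf_of_coprime (by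
      rw [h3, hzr]; exact (Nat.coprime_primes hp hr).2 (Ne.symm hrp)), h3, hzr]
  · -- `r = p`
    subst hrp
    have h1 : ((w' : G) * h) ^ r = (z : G) * h ^ r := mul_pow_eq V hVc w' h r
    have h2 : (z : G) * h ^ r ≠ 1 := by
      intro h3
      apply hz
      show z = 1
      -- `h ^ r` centralises `F`
      have h4 : ∀ f : F, a f ⟨h ^ r, hhp⟩ = ⟨h ^ r, hhp⟩ := by
        intro f
        apply Subtype.ext
        rw [ha]
        show (f : G) * h ^ r * (f : G)⁻¹ = h ^ r
        have h5 : ∀ n : ℕ, h ^ n * (f : G) * (h ^ n)⁻¹ ∈ F := by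
          intro n
          induction n with
          | zero => simp
          | succ n ih =>
            have h6 := hF _ ih
            have h7 : h ^ (n + 1) * (f : G) * (h ^ (n + 1))⁻¹ = h * (h ^ n * f * (h ^ n)⁻¹) * h⁻¹ := by
              rw [pow_succ']; group
            rw [h7]; exact h6
        have h6 : h ^ r * (f : G) * (h ^ r)⁻¹ * (f : G)⁻¹ ∈ F ⊓ V := by
          refine ⟨F.mul_mem (h5 r) (F.inv_mem f.2), ?_⟩
          have h7 : h ^ r * (f : G) * (h ^ r)⁻¹ * (f : G)⁻¹ = h ^ r * ((f : G) * (h ^ r)⁻¹ * (f : G)⁻¹) := by group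
          rw [h7]
          exact V.mul_mem hhp ((inferInstance : V.Normal).conj_mem _ (V.inv_mem hhp) _)
        rw [hFV, Subgroup.mem_bot] at h6
        have h8 : h ^ r * (f : G) = f * h ^ r := by
          have h9 : h ^ r * (f : G) * (h ^ r)⁻¹ * (f : G)⁻¹ * (f * h ^ r) = f * h ^ r := by rw [h6, one_mul]
          calc h ^ r * (f : G) = h ^ r * (f : G) * (h ^ r)⁻¹ * (f : G)⁻¹ * (f * h ^ r) := by group
            _ = f * h ^ r := h9
        rw [← h8]; group
      have h5 : z = (⟨h ^ r, hhp⟩ : V)⁻¹ := by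
        apply Subtype.ext
        show (z : G) = (h ^ r)⁻¹
        exact eq_inv_of_mul_eq_one_left h3
      have h6 : ∀ f : F, a f z = z := by
        intro f
        rw [h5, map_inv, h4]
      have h7 : ∏ f : F, a f z = 1 := by
        have h8 : ∀ f : F, a f z = ∏ i ∈ Finset.range r, a ((f : G) * h ^ i) w' := by
          intro f
          rw [hzdef, map_prod]
          refine Finset.prod_congr rfl (fun i _ => ?_)
          rw [map_mul]; rfl
        rw [Finset.prod_congr rfl (fun f _ => h8 f), Finset.prod_comm]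
        apply Finset.prod_eq_one
        intro i hi
        clear hi
        -- conjugation by `h ^ i` permutes `F`
        have h9 : ∀ f ∈ F, (h ^ i)⁻¹ * f * h ^ i ∈ F := by
          intro f hf
          clear_value z
          induction i with
          | zero => simpa using hf
          | succ i ih =>
            have h10 := hF' _ ih
            have h11 : (h ^ (i + 1))⁻¹ * f * h ^ (i + 1) = h⁻¹ * ((h ^ i)⁻¹ * f * h ^ i) * h := by
              rw [pow_succ]; group
            rw [h11]; exact h10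
        let φ : F → F := fun f => ⟨(h ^ i)⁻¹ * f * h ^ i, h9 f f.2⟩
        have hφ : Function.Injective φ := by
          intro f g hfg
          have h10 : (h ^ i)⁻¹ * (f : G) * h ^ i = (h ^ i)⁻¹ * (g : G) * h ^ i := congrArg Subtype.val hfg
          apply Subtype.ext
          simpa using h10
        have hbij : Function.Bijective φ := Finite.injective_iff_bijective.1 hφ
        have h10 : ∀ f : F, a ((f : G) * h ^ i) w' = a (h ^ i) (a (φ f : G) w') := by
          intro f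
          have : (f : G) * h ^ i = h ^ i * (φ f : G) := by
            show (f : G) * h ^ i = h ^ i * ((h ^ i)⁻¹ * f * h ^ i)
            group
          rw [this, map_mul]; rfl
        rw [Finset.prod_congr rfl (fun f _ => h10 f), ← map_prod,
          hbij.prod_comp (fun f : F => a (f : G) w'), hw'1, map_one]
      apply hcop z
      rw [← h7, Finset.prod_congr rfl (fun f _ => h6 f), Finset.prod_const, Finset.card_univ,
        Nat.card_eq_fintype_card]
    refine ⟨(w' : G) * h, ?_⟩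
    have h3 : ((w' : G) * h) ^ (r ^ (1 + 1)) = 1 := by
      rw [pow_succ, pow_one, pow_mul, h1]
      exact hVr _ (V.mul_mem z.2 hhp)
    have h4 : ¬ ((w' : G) * h) ^ (r ^ 1) = 1 := by rw [pow_one, h1]; exact h2
    rw [orderOf_eq_prime_pow h4 h3]; ring

/-- Lifting of a `2`-subgroup `E` of `G ⧸ V` and of an element normalising it (`V` of odd order). -/
theorem exists_lift {G : Type*} [Group G] [Finite G] (V : Subgroup G) [V.Normal] (hV2 : ¬ 2 ∣ Nat.card V)
    (E : Subgroup (G ⧸ V)) (hE : IsPGroup 2 E) (y : G ⧸ V) (hy : ∀ e ∈ E, y * e * y⁻¹ ∈ E) :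
    ∃ F : Subgroup G, F.map (QuotientGroup.mk' V) = E ∧ F ⊓ V = ⊥ ∧ IsPGroup 2 F ∧
      ∃ h : G, (h : G ⧸ V) = y ∧ ∀ f ∈ F, h * f * h⁻¹ ∈ F := by
  classical
  haveI : Fact (Nat.Prime 2) := ⟨Nat.prime_two⟩
  set X : Subgroup G := E.comap (QuotientGroup.mk' V) with hX
  have hVX : V ≤ X := by
    intro v hv
    show (v : G ⧸ V) ∈ E
    rw [(QuotientGroup.eq_one_iff v).2 hv]; exact E.one_mem
  have hXmap : X.map (QuotientGroup.mk' V) = E :=
    Subgroup.map_comap_eq_self_of_surjective (QuotientGroup.mk'_surjective V) E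
  obtain ⟨P⟩ : Nonempty (Sylow 2 X) := inferInstance
  set F : Subgroup G := (P : Subgroup X).map X.subtype with hF
  have hF2 : IsPGroup 2 F := P.2.map _
  have hFX : F ≤ X := Subgroup.map_subtype_le _
  have hFV : F ⊓ V = ⊥ := by
    rw [eq_bot_iff]
    intro x hx
    rw [Subgroup.mem_bot]
    by_contra hx1
    obtain ⟨k, hk⟩ := (IsPGroup.iff_orderOf.1 hF2) ⟨x, hx.1⟩
    rw [Subgroup.orderOf_mk] at hk
    have hk0 : k ≠ 0 := by
      rintro rfl
      rw [pow_zero, orderOf_eq_one_iff] at hk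
      exact hx1 hk
    apply hV2
    have h1 : orderOf x ∣ Nat.card V := by
      rw [← Subgroup.orderOf_mk x hx.2]; exact orderOf_dvd_natCard _
    exact (dvd_pow_self 2 hk0).trans (hk ▸ h1)
  have hEc : Nat.card X = Nat.card E * Nat.card V := by
    have h1 := Subgroup.card_eq_card_quotient_mul_card_subgroup (V.subgroupOf X)
    have h2 : Nat.card (V.subgroupOf X) = Nat.card V := by
      rw [Nat.card_congr (Subgroup.subgroupOfEquivOfLe hVX).toEquiv]
    have h3 : Nat.card (X ⧸ V.subgroupOf X) = Nat.card E := by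
      rw [← hXmap]
      have h4 : (V.subgroupOf X) = ((QuotientGroup.mk' V).comp X.subtype).ker := by
        rw [← MonoidHom.comap_ker, QuotientGroup.ker_mk']; rfl
      have h5 : ((QuotientGroup.mk' V).comp X.subtype).range = X.map (QuotientGroup.mk' V) := by
        rw [MonoidHom.range_comp, Subgroup.range_subtype]
      rw [← h5]
      rw [Nat.card_congr (QuotientGroup.quotientMulEquivOfEq h4).toEquiv]
      exact Nat.card_congr (QuotientGroup.quotientKerEquivRange _).toEquiv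
    rw [h1, h2, h3]
  obtain ⟨k, hk⟩ := IsPGroup.iff_card.1 hE
  have hFc : Nat.card F = Nat.card E := by
    have h1 : Nat.card F = Nat.card P := Subgroup.card_map_of_injective X.subtype_injective
    rw [h1, P.card_eq_multiplicity, hEc, hk]
    have h2 : (2 ^ k * Nat.card V).factorization 2 = k := by
      rw [Nat.factorization_mul (by positivity) Nat.card_pos.ne', Finsupp.add_apply,
        Nat.factorization_eq_zero_of_not_dvd hV2, Nat.Prime.factorization_pow Nat.prime_two]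
      simp
    rw [h2]
  have hFmap : F.map (QuotientGroup.mk' V) = E := by
    apply Subgroup.eq_of_le_of_card_ge
    · rw [← hXmap]; exact Subgroup.map_mono hFX
    · have h1 : Nat.card (F.map (QuotientGroup.mk' V)) = Nat.card F := by
        have hinj : Function.Injective ((QuotientGroup.mk' V).comp F.subtype) := by
          rw [injective_iff_map_eq_one]
          intro x hx
          have h2 : (x : G) ∈ F ⊓ V := ⟨x.2, (QuotientGroup.eq_one_iff _).1 hx⟩
          rw [hFV, Subgroup.mem_bot] at h2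
          exact Subtype.ext h2
        have h5 : ((QuotientGroup.mk' V).comp F.subtype).range = F.map (QuotientGroup.mk' V) := by
          rw [MonoidHom.range_comp, Subgroup.range_subtype]
        rw [← h5]
        exact (Nat.card_congr (MonoidHom.ofInjective hinj).toEquiv).symm
      rw [h1, hFc]
  refine ⟨F, hFmap, hFV, hF2, ?_⟩
  obtain ⟨y', rfl⟩ := QuotientGroup.mk_surjective y
  -- conjugation by `y'` on `X`
  have hXle : X.map (MulAut.conj y').toMonoidHom ≤ X := by
    rintro _ ⟨x, hx, rfl⟩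
    show ((y' * x * y'⁻¹ : G) : G ⧸ V) ∈ E
    rw [QuotientGroup.mk_mul, QuotientGroup.mk_mul, QuotientGroup.mk_inv]
    exact hy _ hx
  have hXeq : X.map (MulAut.conj y').toMonoidHom = X := by
    apply Subgroup.eq_of_le_of_card_ge hXle
    rw [Subgroup.card_map_of_injective (MulAut.conj y').injective]
  let φ : MulAut X := (((MulAut.conj y').subgroupMap X).trans (MulEquiv.subgroupCongr hXeq) : X ≃* X)
  have hφ : ∀ x : X, ((φ x : X) : G) = y' * x * y'⁻¹ := fun x => rfl
  obtain ⟨x, hx⟩ := MulAction.exists_smul_eq X (φ • P) P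
  -- `x y'` normalises `F`
  have hxF : ∀ f ∈ F, ((x : G) * y') * f * ((x : G) * y')⁻¹ ∈ F := by
    rintro _ ⟨f, hf, rfl⟩
    have h1 : x * φ f * x⁻¹ ∈ (P : Subgroup X) := by
      have h2 : φ f ∈ ((φ • P : Sylow 2 X) : Subgroup X) := by
        show φ f ∈ (φ • (P : Subgroup X))
        exact Subgroup.smul_mem_pointwise_smul f φ _ hf
      have h3 : x * φ f * x⁻¹ ∈ ((x • (φ • P) : Sylow 2 X) : Subgroup X) := by
        show x * φ f * x⁻¹ ∈ (MulAut.conj x • ((φ • P : Sylow 2 X) : Subgroup X))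
        exact Subgroup.smul_mem_pointwise_smul (φ f) (MulAut.conj x) _ h2
      rw [hx] at h3
      exact h3
    refine ⟨_, h1, ?_⟩
    show ((x * φ f * x⁻¹ : X) : G) = _
    rw [Subgroup.coe_mul, Subgroup.coe_mul, hφ, Subgroup.coe_inv]
    show (x : G) * (y' * f * y'⁻¹) * (x : G)⁻¹ = (x * y') * f * (x * y')⁻¹
    group
  have hxE : ((x : G) : G ⧸ V) ∈ E := x.2
  rw [← hFmap] at hxE
  obtain ⟨f, hf, hfx⟩ := hxE
  refine ⟨f⁻¹ * (x * y'), ?_, fun g hg => ?_⟩
  · have h1 : ((f : G) : G ⧸ V) = ((x : G) : G ⧸ V) := hfx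
    rw [QuotientGroup.mk_mul, QuotientGroup.mk_mul, QuotientGroup.mk_inv, h1, inv_mul_cancel_left]
  · have h1 := hxF g hg
    have h2 : f⁻¹ * (x * y') * g * (f⁻¹ * (x * y'))⁻¹ = f⁻¹ * ((x * y') * g * (x * y')⁻¹) * f := by group
    rw [h2]
    exact F.mul_mem (F.mul_mem (F.inv_mem hf) h1) hf

/-- **Main lemma.** `V` normal abelian of exponent `r` (odd prime), `E ≤ G ⧸ V` a 2-group on which the element
`y` of prime order `p` acts without fixed points, and `E` does not centralise `V`. -/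
theorem exists_order {G : Type*} [Group G] [Finite G] (V : Subgroup G) [V.Normal]
    (hVc : ∀ v ∈ V, ∀ w ∈ V, v * w = w * v) {r : ℕ} (hr : r.Prime) (hr2 : r ≠ 2) (hVr : ∀ v ∈ V, v ^ r = 1)
    (E : Subgroup (G ⧸ V)) (hE : IsPGroup 2 E) (y : G ⧸ V) (hy : ∀ e ∈ E, y * e * y⁻¹ ∈ E) {p : ℕ} (hp : p.Prime)
    (hyp : orderOf y = p) (hfix : ∀ e ∈ E, y * e * y⁻¹ = e → e = 1)
    (hnc : ∃ x : G, (x : G ⧸ V) ∈ E ∧ ∃ v ∈ V, x * v ≠ v * x) :
    (r ≠ p → ∃ g : G, orderOf g = p * r) ∧ (r = p → ∃ g : G, orderOf g = r * r) := by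
  classical
  haveI := Fact.mk hr
  haveI : Fact (Nat.Prime 2) := ⟨Nat.prime_two⟩
  have hVp : IsPGroup r V := fun v => ⟨1, by
    rw [pow_one]; exact Subtype.ext (hVr v v.2)⟩
  have hV2 : ¬ 2 ∣ Nat.card V := by
    intro h2
    obtain ⟨n, hn⟩ := IsPGroup.iff_card.1 hVp
    rw [hn] at h2
    exact hr2 ((Nat.prime_dvd_prime_iff_eq Nat.prime_two hr).1 (Nat.prime_two.dvd_of_dvd_pow h2)).symm
  obtain ⟨F, hFmap, hFV, hF2, h, hhy, hF⟩ := exists_lift V hV2 E hE y hy
  have hF' : ∀ f ∈ F, h⁻¹ * f * h ∈ F := by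
    -- a finite subgroup
    have h1 : F.map (MulAut.conj h).toMonoidHom = F := by
      apply Subgroup.eq_of_le_of_card_ge
      · rintro _ ⟨f, hf, rfl⟩
        exact hF f hf
      · rw [Subgroup.card_map_of_injective (MulAut.conj h).injective]
    intro f hf
    rw [← h1] at hf
    obtain ⟨g, hg, rfl⟩ := hf
    have : h⁻¹ * ((MulAut.conj h).toMonoidHom g) * h = g := by
      show h⁻¹ * (h * g * h⁻¹) * h = g
      group
    rw [this]; exact hg
  have hFr : (Nat.card F).Coprime r := by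
    obtain ⟨n, hn⟩ := IsPGroup.iff_card.1 hF2
    rw [hn]
    exact Nat.Coprime.pow_left _ ((Nat.coprime_primes Nat.prime_two hr).2 hr2.symm)
  have hinj : ∀ f ∈ F, (f : G ⧸ V) = 1 → f = 1 := by
    intro f hf h1
    have h2 : f ∈ F ⊓ V := ⟨hf, (QuotientGroup.eq_one_iff _).1 h1⟩
    rwa [hFV, Subgroup.mem_bot] at h2
  refine exists_of_lift V hVc hr hVr F hFr hFV hp hF hF' ?_ ?_ ?_ ?_
  · -- no fixed points
    intro f hf i hi hip hc
    apply hinj f hf
    have hfE : (f : G ⧸ V) ∈ E := by rw [← hFmap]; exact ⟨f, hf, rfl⟩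
    apply hfix _ hfE
    -- `y` is a power of `y ^ i`
    have h1 : Commute (f : G ⧸ V) (y ^ i) := by
      have h2 : ((f * h ^ i : G) : G ⧸ V) = ((h ^ i * f : G) : G ⧸ V) := congrArg _ hc
      rw [QuotientGroup.mk_mul, QuotientGroup.mk_mul, QuotientGroup.mk_pow, hhy] at h2
      exact h2
    have h3 : Nat.Coprime i p := by
      rw [Nat.coprime_comm]
      exact (Nat.Prime.coprime_iff_not_dvd hp).2 (fun h => absurd (Nat.le_of_dvd hi h) (not_le.2 hip))
    have h4 : Commute (f : G ⧸ V) y := by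
      have h5 : y = (y ^ i) ^ (i.gcdA p) := by
        have h6 : y ^ ((i.gcd p : ℕ) : ℤ) = y := by rw [h3.gcd_eq_one]; simp
        rw [Nat.gcd_eq_gcd_ab, zpow_add, zpow_mul, zpow_mul, zpow_natCast, zpow_natCast, ← hyp,
          pow_orderOf_eq_one, one_zpow, mul_one] at h6
        rw [hyp] at h6
        exact h6.symm
      rw [h5]
      exact h1.zpow_right _
    have h5 : y * f = f * y := h4.symm
    rw [h5]; group
  · rw [← QuotientGroup.eq_one_iff, QuotientGroup.mk_pow, hhy, ← hyp, pow_orderOf_eq_one]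
  · intro i hi hip hV
    rw [← QuotientGroup.eq_one_iff, QuotientGroup.mk_pow, hhy] at hV
    have h1 := orderOf_dvd_of_pow_eq_one hV
    rw [hyp] at h1
    exact absurd (Nat.le_of_dvd hi h1) (not_le.2 hip)
  · obtain ⟨x, hxE, v, hv, hne⟩ := hnc
    rw [← hFmap] at hxE
    obtain ⟨f, hf, hfx⟩ := hxE
    refine ⟨f, hf, v, hv, fun hcom => hne ?_⟩
    have h1 : f⁻¹ * x ∈ V := QuotientGroup.eq.1 (show ((f : G) : G ⧸ V) = x from hfx)
    have h2 : x = f * (f⁻¹ * x) := by group
    rw [h2, mul_assoc, hVc _ h1 _ hv, ← mul_assoc, hcom, mul_assoc]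

end Cfsg.Agent.H514.OrdMod
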