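import Cfsg.Agent.H514.OrdPslConj
import Cfsg.Agent.H514.OrdOdd
import Cfsg.Agent.S2475
import Cfsg.Agent.S0243

/-!
# The groups `PSL(2, q)` and their automorphism groups
-/

set_option autoImplicit false
set_option linter.style.haveILetI false

namespace Cfsg.Agent.H514.OC.Psl2

open Matrix Cfsg.Agent.ClassicalGeometry Subgroup Cfsg.Agent.H493.PG

universe u v

section

variable {F : Type} [Field F] [Fintype F] {p : ℕ} [hp : Fact p.Prime] [CharP F p]

/-- the three numbers -/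
def cls (F : Type) [Fintype F] (p : ℕ) : Fin 3 → ℕ :=
  ![p, (Fintype.card F - 1) / Nat.gcd 2 (Fintype.card F - 1), (Fintype.card F + 1) / Nat.gcd 2 (Fintype.card F - 1)]

theorem mem_range_iff (h4 : 4 ≤ Fintype.card F) {K : Type*} [Group K] (e : K ≃* PSL2 F) {m : ℕ} :
    m ∈ Set.range (fun g : K => orderOf g) ↔ ∃ i, m ∣ cls F p i := by
  have h1 := Cfsg.Agent.S2475.result (F := F) p h4
  have h2 : m ∈ Set.range (fun g : K => orderOf g) ↔
      m ∈ Set.range (orderOf : Matrix.ProjectiveSpecialLinearGroup (Fin 2) F → ℕ) := by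
    constructor
    · rintro ⟨g, rfl⟩
      exact ⟨e g, MulEquiv.orderOf_eq e g⟩
    · rintro ⟨g, rfl⟩
      exact ⟨e.symm g, MulEquiv.orderOf_eq e.symm g⟩
  rw [h2, h1, Set.mem_ofPred_eq]
  constructor
  · rintro (h | h | h)
    · exact ⟨0, h⟩
    · exact ⟨1, h⟩
    · exact ⟨2, h⟩
  · rintro ⟨i, h⟩
    fin_cases i
    · exact Or.inl h
    · exact Or.inr (Or.inl h)
    · exact Or.inr (Or.inr h)

theorem cover (h4 : 4 ≤ Fintype.card F) {K : Type*} [Group K] [Finite K] (e : K ≃* PSL2 F) {r : ℕ} (hr : r.Prime)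
    (hd : r ∣ Nat.card K) : ∃ i, r ∣ cls F p i := by
  haveI := Fact.mk hr
  obtain ⟨g, hg⟩ := exists_prime_orderOf_dvd_card' (G := K) r hd
  exact (mem_range_iff h4 e).1 ⟨g, hg⟩

theorem clique (h4 : 4 ≤ Fintype.card F) {K : Type*} [Group K] [Finite K] (e : K ≃* PSL2 F) (i : Fin 3) {r s : ℕ}
    (hr : r.Prime) (hs : s.Prime) (h1 : r ∣ cls F p i) (h2 : s ∣ cls F p i) : Conn K r s := by
  by_cases hrs : r = s
  · rw [hrs]; exact Conn.refl s
  · have h3 : r * s ∣ cls F p i := ((Nat.coprime_primes hr hs).2 hrs).mul_dvd_of_dvd_of_dvd h1 h2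
    obtain ⟨g, hg⟩ := (mem_range_iff (p := p) h4 e).2 ⟨i, h3⟩
    exact Rel.conn ⟨hr, hs, hrs, g, hg⟩

omit hp [CharP F p] in
theorem few_four (p : ℕ) [Fact p.Prime] [CharP F p] (h4 : 4 ≤ Fintype.card F) {K : Type*} [Group K] [Finite K]
    (e : K ≃* PSL2 F) : Few 4 K :=
  few_of_cliques 3 (fun i r => r ∣ cls F p i) (fun _ hr hd => cover h4 e hr hd)
    (fun i _ _ hr hs _ _ h1 h2 => clique h4 e i hr hs h1 h2)

/-- even characteristic -/
theorem cls_even (h2 : p = 2) : cls F p = ![2, Fintype.card F - 1, Fintype.card F + 1] ∧ Odd (Fintype.card F - 1) ∧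
    Odd (Fintype.card F + 1) := by
  subst h2
  obtain ⟨n, hn, hc⟩ := FiniteField.card F 2
  have hn0 : (n : ℕ) ≠ 0 := n.ne_zero
  have hev : Even (Fintype.card F) := by
    rw [hc]; exact (Nat.even_pow.2 ⟨even_two, hn0⟩)
  have hq1 : 1 < Fintype.card F := Fintype.one_lt_card
  have hodd : Odd (Fintype.card F - 1) := Nat.Even.sub_odd hq1.le hev odd_one
  have hg : Nat.gcd 2 (Fintype.card F - 1) = 1 := by
    rw [Nat.Coprime.gcd_eq_one]
    exact (Nat.coprime_two_left).2 hodd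
  refine ⟨?_, hodd, hev.add_one⟩
  unfold cls
  rw [hg, Nat.div_one, Nat.div_one]

omit hp in
/-- odd characteristic -/
theorem cls_odd (h2 : p ≠ 2) : ∃ u : ℕ, Fintype.card F = 2 * u + 1 ∧ cls F p = ![p, u, u + 1] ∧
    Nat.gcd 2 (Fintype.card F - 1) = 2 := by
  have hrc : ringChar F ≠ 2 := by
    intro h
    exact h2 ((ringChar.eq_iff.1 h).eq F ‹CharP F p›).symm
  obtain ⟨u, hu⟩ : Odd (Fintype.card F) := Nat.odd_iff.2 (FiniteField.odd_card_of_char_ne_two hrc)
  have hg : Nat.gcd 2 (Fintype.card F - 1) = 2 := by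
    rw [hu, Nat.add_sub_cancel]
    exact Nat.gcd_eq_left (Dvd.intro _ rfl)
  refine ⟨u, hu, ?_, hg⟩
  unfold cls
  rw [hg, hu, Nat.add_sub_cancel, Nat.mul_div_cancel_left _ (by norm_num),
    show 2 * u + 1 + 1 = 2 * (u + 1) by ring, Nat.mul_div_cancel_left _ (by norm_num)]

omit hp [CharP F p] in
theorem two_mem (p : ℕ) [Fact p.Prime] [CharP F p] (h4 : 4 ≤ Fintype.card F) {K : Type*} [Group K]
    (e : K ≃* PSL2 F) : ∃ x : K, orderOf x = 2 := by
  apply (mem_range_iff (p := p) h4 e).2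
  by_cases h2 : p = 2
  · exact ⟨0, by rw [(cls_even h2).1]; exact dvd_rfl⟩
  · obtain ⟨u, hu, hc, -⟩ := cls_odd (F := F) h2
    rw [hc]
    rcases Nat.even_or_odd u with h | h
    · exact ⟨1, h.two_dvd⟩
    · exact ⟨2, h.add_one.two_dvd⟩

theorem not_eight_dvd (h4 : 4 ≤ Fintype.card F) {K : Type*} [Group K] [Finite K] (e : K ≃* PSL2 F)
    (hot : OtS K = ∅) (h2 : p ≠ 2) : ¬ 8 ∣ Nat.card K := by
  obtain ⟨u, hu, hc, hg⟩ := cls_odd (F := F) h2
  have hno : ∀ i, ¬ 4 ∣ cls F p i := by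
    intro i hi
    obtain ⟨g, hg⟩ := (mem_range_iff (p := p) h4 e).2 ⟨i, hi⟩
    exact not_sq_dvd hot g Nat.prime_two (by rw [show (2 * 2 : ℕ) = 4 by norm_num]; exact hg ▸ dvd_rfl)
  rw [hc] at hno
  have h5 : ¬ 4 ∣ u := hno 1
  have h6 : ¬ 4 ∣ u + 1 := hno 2
  have h7 := S0243.result (F := F) rfl 2 le_rfl
  rw [hg, Fin.prod_univ_two, ← Nat.card_congr e.toEquiv] at h7
  simp only [Fin.val_zero, Fin.val_one, pow_zero, pow_one] at h7
  have hu0 : 0 < u := by omega
  have h8 : Nat.card K = Fintype.card F * (2 * (u * (u + 1))) := by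
    rw [hu] at h7 ⊢
    have h9 : (2 * u + 1) ^ 2 - 1 = 4 * (u * (u + 1)) := by
      have : (2 * u + 1) ^ 2 = 4 * (u * (u + 1)) + 1 := by ring
      omega
    have h10 : (2 * u + 1) ^ 2 - (2 * u + 1) = (2 * u + 1) * (2 * u) := by
      have : (2 * u + 1) ^ 2 = (2 * u + 1) * (2 * u) + (2 * u + 1) := by ring
      omega
    rw [h9, h10, Nat.add_sub_cancel] at h7
    have h11 : (4 * u) * Nat.card K = (4 * u) * ((2 * u + 1) * (2 * (u * (u + 1)))) := by
      linarith
    exact Nat.eq_of_mul_eq_mul_left (by omega) h11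
  intro h9
  rw [h8, hu] at h9
  have h10 : Nat.Coprime 8 (2 * u + 1) := by
    rw [show (8 : ℕ) = 2 ^ 3 by norm_num]
    exact Nat.Coprime.pow_left _ (Nat.coprime_two_left.2 ⟨u, rfl⟩)
  have h11 := h10.dvd_of_dvd_mul_left h9
  have h12 : 4 ∣ u * (u + 1) := by
    obtain ⟨c, hc⟩ := h11
    exact ⟨c, by omega⟩
  rcases Nat.even_or_odd u with h | h
  · have : Nat.Coprime 4 (u + 1) := by
      rw [show (4 : ℕ) = 2 ^ 2 by norm_num]
      exact Nat.Coprime.pow_left _ (Nat.coprime_two_left.2 h.add_one)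
    exact h5 (this.dvd_of_dvd_mul_right h12)
  · have : Nat.Coprime 4 u := by
      rw [show (4 : ℕ) = 2 ^ 2 by norm_num]
      exact Nat.Coprime.pow_left _ (Nat.coprime_two_left.2 h)
    exact h6 (this.dvd_of_dvd_mul_left h12)

omit hp [CharP F p] in
/-- **Modules for `PSL(2, q)`.** -/
theorem modOK (p : ℕ) [Fact p.Prime] [CharP F p] (h4 : 4 ≤ Fintype.card F) {K : Type v} [Group K] [Finite K]
    [IsSimpleGroup K] (hna : ¬ IsMulCommutative K) (e : K ≃* PSL2 F) (hot : OtS K = ∅) : ModOK.{u, v} K := by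
  classical
  haveI : Fact (Nat.Prime 2) := ⟨Nat.prime_two⟩
  have h2 := two_mem p h4 e
  have hno4 : ∀ x : K, orderOf x ≠ 4 := fun x hx =>
    not_sq_dvd hot x Nat.prime_two (by rw [hx])
  refine ⟨?_, fun G _ _ V _ _ _ hVr hCV he hcos => two_of_no_four h2 hno4 G V hVr hCV he hcos⟩
  have h2d : 2 ∣ Nat.card K := by
    obtain ⟨x, hx⟩ := h2
    rw [← hx]; exact orderOf_dvd_natCard x
  obtain ⟨S⟩ : Nonempty (Sylow 2 K) := inferInstance
  obtain ⟨y, l, hl, hl2, hy, hyS, hnc⟩ := exists_burnside hna h2d hot S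
  have hsq := sq_eq_one hot S.2
  obtain ⟨E, hES, hE1, hyE, hfix, hlE⟩ := act_of_normalizer (S : Subgroup K) hsq hl hl2 hy hyS hnc
  have hE2 : IsPGroup 2 E := S.2.to_le hES
  refine ⟨E, y, l, hE2, hE1, hl, hl2, hy, hyE, hfix, ?_⟩
  intro r hr hr2 hrd h2r hlr hrr
  have hrl : r ≠ l := by
    rintro rfl
    obtain ⟨g, hg⟩ := hrr rfl
    exact not_sq_dvd hot g hr (by rw [hg])
  by_cases hp2 : p = 2
  · obtain ⟨i, hi⟩ := (mem_range_iff (p := p) h4 e).1 h2r
    obtain ⟨hc, ho1, ho2⟩ := cls_even (F := F) hp2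
    rw [hc] at hi
    fin_cases i
    · have h5 : 2 * r ≤ 2 := Nat.le_of_dvd (by norm_num) hi
      have := hr.two_le
      omega
    · exact (Nat.not_even_iff_odd.2 ho1) (even_iff_two_dvd.2 ((Dvd.intro _ rfl).trans hi))
    · exact (Nat.not_even_iff_odd.2 ho2) (even_iff_two_dvd.2 ((Dvd.intro _ rfl).trans hi))
  · -- `l = 3`
    have h8 := not_eight_dvd (p := p) h4 e hot hp2
    have hl3 : l = 3 := by
      obtain ⟨j, hj⟩ := IsPGroup.iff_card.1 hE2
      have hj2 : j ≤ 2 := by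
        by_contra hcon
        apply h8
        have h9 : 2 ^ 3 ∣ Nat.card E := by rw [hj]; exact pow_dvd_pow 2 (by omega)
        exact (by norm_num : (8 : ℕ) ∣ 2 ^ 3).trans (h9.trans E.card_subgroup_dvd_card)
      have hj0 : j ≠ 0 := by
        rintro rfl
        rw [pow_zero, Subgroup.card_eq_one] at hj
        exact hE1 hj
      rw [hj] at hlE
      have h9 : j = 1 ∨ j = 2 := by omega
      rcases h9 with rfl | rfl
      · exact absurd (Nat.dvd_one.1 hlE) hl.ne_one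
      · exact (Nat.prime_dvd_prime_iff_eq hl Nat.prime_three).1 hlE
    subst hl3
    obtain ⟨u, hu, hc, hg⟩ := cls_odd (F := F) hp2
    obtain ⟨i, hi⟩ := (mem_range_iff (p := p) h4 e).1 h2r
    obtain ⟨j, hj⟩ := (mem_range_iff (p := p) h4 e).1 (hlr hrl)
    rw [hc] at hi hj
    have hpp := (Fact.out : p.Prime)
    have hcop : Nat.Coprime u (u + 1) := by simp
    have key : ∀ n : ℕ, (∃ i, n = (![p, u, u + 1] : Fin 3 → ℕ) i) → 2 * r ∣ n → 3 * r ∣ n → False := by
      rintro n ⟨i, hn⟩ h5 h6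
      have h7 : 2 * 3 ∣ n := by
        exact (by norm_num : Nat.Coprime 2 3).mul_dvd_of_dvd_of_dvd ((Dvd.intro _ rfl).trans h5) ((Dvd.intro _ rfl).trans h6)
      have h9 : (2 * 3).Coprime r := by
        rw [Nat.coprime_comm]
        exact ((Nat.coprime_primes hr Nat.prime_two).2 hr2).mul_right ((Nat.coprime_primes hr Nat.prime_three).2 hrl)
      have h10 : 2 * 3 * r ∣ n := h9.mul_dvd_of_dvd_of_dvd h7 ((Dvd.intro_left _ rfl).trans h5)
      have h10' : 2 * 3 * r ∣ cls F p i := by rw [hc, ← hn]; exact h10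
      obtain ⟨g, hg⟩ := (mem_range_iff (p := p) h4 e).2 ⟨i, h10'⟩
      have h11 : 2 * 3 * r ∈ OtS K := by
        refine ⟨⟨⟨g, hg⟩, by have := hr.two_le; omega, Nat.not_prime_mul (by norm_num) hr.ne_one⟩, ?_⟩
        rintro ⟨a, b, ha, hb, hab, h12⟩
        have h13 : 2 ∣ a * b := by rw [← h12]; exact ⟨3 * r, by ring⟩
        have h14 : ∀ a b : ℕ, b.Prime → 2 * 3 * r = a * b → a = 2 → False := by
          rintro a b hb h12 rfl
          have h15 : 3 * r = b := by
            have : 2 * (3 * r) = 2 * b := by rw [← h12]; ring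
            exact Nat.eq_of_mul_eq_mul_left (by norm_num) this
          rw [← h15] at hb
          exact Nat.not_prime_mul (by norm_num) hr.ne_one hb
        rcases Nat.prime_two.dvd_mul.1 h13 with h | h
        · exact h14 a b hb h12 ((Nat.prime_dvd_prime_iff_eq Nat.prime_two ha).1 h).symm
        · exact h14 b a ha (by rw [h12, mul_comm]) ((Nat.prime_dvd_prime_iff_eq Nat.prime_two hb).1 h).symm
      rw [hot] at h11
      exact h11
    have hnp : ∀ a : ℕ, 2 ≤ a → a * r ∣ p → False := by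
      intro a ha h5
      rcases (Nat.dvd_prime hpp).1 h5 with h | h
      · have := hr.two_le
        nlinarith
      · rw [← h] at hpp
        exact Nat.not_prime_mul (by omega) hr.ne_one hpp
    have hrdi : r ∣ (![p, u, u + 1] : Fin 3 → ℕ) i := (Dvd.intro_left _ rfl).trans hi
    have hrdj : r ∣ (![p, u, u + 1] : Fin 3 → ℕ) j := (Dvd.intro_left _ rfl).trans hj
    have hcc : r ∣ u → r ∣ u + 1 → False := fun h5 h6 => by
      have h7 : r ∣ 1 := (Nat.dvd_add_right h5).1 h6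
      exact hr.ne_one (Nat.dvd_one.1 h7)
    fin_cases i <;> fin_cases j
    · exact hnp 2 le_rfl hi
    · exact hnp 2 le_rfl hi
    · exact hnp 2 le_rfl hi
    · exact hnp 3 (by norm_num) hj
    · exact key u ⟨1, rfl⟩ hi hj
    · exact hcc hrdi hrdj
    · exact hnp 3 (by norm_num) hj
    · exact hcc hrdj hrdi
    · exact key (u + 1) ⟨2, rfl⟩ hi hj

/-- Fusion in groups with a normal subgroup `PSL(2, q)`. -/
theorem fused {G : Type*} [Group G] [Finite G] (S : Subgroup G) [hS : S.Normal] (e : S ≃* PSL2 F) {u : G} (hu : u ∈ S)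
    {τ : F} (hL : ∀ x : S, orderOf x = orderOf u → Lift τ (e x)) (h : ringChar F = 2 ∨ Odd S.index) :
    ∀ g : G, ∃ s ∈ S, g * u * g⁻¹ = s * u * s⁻¹ := by
  have hmem : ∀ g : G, g * u * g⁻¹ ∈ S := fun g => hS.conj_mem u hu g
  have hord : ∀ g : G, orderOf (⟨g * u * g⁻¹, hmem g⟩ : S) = orderOf u := by
    intro g
    rw [Subgroup.orderOf_mk]
    exact (MulAut.conj g).orderOf_eq u
  have back : ∀ {a b : G} (ha : a ∈ S) (hb : b ∈ S), (∃ m : PSL2 F, e ⟨a, ha⟩ = m * e ⟨b, hb⟩ * m⁻¹) →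
      ∃ s ∈ S, a = s * b * s⁻¹ := by
    rintro a b ha hb ⟨m, hm⟩
    refine ⟨e.symm m, (e.symm m).2, ?_⟩
    have h1 : (⟨a, ha⟩ : S) = e.symm m * ⟨b, hb⟩ * (e.symm m)⁻¹ := by
      apply e.injective
      rw [map_mul, map_mul, map_inv, e.apply_symm_apply]
      exact hm
    exact congrArg Subtype.val h1
  rcases h with h2 | hodd
  · intro g
    have hu' : orderOf (⟨u, hu⟩ : S) = orderOf u := Subgroup.orderOf_mk _ _
    exact back (hmem g) hu (conj_even h2 (hL _ (hord g)) (hL _ hu'))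
  · apply fused_of_two S hodd
    rintro a b c ⟨g1, rfl⟩ ⟨g2, rfl⟩ ⟨g3, rfl⟩
    rcases conj_or (hL _ (hord g1)) (hL _ (hord g2)) (hL _ (hord g3)) with h | h | h
    · exact Or.inl (back (hmem g1) (hmem g2) h)
    · exact Or.inr (Or.inl (back (hmem g2) (hmem g3) h))
    · exact Or.inr (Or.inr (back (hmem g3) (hmem g1) h))

omit hp [CharP F p] in
/-- **Almost simple groups with socle `PSL(2, q)`.** -/
theorem almost_false
    (hinv : ∀ (K : Type u) [Group K] [Finite K] [IsSimpleGroup K], ¬ IsMulCommutative K →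
      ∀ r : ℕ, r.Prime → r ≠ 2 → ¬ r ∣ Nat.card K → ∀ x : MulAut K, x ^ r = 1 → ∃ g : K, orderOf g = 2 ∧ x g = g)
    (p : ℕ) [hp : Fact p.Prime] [CharP F p] (h4 : 4 ≤ Fintype.card F) {G : Type u} [Group G] [Finite G]
    (S : Subgroup G) [hSn : S.Normal] (hSs : IsSimpleGroup S) (hSna : ¬ IsMulCommutative S)
    (hC : centralizer (S : Set G) = ⊥) (htop : S ≠ ⊤) (e : S ≃* PSL2 F) (hot : OtS G = ∅) (hfew : ¬ Few 3 G)
    (hE : ∃ E : Subgroup S, IsKleinFour E) : False := by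
  classical
  have h2S := two_mem p h4 e
  have h2d : 2 ∣ Nat.card S := by
    obtain ⟨x, hx⟩ := h2S
    rw [← hx]; exact orderOf_dvd_natCard x
  have hidx : S.index ≠ 1 := fun h => htop (Subgroup.index_eq_one.1 h)
  obtain ⟨l, hl, hld⟩ := Nat.exists_prime_and_dvd hidx
  -- merging
  have merge : ∀ {i j : Fin 3}, i ≠ j → ∀ {r s : ℕ}, r.Prime → s.Prime → r ∣ cls F p i → s ∣ cls F p j →
      Conn G r s → False := by
    intro i j hij r s hr hs hri hsj hrs
    have hd : ∀ {t : ℕ} {k : Fin 3}, t ∣ cls F p k → t ∣ Nat.card S := by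
      intro t k h
      obtain ⟨g, hg⟩ := (mem_range_iff (p := p) h4 e).2 ⟨k, h⟩
      have hg' : orderOf g = t := hg
      rw [← hg']; exact orderOf_dvd_natCard g
    exact false_of_merge hinv 3 (by norm_num) G S hSs hSna (even_iff_two_dvd.2 h2d) hfew
      (fun i r => r ∣ cls F p i) (fun _ hr hd => cover h4 e hr hd)
      (fun i _ _ hr hs _ _ h1 h2 => clique h4 e i hr hs h1 h2) hij hr hs (hd hri) (hd hsj) hri hsj hrs
  obtain ⟨x2, hx2⟩ := h2S
  have hx2' : orderOf (x2 : G) = 2 := by rw [Subgroup.orderOf_coe, hx2]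
  have f2 : (ringChar F = 2 ∨ Odd S.index) → l ≠ 2 → Rel G l 2 := fun h hne =>
    rel_of_fusion S (fused S e x2.2 (τ := 0) (fun x hx => lift_two (by rw [MulEquiv.orderOf_eq, hx, hx2'])) h) hl hld
      Nat.prime_two hx2' hne
  by_cases hp2 : p = 2
  · subst hp2
    have hr2 : ringChar F = 2 := ringChar.eq F 2
    have h20 : (2 : F) = 0 := CharTwo.two_eq_zero
    obtain ⟨hc, -, -⟩ := cls_even (F := F) (p := 2) rfl
    have h3c : ∃ j : Fin 3, j ≠ 0 ∧ 3 ∣ cls F 2 j := by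
      rw [hc]
      obtain ⟨n, hn, hcc⟩ := FiniteField.card F 2
      have h3 : ¬ 3 ∣ Fintype.card F := by
        rw [hcc]
        intro h
        have := Nat.prime_three.dvd_of_dvd_pow h
        norm_num at this
      have h1 : 3 ∣ Fintype.card F - 1 ∨ 3 ∣ Fintype.card F + 1 := by omega
      rcases h1 with h | h
      · exact ⟨1, by decide, h⟩
      · exact ⟨2, by decide, h⟩
    obtain ⟨j, hj0, hj⟩ := h3c
    obtain ⟨x3, hx3⟩ := (mem_range_iff (p := 2) h4 e).2 ⟨j, hj⟩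
    have hx3' : orderOf (x3 : G) = 3 := by rw [Subgroup.orderOf_coe]; exact hx3
    have f3 : l ≠ 3 → Rel G l 3 := fun hne =>
      rel_of_fusion S (fused S e x3.2 (τ := 1) (fun x hx => lift_three h20 (by rw [MulEquiv.orderOf_eq, hx, hx3']))
        (Or.inl hr2)) hl hld Nat.prime_three hx3' hne
    have hconn : Conn G 2 3 := by
      by_cases hl2 : l = 2
      · subst hl2
        exact (f3 (by norm_num)).conn
      · by_cases hl3 : l = 3
        · subst hl3
          exact (f2 (Or.inl hr2) hl2).symm.conn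
        · exact (f2 (Or.inl hr2) hl2).symm.conn.trans (f3 hl3).conn
    exact merge (i := 0) (j := j) (Ne.symm hj0) Nat.prime_two Nat.prime_three (by rw [hc]; exact dvd_rfl) hj hconn
  · have hE' : ∃ E : Subgroup G, IsKleinFour E := by
      obtain ⟨E, hE⟩ := hE
      have e' : ↥E ≃* ↥(E.map S.subtype) := E.equivMapOfInjective S.subtype Subtype.val_injective
      exact ⟨E.map S.subtype, by rw [← Nat.card_congr e'.toEquiv, hE.card_four], by
        rw [← Monoid.exponent_eq_of_mulEquiv e', hE.exponent_two]⟩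
    have hodd : Odd S.index := (odd_index S hSs hSna hC hot hE').1
    have hl2 : l ≠ 2 := by
      rintro rfl
      exact (Nat.not_even_iff_odd.2 hodd) (even_iff_two_dvd.2 hld)
    obtain ⟨u, hu, hc, hg⟩ := cls_odd (F := F) hp2
    obtain ⟨xp, hxp⟩ := (mem_range_iff (p := p) h4 e).2 ⟨(0 : Fin 3), (dvd_rfl : p ∣ cls F p 0)⟩
    have hxp' : orderOf (xp : G) = p := by rw [Subgroup.orderOf_coe]; exact hxp
    have fp : l ≠ p → Rel G l p := fun hne =>
      rel_of_fusion S (fused S e xp.2 (τ := 2) (fun x hx => lift_char hp2 (by rw [MulEquiv.orderOf_eq, hx, hxp']))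
        (Or.inr hodd)) hl hld hp.out hxp' hne
    have hconn : Conn G p 2 := by
      by_cases hlp : l = p
      · subst hlp
        exact (f2 (Or.inr hodd) hl2).conn
      · exact (fp hlp).symm.conn.trans (f2 (Or.inr hodd) hl2).conn
    have h2c : ∃ j : Fin 3, j ≠ 0 ∧ 2 ∣ cls F p j := by
      rw [hc]
      rcases Nat.even_or_odd u with h | h
      · exact ⟨1, by decide, h.two_dvd⟩
      · exact ⟨2, by decide, h.add_one.two_dvd⟩
    obtain ⟨j, hj0, hj⟩ := h2c
    exact merge (i := 0) (j := j) (Ne.symm hj0) hp.out Nat.prime_two (dvd_rfl : p ∣ cls F p 0) hj hconn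

end

end Cfsg.Agent.H514.OC.Psl2
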