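import Cfsg.Agent.H514.OrdSpor
import Cfsg.Agent.H514.OrdExc
import Cfsg.Agent.H514.OrdJ1
import Cfsg.Agent.H514.OrdPsl2
import Cfsg.Agent.H514.OrdSz
import Cfsg.Agent.H514.OrdL34
import Cfsg.Agent.H493.PGRows2
import Cfsg.Agent.H493.PGRows3
import Cfsg.Agent.S0252
import Cfsg.Agent.S0254
import Cfsg.Agent.S0255
import Cfsg.Agent.S1159
import Cfsg.Agent.H803.RankOneFacts

/-!
# Rows of the classification for the number of components and the special element orders
-/

set_option autoImplicit false
set_option linter.style.haveILetI false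

namespace Cfsg.Agent.H514.OC.Rows

open Cfsg.Agent.H493.PG Cfsg.Agent.H493.PGRows Subgroup Cfsg.Agent.H514.OC Cfsg Cfsg.Agent
open Cfsg.Agent.H514.OC.Spor (ge_of_subset of_dvd mem_four mem_eight two_le_of_eight eight_equiv mem_ot_of_three)

universe u

/-- the two good cases -/
def Good (K : Type u) [Group K] : Prop := Few 4 K ∨ Few (3 + (OtS K).ncard) K

theorem good_of {K : Type u} [Group K] {n m : ℕ} (h : Few n K) (hm : m ≤ (OtS K).ncard) (hn : n ≤ 3 + m) : Good K :=
  Or.inr (OC.Few.mono h (by omega))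

theorem good_of_le {K : Type u} [Group K] {n : ℕ} (h : Few n K) (hn : n ≤ 4) : Good K :=
  Or.inl (OC.Few.mono h hn)

/-! ### Sporadic groups -/

open H94.PG.Sp in
theorem sporadic {K : Type u} [Group K] [Finite K] (h : IsSporadicGroup K) (hJ : ¬ Cfsg.Spor.IsoJ1 K) : Good K := by
  rcases h with h | h | h | h | h | h | h | h | h | h | h | h | h | h | h | h | h | h | h | h | h | h | h | h | h | h
  · exact good_of_le (few_nr (n := 4) [5, 11] (NotCT.Orders.m11 h) (fun r hr hd hR => nr_m11' h hr hd hR) (by simp)) le_rfl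
  · exact good_of_le (few_nr (n := 4) [11] (NotCT.Orders.m12 h) (fun r hr hd hR => nr_m12' h hr hd hR) (by simp)) le_rfl
  · refine good_of (m := 2) (few_nr (n := 5) [5, 7, 11] (NotCT.Orders.m22 h) (fun r hr hd hR => nr_m22' h hr hd hR) (by simp))
      (two_le_of_eight ?_) le_rfl
    obtain ⟨e⟩ := h
    obtain ⟨g, hg⟩ := Spor.m22_eight
    exact eight_equiv e ⟨g, by rw [hg]⟩
  · refine good_of_le (n := 4) (few_of_list [11, 23] (by simp) fun r hr hd hR => ?_) le_rfl
    by_cases h5 : r = 5
    · subst h5; exact conn_of (conn_five_m23 h)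
    · exact conn_of ((nr_m23' h hr (NotCT.Orders.m23 h ▸ hd) (by simpa [h5] using hR)).conn)
  · exact good_of_le (few_nr (n := 4) [11, 23] (NotCT.Orders.m24 h) (fun r hr hd hR => nr_m24' h hr hd hR) (by simp)) le_rfl
  · exact absurd h hJ
  · exact good_of_le (few_nr (n := 4) [7] (NotCT.Orders.j2 h) (fun r hr hd hR => nr_j2 h hr hd hR) (by simp)) le_rfl
  · exact good_of_le (few_nr (n := 4) [17, 19] (NotCT.Orders.j3 h) (fun r hr hd hR => nr_j3 h hr hd hR) (by simp)) le_rfl
  · refine good_of (m := 4) (few_nr (n := 7) [23, 29, 31, 37, 43] (NotCT.Orders.j4 h)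
      (fun r hr hd hR => nr_j4 h hr hd hR) (by simp)) ?_ le_rfl
    obtain ⟨⟨g, hg⟩, h3⟩ := Spor.j4_facts h
    have := ge_of_subset (K := K) {8, 2 * 3 * 5, 2 * 3 * 7, 2 * 3 * 11} (by
      intro n hn
      simp only [Finset.mem_insert, Finset.mem_singleton] at hn
      rcases hn with rfl | rfl | rfl | rfl
      · exact mem_eight hg
      · exact mem_ot_of_three (by norm_num) (by norm_num) (by norm_num) (h3 5 (by norm_num))
      · exact mem_ot_of_three (by norm_num) (by norm_num) (by norm_num) (h3 7 (by norm_num))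
      · exact mem_ot_of_three (by norm_num) (by norm_num) (by norm_num) (h3 11 (by norm_num)))
    simpa using this
  · exact good_of_le (few_nr (n := 4) [23] (NotCT.Orders.co1 h) (fun r hr hd hR => nr_co1 h hr hd hR) (by simp)) le_rfl
  · exact good_of_le (few_nr (n := 4) [11, 23] (NotCT.Orders.co2 h) (fun r hr hd hR => nr_co2 h hr hd hR) (by simp)) le_rfl
  · exact good_of_le (few_nr (n := 4) [23] (NotCT.Orders.co3 h) (fun r hr hd hR => nr_co3 h hr hd hR) (by simp)) le_rfl
  · exact good_of_le (few_nr (n := 4) [11] (NotCT.Orders.mcl h) (fun r hr hd hR => nr_mcl h hr hd hR) (by simp)) le_rfl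
  · exact good_of_le (few_nr (n := 4) [7, 11] (NotCT.Orders.hs h) (fun r hr hd hR => nr_hs h hr hd hR) (by simp)) le_rfl
  · exact good_of_le (few_nr (n := 4) [11, 13] (NotCT.Orders.suz h) (fun r hr hd hR => nr_suz h hr hd hR) (by simp)) le_rfl
  · exact good_of_le (few_nr (n := 4) [17] (NotCT.Orders.he h) (fun r hr hd hR => nr_he h hr hd hR) (by simp)) le_rfl
  · exact good_of_le (few_nr (n := 4) [29] (NotCT.Orders.ru h) (fun r hr hd hR => nr_ru h hr hd hR) (by simp)) le_rfl
  · refine good_of (m := 2) (few_nr (n := 5) [11, 19, 31] (NotCT.Orders.on h) (fun r hr hd hR => nr_on h hr hd hR) (by simp))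
      (two_le_of_eight ?_) le_rfl
    obtain ⟨e⟩ := h
    obtain ⟨g, hg⟩ := Spor.on_eight
    exact eight_equiv e ⟨g, by rw [hg]⟩
  · refine good_of (m := 2) (few_nr (n := 5) [31, 37, 67] (NotCT.Orders.ly h) (fun r hr hd hR => nr_ly h hr hd hR) (by simp))
      (two_le_of_eight ?_) le_rfl
    obtain ⟨e⟩ := h
    exact eight_equiv e Spor.ly_eight
  · exact good_of_le (few_nr (n := 4) [13] (NotCT.Orders.fi22 h) (fun r hr hd hR => nr_fi22 h hr hd hR) (by simp)) le_rfl
  · exact good_of_le (few_nr (n := 4) [17, 23] (NotCT.Orders.fi23 h) (fun r hr hd hR => nr_fi23 h hr hd hR) (by simp)) le_rfl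
  · refine good_of (m := 2) (few_nr (n := 5) [17, 23, 29] (NotCT.Orders.fi24 h) (fun r hr hd hR => nr_fi24 h hr hd hR) (by simp))
      (two_le_of_eight ?_) le_rfl
    obtain ⟨e⟩ := h
    exact eight_equiv e Spor.fi24_eight
  · exact good_of_le (few_nr (n := 4) [19] (NotCT.Orders.hn h) (fun r hr hd hR => nr_hn h hr hd hR) (by simp)) le_rfl
  · refine good_of (m := 2) (few_nr (n := 5) [13, 19, 31] (NotCT.Orders.th h) (fun r hr hd hR => nr_th h hr hd hR) (by simp))
      ?_ le_rfl
    obtain ⟨e⟩ := h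
    obtain ⟨g, hg⟩ := eight_equiv e Spor.th_facts.1
    obtain ⟨g', hg'⟩ := eight_equiv e Spor.th_facts.2
    have := ge_of_subset (K := K) {4, 2 * 3 * 5} (by
      intro n hn
      simp only [Finset.mem_insert, Finset.mem_singleton] at hn
      rcases hn with rfl | rfl
      · exact mem_four hg
      · exact mem_ot_of_three (by norm_num) (by norm_num) (by norm_num) (of_dvd hg'))
    simpa using this
  · exact good_of_le (few_nr (n := 4) [31, 47] (NotCT.Orders.b h) (fun r hr hd hR => nr_b h hr hd hR) (by simp)) le_rfl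
  · refine good_of (m := 3) (few_nr (n := 6) [29, 41, 59, 71] (NotCT.Orders.m h) (fun r hr hd hR => nr_m h hr hd hR) (by simp))
      ?_ le_rfl
    obtain ⟨e⟩ := h
    obtain ⟨h1, h2, h3⟩ := Spor.m_facts
    have := ge_of_subset (K := K) {2 * 2 * 3, 2 * 3 * 5, 2 * 3 * 7} (by
      intro n hn
      simp only [Finset.mem_insert, Finset.mem_singleton] at hn
      rcases hn with rfl | rfl | rfl
      · exact mem_ot_of_three (by norm_num) (by norm_num) (by norm_num) (Exc.of_equiv e h1)
      · exact mem_ot_of_three (by norm_num) (by norm_num) (by norm_num) (Exc.of_equiv e h2)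
      · exact mem_ot_of_three (by norm_num) (by norm_num) (by norm_num) (Exc.of_equiv e h3))
    simpa using this

/-! ### Exceptional groups -/

theorem three_le {K : Type u} [Group K] [Finite K] (h8 : ∃ x : K, orderOf x = 8)
    (h : (∃ x : K, orderOf x = 12) ∨ ∃ x : K, orderOf x = 16) : 3 ≤ (OtS K).ncard := by
  obtain ⟨g, hg⟩ := h8
  have h1 : 4 ∈ OtS K := mem_four (g := g) (by rw [hg]; norm_num)
  have h2 : 8 ∈ OtS K := mem_eight (g := g) (by rw [hg])
  rcases h with h | h
  · have h3 : 2 * 2 * 3 ∈ OtS K := mem_ot_of_three (by norm_num) (by norm_num) (by norm_num) h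
    have := ge_of_subset (K := K) {4, 8, 2 * 2 * 3} (by
      intro n hn
      simp only [Finset.mem_insert, Finset.mem_singleton] at hn
      rcases hn with rfl | rfl | rfl <;> assumption)
    simpa using this
  · have h3 : 4 * 2 * 2 ∈ OtS K := mem_ot_of_three (by norm_num) (by norm_num) (by norm_num) h
    have := ge_of_subset (K := K) {4, 8, 4 * 2 * 2} (by
      intro n hn
      simp only [Finset.mem_insert, Finset.mem_singleton] at hn
      rcases hn with rfl | rfl | rfl <;> assumption)
    simpa using this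

theorem exceptional {K : Type u} [Group K] [Finite K] (h : IsExceptionalLieType K) :
    Cfsg.Lie.IsoSuzuki K ∨ Good K := by
  rcases h with h | h | h | h | h | h | h | h | h | h | h
  · exact Or.inr (good_of_le (few_isoChevG2 h) le_rfl)
  · exact Or.inr (good_of_le (few_isoF4 h) le_rfl)
  · exact Or.inr (good_of_le (few_isoE6 h) (by norm_num))
  · exact Or.inr (good_of_le (few_isoE7 h) le_rfl)
  · exact Or.inr (good_of (few_isoE8 h) (three_le (H374.EightExc.E8 h) (Exc.E8 h)) (by norm_num))
  · exact Or.inr (good_of (H493.PGE6T.few_iso2E6 h) (three_le (H374.EightExc.twE6 h) (Exc.twE6 h)) (by norm_num))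
  · exact Or.inr (good_of_le (H493.PGD4T.few_iso3D4 h) (by norm_num))
  · exact Or.inl h
  · exact Or.inr (good_of_le (few_isoRee h) le_rfl)
  · exact Or.inr (good_of_le (H493.PGF4T.few_iso2F4 h) le_rfl)
  · exact Or.inr (good_of_le (few_tits h) (by norm_num))

/-! ### Alternating groups -/

theorem conn_alt_three {n r : ℕ} (hr : r.Prime) (hr2 : r ≠ 2) (hr3 : r ≠ 3) (hn : r + 3 ≤ n) :
    Conn (alternatingGroup (Fin n)) r 3 := by
  have hodd : Odd r := hr.odd_of_ne_two hr2
  obtain ⟨g, hg⟩ := (Equiv.Perm.exists_with_cycleType_iff (Fin n) (m := {r, 3})).2 ⟨by simp; omega, by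
    intro a ha
    simp only [Multiset.insert_eq_cons, Multiset.mem_cons, Multiset.mem_singleton] at ha
    rcases ha with rfl | rfl
    · exact hr.two_le
    · norm_num⟩
  have hs : g ∈ alternatingGroup (Fin n) := by
    rw [Equiv.Perm.mem_alternatingGroup, Equiv.Perm.sign_of_cycleType, hg]
    obtain ⟨k, rfl⟩ := hodd
    simp only [Multiset.insert_eq_cons, Multiset.sum_cons, Multiset.sum_singleton, Multiset.card_cons,
      Multiset.card_singleton]
    exact Even.neg_one_pow ⟨k + 3, by ring⟩
  have ho : orderOf g = Nat.lcm r 3 := by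
    rw [← Equiv.Perm.lcm_cycleType, hg]
    simp only [Multiset.insert_eq_cons, Multiset.lcm_cons, Multiset.lcm_singleton]
    simp
    rfl
  have ho' : orderOf (⟨g, hs⟩ : alternatingGroup (Fin n)) = Nat.lcm r 3 := by rw [Subgroup.orderOf_mk, ho]
  exact conn_of_dvd_orderOf (g := ⟨g, hs⟩) hr Nat.prime_three (ho' ▸ Nat.dvd_lcm_left _ _) (ho' ▸ Nat.dvd_lcm_right _ _)

theorem alt {n : ℕ} (hn : 7 ≤ n) : Few 4 (alternatingGroup (Fin n)) := by
  have key : ∀ r, r.Prime → r ∣ Nat.card (alternatingGroup (Fin n)) → r + 3 ≤ n → Conn (alternatingGroup (Fin n)) r 2 := by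
    intro r hr hd hrn
    by_cases hr2 : r = 2
    · rw [hr2]
      exact Conn.refl _
    · by_cases hr3 : r = 3
      · rw [hr3]
        exact conn_alt Nat.prime_three (by norm_num) (by omega)
      · exact (conn_alt_three hr hr2 hr3 hrn).trans (conn_alt Nat.prime_three (by norm_num) (by omega))
  have hle : ∀ r, r.Prime → r ∣ Nat.card (alternatingGroup (Fin n)) → r ≤ n := by
    intro r hr hd
    have h1 : r ∣ n.factorial := by
      have h2 : Nat.card (alternatingGroup (Fin n)) ∣ Nat.card (Equiv.Perm (Fin n)) :=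
        Subgroup.card_subgroup_dvd_card _
      rw [Nat.card_eq_fintype_card (α := Equiv.Perm (Fin n)), Fintype.card_perm, Fintype.card_fin] at h2
      exact hd.trans h2
    exact (Nat.Prime.dvd_factorial hr).1 h1
  rcases Nat.even_or_odd n with he | ho
  · refine few_of_list [n - 1] (by simp) fun r hr hd hR => ?_
    simp only [List.mem_cons, List.not_mem_nil, or_false] at hR
    have h3 := hle r hr hd
    by_cases hr2 : r = 2
    · rw [hr2]
      exact Conn.refl _
    have hodd : Odd r := hr.odd_of_ne_two hr2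
    refine key r hr hd ?_
    obtain ⟨a, ha⟩ := he
    obtain ⟨b, hb⟩ := hodd
    omega
  · refine few_of_list [n, n - 2] (by simp) fun r hr hd hR => ?_
    simp only [List.mem_cons, List.not_mem_nil, or_false, not_or] at hR
    have h3 := hle r hr hd
    by_cases hr2 : r = 2
    · rw [hr2]
      exact Conn.refl _
    have hodd : Odd r := hr.odd_of_ne_two hr2
    refine key r hr hd ?_
    obtain ⟨a, ha⟩ := ho
    obtain ⟨b, hb⟩ := hodd
    omega

/-! ### The list -/

/-- the four families which are not `Good` -/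
def Bad (K : Type u) [Group K] : Prop :=
  (∃ (F : Type) (_ : Field F) (_ : Fintype F), 4 ≤ Fintype.card F ∧
    Nonempty (K ≃* Matrix.ProjectiveSpecialLinearGroup (Fin 2) F)) ∨ Cfsg.Lie.IsoSuzuki K ∨
  (∃ (F : Type) (_ : Field F) (_ : Fintype F), Fintype.card F = 4 ∧
    Nonempty (K ≃* Matrix.ProjectiveSpecialLinearGroup (Fin 3) F)) ∨ Cfsg.Spor.IsoJ1 K

theorem psl {K : Type u} [Group K] (h : IsPSL K) : Bad K ∨ Good K := by
  obtain ⟨F, i1, i2, n, hn, h4, ⟨e⟩⟩ := h
  rcases Nat.lt_or_ge n 3 with h3 | h3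
  · obtain rfl : n = 2 := by omega
    exact Or.inl (Or.inl ⟨F, i1, i2, h4 rfl, ⟨e⟩⟩)
  · by_cases hex : n = 3 ∧ (Nat.card F = 2 ∨ Nat.card F = 4)
    · obtain ⟨rfl, hex | hex⟩ := hex
      · left; left
        haveI : Fact (Nat.Prime 7) := ⟨by norm_num⟩
        obtain ⟨f⟩ := S0255.result (F := ZMod 7) (K := F) (ZMod.card 7) (by rw [← Nat.card_eq_fintype_card]; exact hex)
        exact ⟨ZMod 7, inferInstance, inferInstance, by rw [ZMod.card]; norm_num, ⟨e.trans f.symm⟩⟩
      · left; right; right; left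
        exact ⟨F, i1, i2, by rw [← Nat.card_eq_fintype_card]; exact hex, ⟨e⟩⟩
    · right
      refine good_of_le (n := 3) (Few.congr e.symm (few_of_two le_rfl fun r s hr hs hr2 hs2 hrd hsd => ?_)) (by norm_num)
      rcases H371.Psl.three h3 hr hs hr2 hs2 hrd hsd with h | h | h | h
      · exact Or.inl (conn_of h)
      · exact Or.inr (Or.inl (conn_of h))
      · exact Or.inr (Or.inr (conn_of h))
      · exact absurd h hex

theorem bad_or_good {K : Type u} [Group K] [Finite K] [IsSimpleGroup K] (hna : ¬ IsMulCommutative K)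
    (hK : IsKnownSimple' K) : Bad K ∨ Good K := by
  rcases hK with h | h | h | h | h | h | h | h | h | h
  · exfalso
    haveI : Fact (Nat.Prime (Nat.card K)) := ⟨h⟩
    haveI : IsCyclic K := isCyclic_of_prime_card (p := Nat.card K) rfl
    apply hna
    letI : CommGroup K := IsCyclic.commGroup
    exact ⟨⟨fun a b => mul_comm a b⟩⟩
  · obtain ⟨n, hn, ⟨e⟩⟩ := h
    rcases (show n = 5 ∨ n = 6 ∨ 7 ≤ n by omega) with rfl | rfl | h7
    · left; left
      let _ : Fintype (GaloisField 2 2) := Fintype.ofFinite _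
      have hF : Fintype.card (GaloisField 2 2) = 4 := by
        rw [Fintype.card_eq_nat_card, GaloisField.card 2 2 (by norm_num)]; norm_num
      obtain ⟨f⟩ := S0252.result hF
      exact ⟨GaloisField 2 2, inferInstance, inferInstance, hF.ge, ⟨e.trans f.symm⟩⟩
    · left; left
      let _ : Fintype (GaloisField 3 2) := Fintype.ofFinite _
      have hF : Fintype.card (GaloisField 3 2) = 9 := by
        rw [Fintype.card_eq_nat_card, GaloisField.card 3 2 (by norm_num)]; norm_num
      obtain ⟨f⟩ := S0254.result hF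
      exact ⟨GaloisField 3 2, inferInstance, inferInstance, by rw [hF]; norm_num, ⟨e.trans f.symm⟩⟩
    · exact Or.inr (good_of_le (Few.congr e.symm (alt h7)) le_rfl)
  · exact psl h
  · exact Or.inr (good_of_le (few_psp h) (by norm_num))
  · exact Or.inr (good_of_le (few_psu h) le_rfl)
  · exact Or.inr (good_of_le (few_omegaOdd h) (by norm_num))
  · exact Or.inr (good_of_le (few_omegaPlus h) (by norm_num))
  · exact Or.inr (good_of_le (few_omegaMinus h) le_rfl)
  · rcases exceptional h with h | h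
    · exact Or.inl (Or.inr (Or.inl h))
    · exact Or.inr h
  · by_cases hJ : Cfsg.Spor.IsoJ1 K
    · exact Or.inl (Or.inr (Or.inr (Or.inr hJ)))
    · exact Or.inr (sporadic h hJ)

theorem ree_ot {K : Type u} [Group K] (h : Cfsg.Lie.IsoRee K) : 9 ∈ OtS K := by
  obtain ⟨F, i1, i2, m, hm, hF, ⟨e⟩⟩ := h
  obtain ⟨g, hg⟩ := (S1159.result hm hF 9).2 (Or.inr (Or.inl dvd_rfl))
  exact Spor.mem_ot_sq Nat.prime_three ⟨e.symm g, by rw [MulEquiv.orderOf_eq, hg]⟩

/-- **Outside the four families there are few components.** -/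
theorem bad_or_few {K : Type u} [Group K] [Finite K] [IsSimpleGroup K] (hna : ¬ IsMulCommutative K)
    (hK : IsKnownSimple' K) (hE : ∃ E : Subgroup K, IsKleinFour E) : Bad K ∨ Few (3 + (OtS K).ncard) K := by
  rcases bad_or_good hna hK with h | h | h
  · exact Or.inl h
  · rcases Nat.eq_zero_or_pos (OtS K).ncard with h0 | h0
    · left
      have hot : OtS K = ∅ := (Set.ncard_eq_zero finite_OtS).1 h0
      rcases simple_of_ot inferInstance hna hot hE with ⟨F, i1, i2, n, h1, h2, ⟨f⟩⟩ | h | h |
          ⟨F, i1, i2, r, b, h1, h2, h3, h4, ⟨f⟩⟩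
      · left
        refine ⟨F, i1, i2, ?_, ?_⟩
        · rw [h2]
          calc 4 = 2 ^ 2 := by norm_num
            _ ≤ 2 ^ n := Nat.pow_le_pow_right (by norm_num) h1
        · have h0 : (2 : F) = 0 := by
            have h3 : ((Fintype.card F : ℕ) : F) = 0 := Nat.cast_card_eq_zero F
            rw [h2] at h3
            push_cast at h3
            exact pow_eq_zero_iff (by omega) |>.1 h3
          haveI : CharP F 2 := CharTwo.of_one_ne_zero_of_two_eq_zero one_ne_zero h0
          obtain ⟨g⟩ := H803.RankOneFacts.nonempty_psl_equiv (F := F)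
          exact ⟨f.trans g⟩
      · have := ree_ot h
        rw [hot] at this
        exact absurd this (Set.notMem_empty _)
      · exact Or.inr (Or.inr (Or.inr h))
      · exact Or.inl ⟨F, i1, i2, by rw [h2]; omega, ⟨f⟩⟩
    · exact Or.inr (OC.Few.mono h (by omega))
  · exact Or.inr h

end Cfsg.Agent.H514.OC.Rows
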