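import Cfsg.Agent.H533.T5.Weak
import Cfsg.Agent.S2276
import Cfsg.Agent.H402.AltGrp

/-!
# T5 rows for the alternating groups: the strong row for all `n ≥ 5` and all primes `p ≥ 5`
-/

set_option autoImplicit false

namespace Cfsg.Agent.H514.T5Alt

open Cfsg.Agent.H533.T5

/-- automorphisms of `A_n` of order coprime to `4` are inner -/
theorem mem_range {n : ℕ} (hn : 5 ≤ n) {p : ℕ} (hp : p.Prime) (h2 : p ≠ 2)
    (a : MulAut (alternatingGroup (Fin n))) (ha : orderOf a = p) :
    a ∈ (MulAut.conj : alternatingGroup (Fin n) →* MulAut _).range := by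
  obtain ⟨s, hs⟩ := H402.AltG.inner_four hn a
  have hcop : Nat.Coprime 4 (orderOf a) := by
    rw [ha]
    have : Nat.Coprime (2 ^ 2) p := Nat.Coprime.pow_left 2 ((Nat.coprime_primes Nat.prime_two hp).2 h2.symm)
    simpa using this
  obtain ⟨m, hm⟩ := exists_pow_eq_self_of_coprime hcop
  rw [← hm, hs]
  exact ⟨s ^ m, by rw [map_pow]⟩

/-- **Strong row for `A_n`.** -/
theorem srow {n : ℕ} (hn : 5 ≤ n) {p : ℕ} (hp : p.Prime) (h5 : 5 ≤ p) :
    SRow p (alternatingGroup (Fin n)) := by
  intro c d hc hd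
  obtain ⟨x, rfl⟩ := mem_range hn hp (by omega) c hc
  obtain ⟨y, rfl⟩ := mem_range hn hp (by omega) d hd
  have hinj : Function.Injective (MulAut.conj : alternatingGroup (Fin n) →* MulAut _) := by
    rw [injective_iff_map_eq_one]
    intro z hz
    have h1 : z ∈ Subgroup.center (alternatingGroup (Fin n)) := by
      rw [Subgroup.mem_center_iff]
      intro g
      have h2 := DFunLike.congr_fun hz g
      rw [MulAut.conj_apply, MulAut.one_apply, mul_inv_eq_iff_eq_mul] at h2
      exact h2.symm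
    rw [alternatingGroup.center_eq_bot (by rw [Nat.card_eq_fintype_card, Fintype.card_fin]; omega),
      Subgroup.mem_bot] at h1
    exact h1
  rw [orderOf_injective _ hinj] at hc hd
  have hx1 : x ≠ 1 := by rintro rfl; rw [orderOf_one] at hc; exact hp.one_lt.ne hc
  have hy1 : y ≠ 1 := by rintro rfl; rw [orderOf_one] at hd; exact hp.one_lt.ne hd
  obtain ⟨g, hg1, hg2⟩ := S2276.result n hn p hp (by omega) x y hx1 hy1 ⟨1, by rw [hc, pow_one]⟩ ⟨1, by rw [hd, pow_one]⟩
  have hs : SPair p (⊤ : Subgroup (alternatingGroup (Fin n))) x y :=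
    ⟨⟨g, Subgroup.mem_top g, hg2⟩, ⟨g, Subgroup.mem_top g, hg1⟩⟩
  have := hs.of_injective (MulAut.conj : alternatingGroup (Fin n) →* MulAut _) hinj
  rwa [← MonoidHom.range_eq_map] at this

end Cfsg.Agent.H514.T5Alt
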